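import Mathlib
import Cfsg.Agent.H88.X23Base

/-!
# X23-BITS (S2649, helper89 for helper88): the bit-level lemmas

All the objects are XOR-sums over `List.range`; `xb` (Boolean) and `xn` (natural number) are the
generic XOR-sums, with the usual rules (additivity, exchange of two sums, sums of indicator
functions).
-/

set_option autoImplicit false

namespace Cfsg.Agent.H89.X23

open Cfsg.Agent.H88.X23

/-- Boolean XOR-sum over a list. -/
def xb (l : List ℕ) (p : ℕ → Bool) : Bool := l.foldr (fun i acc => xor (p i) acc) false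

/-- XOR-sum of natural numbers over a list. -/
def xn (l : List ℕ) (f : ℕ → ℕ) : ℕ := l.foldr (fun i acc => f i ^^^ acc) 0

theorem xb_nil (p : ℕ → Bool) : xb [] p = false := rfl

theorem xb_cons (a : ℕ) (l : List ℕ) (p : ℕ → Bool) : xb (a :: l) p = xor (p a) (xb l p) := rfl

theorem xn_nil (f : ℕ → ℕ) : xn [] f = 0 := rfl

theorem xn_cons (a : ℕ) (l : List ℕ) (f : ℕ → ℕ) : xn (a :: l) f = f a ^^^ xn l f := rfl

theorem xn_testBit (l : List ℕ) (f : ℕ → ℕ) (r : ℕ) :
    (xn l f).testBit r = xb l (fun i => (f i).testBit r) := by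
  induction l with
  | nil => rw [xn_nil, xb_nil, Nat.zero_testBit]
  | cons a l ih => rw [xn_cons, Nat.testBit_xor, ih, xb_cons]

theorem xb_xor (l : List ℕ) (p q : ℕ → Bool) :
    xb l (fun i => xor (p i) (q i)) = xor (xb l p) (xb l q) := by
  induction l with
  | nil => rfl
  | cons a l ih =>
    rw [xb_cons, xb_cons, xb_cons, ih]
    cases p a <;> cases q a <;> cases xb l p <;> cases xb l q <;> rfl

theorem xb_false (l : List ℕ) : xb l (fun _ => false) = false := by
  induction l with
  | nil => rfl
  | cons a l ih =>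
    rw [xb_cons, ih]
    rfl

theorem xb_congr {l : List ℕ} {p q : ℕ → Bool} (h : ∀ i ∈ l, p i = q i) : xb l p = xb l q := by
  induction l with
  | nil => rfl
  | cons a l ih =>
    rw [xb_cons, xb_cons, h a List.mem_cons_self,
      ih (fun i hi => h i (List.mem_cons_of_mem _ hi))]

theorem xb_and_right (l : List ℕ) (p : ℕ → Bool) (c : Bool) :
    xb l (fun i => p i && c) = (xb l p && c) := by
  induction l with
  | nil => rfl
  | cons a l ih =>
    rw [xb_cons, xb_cons, ih]
    cases p a <;> cases xb l p <;> cases c <;> rfl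

theorem xb_and_left (l : List ℕ) (p : ℕ → Bool) (c : Bool) :
    xb l (fun i => c && p i) = (c && xb l p) := by
  induction l with
  | nil => cases c <;> rfl
  | cons a l ih =>
    rw [xb_cons, xb_cons, ih]
    cases p a <;> cases xb l p <;> cases c <;> rfl

theorem xb_comm (l l' : List ℕ) (h : ℕ → ℕ → Bool) :
    xb l (fun i => xb l' (fun j => h i j)) = xb l' (fun j => xb l (fun i => h i j)) := by
  induction l with
  | nil =>
    rw [xb_nil]
    exact (xb_false l').symm
  | cons a l ih =>
    rw [xb_cons, ih, ← xb_xor]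
    rfl

theorem xb_single (l : List ℕ) (hl : l.Nodup) (i : ℕ) (p : ℕ → Bool) :
    xb l (fun k => decide (k = i) && p k) = (decide (i ∈ l) && p i) := by
  induction l with
  | nil => simp [xb_nil]
  | cons a l ih =>
    rw [List.nodup_cons] at hl
    rw [xb_cons, ih hl.2]
    by_cases hai : a = i
    · subst hai
      simp [hl.1]
    · have hia : i ≠ a := fun h => hai h.symm
      simp [hai, hia]

theorem xn_lt (l : List ℕ) (f : ℕ → ℕ) (n : ℕ) (h : ∀ i ∈ l, f i < 2 ^ n) : xn l f < 2 ^ n := by
  induction l with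
  | nil =>
    rw [xn_nil]
    exact Nat.pow_pos (by norm_num)
  | cons a l ih =>
    rw [xn_cons]
    exact Nat.xor_lt_two_pow (h a List.mem_cons_self)
      (ih fun i hi => h i (List.mem_cons_of_mem _ hi))

/-! ### the definitions as XOR-sums -/

theorem pdot_eq (n a b : ℕ) :
    pdot n a b = xb (List.range n) (fun i => a.testBit i && b.testBit i) := rfl

theorem mapply_eq (M : ℕ → ℕ) (c : ℕ) :
    mapply M c = xn (List.range 11) (fun i => if c.testBit i then M i else 0) := rfl

theorem rowm_eq (M : ℕ → ℕ) (r : ℕ) :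
    rowm M r = xn (List.range 11) (fun i => if (M i).testBit r then 2 ^ i else 0) := rfl

theorem tapply_eq (M : ℕ → ℕ) (ρ : ℕ) :
    tapply M ρ = xn (List.range 11) (fun i => if pdot 11 ρ (M i) then 2 ^ i else 0) := rfl

theorem pdotV_eq (nv m : ℕ) (val : ℕ → ℕ) :
    pdotV nv m val = xb (List.range nv) (fun v => pdot 11 (m >>> (11 * v)) (val v)) := rfl

/-- A bit of a sum of indicator powers of two. -/
theorem xn_ind_testBit (l : List ℕ) (hl : l.Nodup) (p : ℕ → Bool) (i : ℕ) :
    (xn l (fun k => if p k then 2 ^ k else 0)).testBit i = (decide (i ∈ l) && p i) := by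
  rw [xn_testBit, ← xb_single l hl i p]
  apply xb_congr
  intro k _
  by_cases hp : p k
  · simp [hp, Nat.testBit_two_pow]
  · simp [hp]

theorem xn_ind_lt (p : ℕ → Bool) :
    xn (List.range 11) (fun i => if p i then 2 ^ i else 0) < 2048 := by
  have h := xn_lt (List.range 11) (fun i => if p i then 2 ^ i else 0) 11 (by
    intro i hi
    rw [List.mem_range] at hi
    show (if p i then 2 ^ i else 0) < 2 ^ 11
    split_ifs
    · exact Nat.pow_lt_pow_right (by norm_num) hi
    · norm_num)
  have e : (2 : ℕ) ^ 11 = 2048 := by norm_num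
  rw [e] at h
  exact h

theorem mapply_testBit (M : ℕ → ℕ) (c r : ℕ) :
    (mapply M c).testBit r = xb (List.range 11) (fun i => c.testBit i && (M i).testBit r) := by
  rw [mapply_eq, xn_testBit]
  apply xb_congr
  intro i _
  by_cases hc : c.testBit i <;> simp [hc]

theorem rowm_testBit (M : ℕ → ℕ) (r i : ℕ) (hi : i < 11) :
    (rowm M r).testBit i = (M i).testBit r := by
  rw [rowm_eq, xn_ind_testBit (List.range 11) List.nodup_range (fun k => (M k).testBit r) i]
  simp [hi]

theorem tapply_testBit (M : ℕ → ℕ) (ρ k : ℕ) (hk : k < 11) :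
    (tapply M ρ).testBit k = pdot 11 ρ (M k) := by
  rw [tapply_eq, xn_ind_testBit (List.range 11) List.nodup_range (fun k => pdot 11 ρ (M k)) k]
  simp [hk]

theorem pdot_xor_left (n a a' b : ℕ) : pdot n (a ^^^ a') b = xor (pdot n a b) (pdot n a' b) := by
  rw [pdot_eq, pdot_eq, pdot_eq, ← xb_xor]
  apply xb_congr
  intro i _
  rw [Nat.testBit_xor, Bool.and_xor_distrib_right]

theorem pdot_zero_left (n b : ℕ) : pdot n 0 b = false := by
  rw [pdot_eq, ← xb_false (List.range n)]
  apply xb_congr
  intro i _
  rw [Nat.zero_testBit]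
  rfl

/-! ### the twelve facts -/

theorem mapply_xor (M : ℕ → ℕ) (v w : ℕ) : mapply M (v ^^^ w) = mapply M v ^^^ mapply M w := by
  apply Nat.eq_of_testBit_eq
  intro r
  rw [Nat.testBit_xor, mapply_testBit, mapply_testBit, mapply_testBit, ← xb_xor]
  apply xb_congr
  intro i _
  rw [Nat.testBit_xor, Bool.and_xor_distrib_right]

theorem mapply_zero (M : ℕ → ℕ) : mapply M 0 = 0 := by
  apply Nat.eq_of_testBit_eq
  intro r
  rw [mapply_testBit, Nat.zero_testBit, ← xb_false (List.range 11)]
  apply xb_congr
  intro i _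
  rw [Nat.zero_testBit]
  rfl

theorem mapply_lt (M : ℕ → ℕ) (c : ℕ) (h : ∀ i < 11, M i < 2048) : mapply M c < 2048 := by
  have h1 := xn_lt (List.range 11) (fun i => if c.testBit i then M i else 0) 11 (by
    intro i hi
    rw [List.mem_range] at hi
    show (if c.testBit i then M i else 0) < 2 ^ 11
    split_ifs
    · exact h i hi
    · norm_num)
  have e : (2 : ℕ) ^ 11 = 2048 := by norm_num
  rw [e] at h1
  exact h1

theorem mapply_testBit_pdot (M : ℕ → ℕ) (c r : ℕ) :
    (mapply M c).testBit r = pdot 11 (rowm M r) c := by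
  rw [mapply_testBit, pdot_eq]
  apply xb_congr
  intro i hi
  rw [List.mem_range] at hi
  rw [rowm_testBit M r i hi, Bool.and_comm]

theorem pdot_mapply (M : ℕ → ℕ) (ρ c : ℕ) : pdot 11 ρ (mapply M c) = pdot 11 (tapply M ρ) c := by
  rw [pdot_eq, pdot_eq]
  have h1 : xb (List.range 11) (fun i => ρ.testBit i && (mapply M c).testBit i)
      = xb (List.range 11) (fun i => xb (List.range 11)
          (fun k => ρ.testBit i && (c.testBit k && (M k).testBit i))) := by
    apply xb_congr
    intro i _
    rw [mapply_testBit, xb_and_left]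
  have h2 : xb (List.range 11) (fun k => (tapply M ρ).testBit k && c.testBit k)
      = xb (List.range 11) (fun k => xb (List.range 11)
          (fun i => ρ.testBit i && (c.testBit k && (M k).testBit i))) := by
    apply xb_congr
    intro k hk
    rw [List.mem_range] at hk
    rw [tapply_testBit M ρ k hk, pdot_eq, ← xb_and_right]
    apply xb_congr
    intro i _
    cases ρ.testBit i <;> cases c.testBit k <;> cases (M k).testBit i <;> rfl
  rw [h1, h2, xb_comm]

theorem testBit_eq_pdot (c r : ℕ) (hr : r < 11) : c.testBit r = pdot 11 (2 ^ r) c := by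
  rw [pdot_eq]
  have h1 : xb (List.range 11) (fun i => (2 ^ r).testBit i && c.testBit i)
      = xb (List.range 11) (fun i => decide (i = r) && c.testBit i) := by
    apply xb_congr
    intro i _
    rw [Nat.testBit_two_pow]
    by_cases hir : i = r
    · simp [hir]
    · have hri : r ≠ i := fun h => hir h.symm
      simp [hir, hri]
  rw [h1, xb_single _ List.nodup_range]
  simp [hr]

theorem pdotV_xor (nv m m' : ℕ) (val : ℕ → ℕ) :
    pdotV nv (m ^^^ m') val = xor (pdotV nv m val) (pdotV nv m' val) := by
  rw [pdotV_eq, pdotV_eq, pdotV_eq, ← xb_xor]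
  apply xb_congr
  intro v _
  rw [Nat.shiftRight_xor_distrib, pdot_xor_left]

theorem pdotV_zero (nv : ℕ) (val : ℕ → ℕ) : pdotV nv 0 val = false := by
  rw [pdotV_eq, ← xb_false (List.range nv)]
  apply xb_congr
  intro v _
  rw [Nat.zero_shiftRight, pdot_zero_left]

theorem pdotV_shift (nv v0 ρ : ℕ) (val : ℕ → ℕ) (hv : v0 < nv) (hρ : ρ < 2048) :
    pdotV nv (ρ <<< (11 * v0)) val = pdot 11 ρ (val v0) := by
  have e : (2 : ℕ) ^ 11 = 2048 := by norm_num
  rw [pdotV_eq]
  have h1 : xb (List.range nv) (fun v => pdot 11 (ρ <<< (11 * v0) >>> (11 * v)) (val v))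
      = xb (List.range nv) (fun v => decide (v = v0) && pdot 11 ρ (val v0)) := by
    apply xb_congr
    intro v _
    by_cases hvv : v = v0
    · subst hvv
      rw [Nat.shiftLeft_shiftRight]
      simp
    · simp only [hvv, decide_false, Bool.false_and]
      rw [pdot_eq, ← xb_false (List.range 11)]
      apply xb_congr
      intro i hi
      rw [List.mem_range] at hi
      rw [Nat.testBit_shiftRight, Nat.testBit_shiftLeft]
      rcases Nat.lt_or_gt_of_ne hvv with hlt | hgt
      · have h3 : ¬ (11 * v + i ≥ 11 * v0) := by omega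
        simp [h3]
      · have h11 : 11 ≤ 11 * v + i - 11 * v0 := by omega
        have h4 : ρ.testBit (11 * v + i - 11 * v0) = false := by
          apply Nat.testBit_lt_two_pow
          calc ρ < 2 ^ 11 := by rw [e]; exact hρ
            _ ≤ 2 ^ (11 * v + i - 11 * v0) := Nat.pow_le_pow_right (by norm_num) h11
        simp [h4]
  rw [h1, xb_single _ List.nodup_range v0 (fun _ => pdot 11 ρ (val v0))]
  simp [hv]

theorem eq_zero_of_bits (c : ℕ) (hc : c < 2048) (h : ∀ r < 11, c.testBit r = false) : c = 0 := by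
  have e : (2 : ℕ) ^ 11 = 2048 := by norm_num
  apply Nat.eq_of_testBit_eq
  intro i
  rw [Nat.zero_testBit]
  by_cases hi : i < 11
  · exact h i hi
  · apply Nat.testBit_lt_two_pow
    calc c < 2 ^ 11 := by rw [e]; exact hc
      _ ≤ 2 ^ i := Nat.pow_le_pow_right (by norm_num) (by omega)

theorem bits : StBits :=
  ⟨mapply_xor, mapply_zero, mapply_lt, mapply_testBit_pdot, pdot_mapply,
    fun M r => by rw [rowm_eq]; exact xn_ind_lt _,
    fun M ρ => by rw [tapply_eq]; exact xn_ind_lt _,
    testBit_eq_pdot, pdotV_xor, pdotV_zero, pdotV_shift, eq_zero_of_bits⟩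

example : StBits := bits

end Cfsg.Agent.H89.X23
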