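import Mathlib
import Cfsg.Agent.H33.C3.Defs

/-!
# Pieces C3-WX and C3-WZ of the team project S2071 (led by helper33)

The coordinate permutations `tau` and `beta` give elements of the stabiliser `G3` of `a48`
that act on the table of 552 vectors as the coded permutations `pX` and `pZ`.
-/

set_option autoImplicit false
set_option maxRecDepth 100000

namespace Cfsg.Agent.H89.C3

open Cfsg Cfsg.Agent.H9 Cfsg.Agent.H93 Cfsg.Agent.H33 Cfsg.Agent.H33.C3

/-- the monomial element of a permutation without sign changes acts by permuting coordinates -/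
theorem pmHom_smul (ρ : ↥M24) (v : leechLattice) :
    (((pmHom ρ : ↥Co0) • v : leechLattice) : GolayPt → ℤ)
      = Cfsg.Agent.H93.pm ρ.1⁻¹ (v : GolayPt → ℤ) := by
  have h := actsAs_pmHom ρ v
  have e : (((pmHom ρ : ↥Co0) • v : leechLattice) : GolayPt → ℤ)
      = signedPerm ρ.1 ∅ (v : GolayPt → ℤ) := h
  rw [e]
  funext i
  show (if i ∈ (∅ : Finset GolayPt) then _ else _) = _
  rw [if_neg (Finset.notMem_empty i)]
  rfl

/-- a coordinate permutation in the group of the code that fixes the packed vector `LF552A` and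
maps the table to itself as the coded permutation -/
theorem coord_ok {σ : Equiv.Perm GolayPt} (hσ : σ ∈ M24) {Q c ci : ℕ} (hQ : Rep Q σ⁻¹)
    (hc : invOK c ci = true) (hA : Nat.beq (pmV Q LF552A) LF552A = true)
    (htab : allB (fun j => Nat.beq (pmV Q (fldW 192 LF552E j))
      (fldW 192 LF552E (g16 c j))) 552 = true) :
    ∃ x : ↥Co0, x ∈ G3 ∧ Cfsg.Agent.H93.ActsAs x σ ∅ ∧ ActsAs552 x (permOf c ci hc) := by
  refine ⟨pmHom ⟨σ, hσ⟩, ?_, actsAs_pmHom ⟨σ, hσ⟩, ?_⟩
  · rw [MulAction.mem_stabilizer_iff]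
    apply Subtype.ext
    rw [pmHom_smul]
    show Cfsg.Agent.H93.pm σ⁻¹ (vec LF552A) = vec LF552A
    rw [← vec_pmV hQ, Nat.eq_of_beq_eq_true hA]
  · intro j v hv
    rw [pmHom_smul, hv]
    show Cfsg.Agent.H93.pm σ⁻¹ (vec (fldW 192 LF552E j.val)) = vec (fldW 192 LF552E (g16 c j.val))
    have h := (allB_iff _ _).mp htab j.val j.isLt
    rw [← vec_pmV hQ, Nat.eq_of_beq_eq_true h]

/-- packed code of `tau` -/
def qX : ℕ := 0xb2ce568d2289a817926c9220e556e0
/-- packed code of the inverse of `tau` -/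
def qXi : ℕ := 0xdc4d49de559268b0e26aba8a94180
/-- packed code of `beta` -/
def qZ : ℕ := 0xbd6717b56939461b52507314831040
/-- packed code of the inverse of `beta` -/
def qZi : ℕ := 0xbaecaaa68899e468960478dc268580

theorem rep_tau : Rep qX tau := by decide +kernel

theorem rep_tauInv : Rep qXi tau⁻¹ := by decide +kernel

theorem rep_beta : Rep qZ beta := by decide +kernel

theorem rep_betaInv : Rep qZi beta⁻¹ := by decide +kernel

theorem tau_mem : tau ∈ M24 := mem_M24_of_chk rep_tau (by decide +kernel)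

theorem beta_mem : beta ∈ M24 := mem_M24_of_chk rep_beta (by decide +kernel)

theorem fixA_X : Nat.beq (pmV qXi LF552A) LF552A = true := by decide +kernel

theorem fixA_Z : Nat.beq (pmV qZi LF552A) LF552A = true := by decide +kernel

theorem tab_X : allB (fun j => Nat.beq (pmV qXi (fldW 192 LF552E j))
    (fldW 192 LF552E (g16 cX j))) 552 = true := by decide +kernel

theorem tab_Z : allB (fun j => Nat.beq (pmV qZi (fldW 192 LF552E j))
    (fldW 192 LF552E (g16 cZ j))) 552 = true := by decide +kernel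

/-- piece C3-WX -/
theorem wX_ok : StWX := coord_ok tau_mem rep_tauInv cX_ok fixA_X tab_X

/-- piece C3-WZ -/
theorem wZ_ok : StWZ := coord_ok beta_mem rep_betaInv cZ_ok fixA_Z tab_Z

example : Cfsg.Agent.H33.C3.StWX := wX_ok
example : Cfsg.Agent.H33.C3.StWZ := wZ_ok

end Cfsg.Agent.H89.C3
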