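import Mathlib
import Cfsg.Agent.H33.C2.Defs
import Cfsg.Agent.H89.C3WX

/-!
# Pieces C2-WX and C2-WZ of the team project S2070 (led by helper33)

The coordinate permutations `tau` and `beta` give elements of the stabiliser `G2` of `b32`
that act on the table of 4600 vectors as the coded permutations `pX2` and `pZ2`.
The table checks are split into eight chunks of 575 entries to keep the memory of the kernel
small.
-/

set_option autoImplicit false
set_option maxRecDepth 100000

namespace Cfsg.Agent.H89.C2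

open Cfsg Cfsg.Agent.H9 Cfsg.Agent.H93 Cfsg.Agent.H33 Cfsg.Agent.H33.C3 Cfsg.Agent.H33.C2
open Cfsg.Agent.H89.C3

/-- the check of the table entry `j`: the coordinate permutation packed in `Q` maps it to the
entry `g16 c j` -/
def chk (Q c j : ℕ) : Bool :=
  Nat.beq (pmV Q (fldW 192 LF4600E j)) (fldW 192 LF4600E (g16 c j))

/-- eight chunks of 575 entries cover the table -/
theorem chunk8 (f : ℕ → Bool)
    (h0 : allB (fun i => f (0 + i)) 575 = true) (h1 : allB (fun i => f (575 + i)) 575 = true)
    (h2 : allB (fun i => f (1150 + i)) 575 = true) (h3 : allB (fun i => f (1725 + i)) 575 = true)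
    (h4 : allB (fun i => f (2300 + i)) 575 = true) (h5 : allB (fun i => f (2875 + i)) 575 = true)
    (h6 : allB (fun i => f (3450 + i)) 575 = true) (h7 : allB (fun i => f (4025 + i)) 575 = true) :
    ∀ j < 4600, f j = true := by
  intro j hj
  have key : ∀ o : ℕ, allB (fun i => f (o + i)) 575 = true → o ≤ j → j < o + 575 →
      f j = true := by
    intro o ho h1 h2
    have h3 : f (o + (j - o)) = true := (allB_iff _ _).mp ho (j - o) (by omega)
    have e : o + (j - o) = j := by omega
    rw [e] at h3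
    exact h3
  by_cases c1 : j < 575
  · exact key 0 h0 (by omega) (by omega)
  by_cases c2 : j < 1150
  · exact key 575 h1 (by omega) (by omega)
  by_cases c3 : j < 1725
  · exact key 1150 h2 (by omega) (by omega)
  by_cases c4 : j < 2300
  · exact key 1725 h3 (by omega) (by omega)
  by_cases c5 : j < 2875
  · exact key 2300 h4 (by omega) (by omega)
  by_cases c6 : j < 3450
  · exact key 2875 h5 (by omega) (by omega)
  by_cases c7 : j < 4025
  · exact key 3450 h6 (by omega) (by omega)
  · exact key 4025 h7 (by omega) (by omega)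

/-- a coordinate permutation in the group of the code that fixes the packed vector `LF4600A` and
maps the table to itself as the coded permutation -/
theorem coord_ok2 {σ : Equiv.Perm GolayPt} (hσ : σ ∈ M24) {Q c ci : ℕ} (hQ : Rep Q σ⁻¹)
    (hc : invOK2 c ci = true) (hA : Nat.beq (pmV Q LF4600A) LF4600A = true)
    (htab : ∀ j < 4600, chk Q c j = true) :
    ∃ x : ↥Co0, x ∈ G2 ∧ Cfsg.Agent.H93.ActsAs x σ ∅ ∧ ActsAs4600 x (permOf2 c ci hc) := by
  refine ⟨Cfsg.Agent.H93.pmHom ⟨σ, hσ⟩, ?_, Cfsg.Agent.H93.actsAs_pmHom ⟨σ, hσ⟩, ?_⟩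
  · rw [MulAction.mem_stabilizer_iff]
    apply Subtype.ext
    rw [pmHom_smul]
    show Cfsg.Agent.H93.pm σ⁻¹ (vec LF4600A) = vec LF4600A
    rw [← vec_pmV hQ, Nat.eq_of_beq_eq_true hA]
  · intro j v hv
    rw [pmHom_smul, hv]
    show Cfsg.Agent.H93.pm σ⁻¹ (vec (fldW 192 LF4600E j.val))
      = vec (fldW 192 LF4600E (g16 c j.val))
    have h : Nat.beq (pmV Q (fldW 192 LF4600E j.val)) (fldW 192 LF4600E (g16 c j.val)) = true :=
      htab j.val j.isLt
    rw [← vec_pmV hQ, Nat.eq_of_beq_eq_true h]

theorem fixB_X : Nat.beq (pmV qXi LF4600A) LF4600A = true := by decide +kernel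

theorem fixB_Z : Nat.beq (pmV qZi LF4600A) LF4600A = true := by decide +kernel

theorem tX0 : allB (fun i => chk qXi cX2 (0 + i)) 575 = true := by decide +kernel
theorem tX1 : allB (fun i => chk qXi cX2 (575 + i)) 575 = true := by decide +kernel
theorem tX2 : allB (fun i => chk qXi cX2 (1150 + i)) 575 = true := by decide +kernel
theorem tX3 : allB (fun i => chk qXi cX2 (1725 + i)) 575 = true := by decide +kernel
theorem tX4 : allB (fun i => chk qXi cX2 (2300 + i)) 575 = true := by decide +kernel
theorem tX5 : allB (fun i => chk qXi cX2 (2875 + i)) 575 = true := by decide +kernel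
theorem tX6 : allB (fun i => chk qXi cX2 (3450 + i)) 575 = true := by decide +kernel
theorem tX7 : allB (fun i => chk qXi cX2 (4025 + i)) 575 = true := by decide +kernel

theorem tZ0 : allB (fun i => chk qZi cZ2 (0 + i)) 575 = true := by decide +kernel
theorem tZ1 : allB (fun i => chk qZi cZ2 (575 + i)) 575 = true := by decide +kernel
theorem tZ2 : allB (fun i => chk qZi cZ2 (1150 + i)) 575 = true := by decide +kernel
theorem tZ3 : allB (fun i => chk qZi cZ2 (1725 + i)) 575 = true := by decide +kernel
theorem tZ4 : allB (fun i => chk qZi cZ2 (2300 + i)) 575 = true := by decide +kernel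
theorem tZ5 : allB (fun i => chk qZi cZ2 (2875 + i)) 575 = true := by decide +kernel
theorem tZ6 : allB (fun i => chk qZi cZ2 (3450 + i)) 575 = true := by decide +kernel
theorem tZ7 : allB (fun i => chk qZi cZ2 (4025 + i)) 575 = true := by decide +kernel

theorem tab_X2 : ∀ j < 4600, chk qXi cX2 j = true :=
  chunk8 _ tX0 tX1 tX2 tX3 tX4 tX5 tX6 tX7

theorem tab_Z2 : ∀ j < 4600, chk qZi cZ2 j = true :=
  chunk8 _ tZ0 tZ1 tZ2 tZ3 tZ4 tZ5 tZ6 tZ7

/-- piece C2-WX -/
theorem wX2_ok : StWX2 := coord_ok2 tau_mem rep_tauInv cX2_ok fixB_X tab_X2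

/-- piece C2-WZ -/
theorem wZ2_ok : StWZ2 := coord_ok2 beta_mem rep_betaInv cZ2_ok fixB_Z tab_Z2

example : Cfsg.Agent.H33.C2.StWX2 := wX2_ok
example : Cfsg.Agent.H33.C2.StWZ2 := wZ2_ok

end Cfsg.Agent.H89.C2
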