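import Cfsg.Agent.H89.PStable
import Cfsg.Agent.H87.CentricExt
import Cfsg.Agent.H88.NormModel
import Cfsg.Agent.H88.Puig
import Cfsg.Agent.H90.SmallFix

set_option autoImplicit false
set_option maxHeartbeats 1000000

/-!
`p`-stability of a saturated fusion system is detected on the normalizer systems of the fully
normalized centric radical subgroups.
-/

namespace Cfsg.Agent.H89

open Cfsg Cfsg.FusionSystem Cfsg.Agent.H86 Cfsg.Agent.H90

variable {Ω : Type*} [Group Ω] {S : Subgroup Ω}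

/-- The automorphisms of `Q` that extend to automorphisms of `R` in the system. -/
def resAut (F : FusionSystem S) {Q R : Subgroup Ω} (hQR : Q ≤ R) (hR : R ≤ S) :
    Subgroup (MulAut Q) where
  carrier := {α | ∃ f, Mor F R f ∧ imgS R f = R ∧ ∀ x ∈ Q, f x = autFun Q α x}
  one_mem' := ⟨fun x => x, Mor.id F hR, Mor.imgS_id R, fun x hx => (autFun_one hx).symm⟩
  mul_mem' := by
    rintro α β ⟨f, hf, hfi, hfα⟩ ⟨g, hg, hgi, hgβ⟩
    have hgR : ∀ x ∈ R, g x ∈ R := fun x hx => hgi ▸ hg.mem_imgS_of_mem hx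
    refine ⟨f ∘ g, hg.comp hf hgR, ?_, fun x hx => ?_⟩
    · rw [hg.imgS_comp hf hgR, hgi, hfi]
    · show f (g x) = _
      rw [hgβ x hx, hfα _ (autFun_mem β hx), autFun_mul α β hx]
  inv_mem' := by
    rintro α ⟨f, hf, hfi, hfα⟩
    have hinv : Mor F R (invOn R f) := by
      have := hf.inv
      rwa [hfi] at this
    refine ⟨invOn R f, hinv, ?_, fun x hx => ?_⟩
    · have := hf.imgS_inv
      rwa [hfi] at this
    · have h1 : f (autFun Q α⁻¹ x) = x := by
        rw [hfα _ (autFun_mem α⁻¹ hx), autFun_apply_inv α hx]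
      have h2 := invOn_apply hf.injOn (hQR (autFun_mem α⁻¹ hx))
      rw [h1] at h2
      exact h2

theorem mem_resAut_iff {F : FusionSystem S} {Q R : Subgroup Ω} {hQR : Q ≤ R} {hR : R ≤ S}
    {α : MulAut Q} :
    α ∈ resAut F hQR hR ↔ ∃ f, Mor F R f ∧ imgS R f = R ∧ ∀ x ∈ Q, f x = autFun Q α x := Iff.rfl

theorem resAut_le_autGroup (F : FusionSystem S) {Q R : Subgroup Ω} (hQR : Q ≤ R) (hR : R ≤ S) :
    resAut F hQR hR ≤ F.autGroup Q := by
  rintro α ⟨f, hf, -, hfα⟩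
  rw [Cfsg.Agent.H86.mem_autGroup_iff (hQR.trans hR)]
  exact (hf.restrict hQR).congr hfα

theorem conj_mem_resAut [Finite S] (F : FusionSystem S) {Q R : Subgroup Ω} (hQR : Q ≤ R)
    (hR : R ≤ S) {y : Ω} (hy : y ∈ S) (hyR : y ∈ Subgroup.normalizer (R : Set Ω)) {χ : MulAut Q}
    (hχ : ∀ x : Q, ((χ x : Q) : Ω) = y * x * y⁻¹) : χ ∈ resAut F hQR hR := by
  haveI : Finite R := finite_of_le hR
  refine ⟨fun x => y * x * y⁻¹, Mor.conj F hR hy, ?_, fun x hx => ?_⟩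
  · exact imgS_eq_of_maps (Mor.conj F hR hy) (fun x hx => conj_mem_of_mem_normalizer hyR hx)
  · rw [autFun_of_mem χ hx, hχ]

theorem resAut_mono (F : FusionSystem S) {Q R R₁ : Subgroup Ω} (hQR : Q ≤ R) (hRR₁ : R ≤ R₁)
    (hR₁ : R₁ ≤ S)
    (hext : ∀ f, Mor F R f → imgS R f = R →
      ∃ f₁, Mor F R₁ f₁ ∧ imgS R₁ f₁ = R₁ ∧ ∀ x ∈ R, f₁ x = f x) :
    resAut F hQR (hRR₁.trans hR₁) ≤ resAut F (hQR.trans hRR₁) hR₁ := by
  rintro α ⟨f, hf, hfi, hfα⟩
  obtain ⟨f₁, hf₁, hf₁i, hff⟩ := hext f hf hfi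
  exact ⟨f₁, hf₁, hf₁i, fun x hx => by rw [hff x (hQR hx), hfα x hx]⟩

theorem conjClosure_mono {U : Type*} [Group U] {G G' : Subgroup (MulAut U)} (h : G ≤ G')
    (τ : MulAut U) : conjClosure G τ ≤ conjClosure G' τ :=
  Subgroup.closure_mono (fun _ ⟨γ, hγ, hδ⟩ => ⟨γ, h hγ, hδ⟩)

/-- Transport of `p`-group-ness of a conjugate closure along an isomorphism. -/
theorem isPGroup_conjClosure_of_equiv {U V : Type*} [Group U] [Group V] {p : ℕ}
    (E : MulAut U ≃* MulAut V) {G : Subgroup (MulAut U)} {G' : Subgroup (MulAut V)}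
    (h : ∀ γ ∈ G, E γ ∈ G') (τ : MulAut U) (hp : IsPGroup p (conjClosure G' (E τ))) :
    IsPGroup p (conjClosure G τ) := by
  have hle : ∀ δ ∈ conjClosure G τ, E δ ∈ conjClosure G' (E τ) := by
    intro δ hδ
    unfold conjClosure at hδ
    induction hδ using Subgroup.closure_induction with
    | mem x hx =>
      obtain ⟨γ, hγ, rfl⟩ := hx
      exact Subgroup.subset_closure ⟨E γ, h γ hγ, by simp⟩
    | one => rw [map_one]; exact one_mem _
    | mul a b _ _ iha ihb => rw [map_mul]; exact mul_mem iha ihb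
    | inv a _ iha => rw [map_inv]; exact inv_mem iha
  rintro ⟨δ, hδ⟩
  obtain ⟨k, hk⟩ := hp ⟨E δ, hle δ hδ⟩
  refine ⟨k, Subtype.ext ?_⟩
  have hk' : (E δ) ^ p ^ k = 1 := congrArg Subtype.val hk
  rw [← map_pow] at hk'
  exact E.injective (hk'.trans (map_one E).symm)

/-- Transport of `resAut` along a map of the system. -/
theorem congr_mem_resAut {F : FusionSystem S} {Q R : Subgroup Ω} (hQR : Q ≤ R) (hR : R ≤ S)
    {g : Ω → Ω} (hg : Mor F R g) (hQ' : imgS Q g ≤ imgS R g) (hR' : imgS R g ≤ S)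
    (e : Q ≃* imgS Q g) (he : ∀ x : Q, ((e x : imgS Q g) : Ω) = g x) {α : MulAut Q}
    (hα : α ∈ resAut F hQR hR) : MulAut.congr e α ∈ resAut F hQ' hR' := by
  obtain ⟨f, hf, hfi, hfα⟩ := hα
  have hfR : ∀ x ∈ R, f x ∈ R := fun x hx => hfi ▸ hf.mem_imgS_of_mem hx
  have hinvR : ∀ y ∈ imgS R g, invOn R g y ∈ R := fun y hy => hg.invOn_mem hy
  have h1 : Mor F (imgS R g) (f ∘ invOn R g) := hg.inv.comp hf hinvR
  have h1R : ∀ y ∈ imgS R g, (f ∘ invOn R g) y ∈ R := fun y hy => hfR _ (hinvR y hy)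
  have h2 : Mor F (imgS R g) (g ∘ (f ∘ invOn R g)) := h1.comp hg h1R
  refine ⟨g ∘ (f ∘ invOn R g), h2, ?_, fun y hy => ?_⟩
  · rw [h1.imgS_comp hg h1R, hg.inv.imgS_comp hf hinvR, hg.imgS_inv, hfi]
  · obtain ⟨x, hx, rfl⟩ := (hg.restrict hQR).mem_imgS.1 hy
    show g (f (invOn R g (g x))) = _
    rw [invOn_apply hg.injOn (hQR hx), hfα x hx, autFun_of_mem α hx, autFun_of_mem _ hy]
    have e1 : (⟨g x, hy⟩ : imgS Q g) = e ⟨x, hx⟩ := Subtype.ext (he ⟨x, hx⟩).symm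
    rw [e1, congr_apply_apply, he]

/-- A fully automized receptive subgroup that is not radical is properly contained in a subgroup
to which all its automorphisms in the system extend. -/
theorem exists_larger_of_not_radical [Finite S] {p : ℕ} [Fact p.Prime] (hS : IsPGroup p S)
    {F : FusionSystem S} {R : Subgroup Ω} (hRa : F.IsFullyAutomized p R) (hRr : F.IsReceptive R)
    (hnr : ¬ F.IsRadical p R) :
    ∃ R₁ : Subgroup Ω, R ≤ R₁ ∧ R₁ ≤ S ∧ R ≠ R₁ ∧
      (∀ y ∈ S, y ∈ Subgroup.normalizer (R : Set Ω) → y ∈ Subgroup.normalizer (R₁ : Set Ω)) ∧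
      (∀ f, Mor F R f → imgS R f = R →
        ∃ f₁, Mor F R₁ f₁ ∧ imgS R₁ f₁ = R₁ ∧ ∀ x ∈ R, f₁ x = f x) := by
  have hRS : R ≤ S := hRa.1
  haveI : Finite R := finite_of_le hRS
  obtain ⟨O, hOdef⟩ : ∃ O : Subgroup (MulAut R),
      O = (pCore p (F.autGroup R)).map (F.autGroup R).subtype := ⟨_, rfl⟩
  -- `O ≤ Aut_S(R)`
  have hOS : ∀ α ∈ O, ∃ g ∈ S, g ∈ Subgroup.normalizer (R : Set Ω) ∧
      ∀ x : R, ((α x : R) : Ω) = g * x * g⁻¹ := by
    intro α hα
    rw [hOdef] at hα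
    obtain ⟨a, ha, rfl⟩ := hα
    obtain ⟨Rs, hRs⟩ := hRa.2
    have h1 : a ∈ (Rs : Subgroup (F.autGroup R)) := pCore_le_sylow Rs ha
    rw [hRs, Subgroup.mem_subgroupOf] at h1
    obtain ⟨g, hg, H⟩ := (mem_autInducedBy_iff S R _).1 h1
    exact ⟨g, hg, mem_normalizer_of_induces H, H⟩
  have hOA : O ≤ F.autGroup R := by
    rw [hOdef]
    rintro _ ⟨a, -, rfl⟩
    exact a.2
  have hOnorm : ∀ a ∈ F.autGroup R, ∀ n ∈ O, a * n * a⁻¹ ∈ O := by
    intro a ha n hn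
    rw [hOdef] at hn ⊢
    obtain ⟨n', hn', rfl⟩ := hn
    haveI := pCore_normal p ↥(F.autGroup R)
    exact ⟨⟨a, ha⟩ * n' * ⟨a, ha⟩⁻¹, Subgroup.Normal.conj_mem inferInstance n' hn' _, rfl⟩
  have hInnO : Inn R ≤ O := by
    intro α hα
    rw [hOdef]
    refine mem_pCore_map_of p (N := Inn R) (inn_le_autGroup F hRS) ?_ ?_ hα
    · intro a _ n hn
      exact (innNormal R).conj_mem n hn a
    · have hRp : IsPGroup p R := hS.to_le hRS
      exact hRp.of_surjective (MulAut.conj : R →* MulAut R).rangeRestrict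
        (MonoidHom.rangeRestrict_surjective _)
  -- the subgroup `R₁`
  obtain ⟨R₁, hR₁⟩ : ∃ R₁ : Subgroup Ω, ∀ t, t ∈ R₁ ↔ (t ∈ S ∧ t ∈ Subgroup.normalizer (R : Set Ω) ∧
      ∃ α ∈ O, ∀ x : R, ((α x : R) : Ω) = t * x * t⁻¹) := by
    refine ⟨{ carrier := {t | t ∈ S ∧ t ∈ Subgroup.normalizer (R : Set Ω) ∧
                ∃ α ∈ O, ∀ x : R, ((α x : R) : Ω) = t * x * t⁻¹}
              one_mem' := ⟨S.one_mem, Subgroup.one_mem _, 1, O.one_mem, fun x => by simp⟩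
              mul_mem' := ?_
              inv_mem' := ?_ }, fun t => Iff.rfl⟩
    · rintro a b ⟨ha, haN, α, hα, Hα⟩ ⟨hb, hbN, β, hβ, Hβ⟩
      refine ⟨S.mul_mem ha hb, Subgroup.mul_mem _ haN hbN, α * β, O.mul_mem hα hβ, fun x => ?_⟩
      rw [MulAut.mul_apply, Hα, Hβ]
      group
    · rintro a ⟨ha, haN, α, hα, Hα⟩
      refine ⟨S.inv_mem ha, Subgroup.inv_mem _ haN, α⁻¹, O.inv_mem hα, fun x => ?_⟩
      have h1 := Hα (α⁻¹ x)
      rw [MulAut.apply_inv_self] at h1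
      rw [h1]
      group
  have hRR₁ : R ≤ R₁ := by
    intro x hx
    rw [hR₁]
    refine ⟨hRS hx, Subgroup.le_normalizer hx, MulAut.conj ⟨x, hx⟩, hInnO ⟨⟨x, hx⟩, rfl⟩,
      fun z => ?_⟩
    simp [MulAut.conj_apply]
  have hR₁S : R₁ ≤ S := fun t ht => ((hR₁ t).1 ht).1
  haveI : Finite R₁ := finite_of_le hR₁S
  -- conjugation by elements of `N_S(R)` preserves `R₁`
  have hconj : ∀ y ∈ S, y ∈ Subgroup.normalizer (R : Set Ω) → ∀ t ∈ R₁, y * t * y⁻¹ ∈ R₁ := by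
    intro y hy hyN t ht
    obtain ⟨htS, htN, α, hα, Hα⟩ := (hR₁ t).1 ht
    obtain ⟨β, Hβ⟩ := exists_conjAut hyN
    have hβA : β ∈ F.autGroup R :=
      autInducedBy_le_autGroup F hRS ((mem_autInducedBy_iff S R β).2 ⟨y, hy, Hβ⟩)
    rw [hR₁]
    refine ⟨S.mul_mem (S.mul_mem hy htS) (S.inv_mem hy),
      Subgroup.mul_mem _ (Subgroup.mul_mem _ hyN htN) (Subgroup.inv_mem _ hyN),
      β * α * β⁻¹, hOnorm β hβA α hα, fun x => ?_⟩
    have h1 := Hβ (β⁻¹ x)
    rw [MulAut.apply_inv_self] at h1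
    rw [MulAut.mul_apply, MulAut.mul_apply, Hβ, Hα]
    have h2 : ((β⁻¹ x : R) : Ω) = y⁻¹ * x * y := by rw [h1]; group
    rw [h2]
    group
  refine ⟨R₁, hRR₁, hR₁S, ?_, ?_, ?_⟩
  · -- proper
    intro heq
    apply hnr
    refine ⟨hRS, ?_⟩
    rw [← hOdef]
    apply le_antisymm _ hInnO
    intro α hα
    obtain ⟨g, hg, hgN, H⟩ := hOS α hα
    have hgR₁ : g ∈ R₁ := (hR₁ g).2 ⟨hg, hgN, α, hα, H⟩
    rw [← heq] at hgR₁
    exact (mem_inn_iff α).2 ⟨g, hgR₁, H⟩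
  · intro y hy hyN
    refine mem_normalizer_of_forall_conj_mem (hconj y hy hyN) (fun t ht => ?_)
    have := hconj y⁻¹ (S.inv_mem hy) (Subgroup.inv_mem _ hyN) t ht
    rwa [inv_inv] at this
  · -- extension of automorphisms
    intro f hf hfi
    obtain ⟨β, hβdef⟩ : ∃ β : MulAut R, β = mkAut hf hfi := ⟨_, rfl⟩
    have hβ : ∀ x : R, ((β x : R) : Ω) = f x := fun x => by rw [hβdef, mkAut_apply]
    have hβA : β ∈ F.autGroup R := hβdef ▸ mkAut_mem hf hfi
    have hfR : ∀ x ∈ R, f x ∈ R := fun x hx => hfi ▸ hf.mem_imgS_of_mem hx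
    have hle : R₁ ≤ extSub S R f := by
      intro g hg
      obtain ⟨hgS, hgN, α, hα, Hα⟩ := (hR₁ g).1 hg
      rw [mem_extSub_iff hf]
      obtain ⟨h, hh, -, Hh⟩ := hOS _ (hOnorm β hβA α hα)
      refine ⟨hgS, hgN, h, hh, fun x hx => ?_⟩
      have h1 := Hh (β ⟨x, hx⟩)
      rw [MulAut.mul_apply, MulAut.mul_apply, MulAut.inv_apply_self, hβ, hβ] at h1
      rw [← h1, Hα]
    obtain ⟨f₁, hf₁, hf₁f⟩ := receptive_extend' hRr hf hfi
    have hf₁' : Mor F R₁ f₁ := hf₁.restrict hle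
    have hmaps : ∀ g ∈ R₁, f₁ g ∈ R₁ := by
      intro g hg
      obtain ⟨hgS, hgN, α, hα, Hα⟩ := (hR₁ g).1 hg
      have Hγ : ∀ x : R, (((β * α * β⁻¹) x : R) : Ω) = f₁ g * x * (f₁ g)⁻¹ := by
        intro x
        rw [MulAut.mul_apply, MulAut.mul_apply, hβ, Hα, ← hf₁f _ (conj_mem_of_mem_normalizer hgN
          (β⁻¹ x).2), hf₁'.map_mul (R₁.mul_mem hg (hRR₁ (β⁻¹ x).2)) (R₁.inv_mem hg),
          hf₁'.map_mul hg (hRR₁ (β⁻¹ x).2), hf₁'.map_inv hg, hf₁f _ (β⁻¹ x).2, ← hβ,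
          MulAut.apply_inv_self]
      rw [hR₁]
      exact ⟨hf₁'.mem hg, mem_normalizer_of_induces Hγ, β * α * β⁻¹, hOnorm β hβA α hα, Hγ⟩
    exact ⟨f₁, hf₁', imgS_eq_of_maps hf₁' hmaps, hf₁f⟩

/-- For a receptive subgroup `Q`, the subgroup `Q C_S(Q)` is centric. -/
theorem isCentric_sup_centralizerIn [Finite S] {F : FusionSystem S} {Q : Subgroup Ω}
    (hQr : F.IsReceptive Q) : F.IsCentric (Q ⊔ centralizerIn S Q) := by
  have hQS : Q ≤ S := hQr.1
  have hRS : Q ⊔ centralizerIn S Q ≤ S := sup_le hQS inf_le_left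
  haveI : Finite (Q ⊔ centralizerIn S Q : Subgroup Ω) := finite_of_le hRS
  refine ⟨hRS, fun R' hR' => ?_⟩
  obtain ⟨g, hg, rfl⟩ := isConj_iff.1 hR'
  have hgQ : Mor F Q g := hg.restrict le_sup_left
  have hk : Mor F (imgS Q g) (invOn Q g) := hgQ.inv
  have hki : imgS (imgS Q g) (invOn Q g) = Q := hgQ.imgS_inv
  obtain ⟨k₁, hk₁, hk₁k⟩ := receptive_extend' hQr hk hki
  -- `g` maps `C_S(Q)` into `C_S(g Q)`
  have hgC : ∀ c ∈ centralizerIn S Q, g c ∈ centralizerIn S (imgS Q g) := by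
    intro c hc
    rw [mem_centralizerIn_iff]
    refine ⟨hg.mem (Subgroup.mem_sup_right hc), fun q' hq' => ?_⟩
    obtain ⟨q, hq, rfl⟩ := hgQ.mem_imgS.1 hq'
    have hcq := (mem_centralizerIn_iff.1 hc).2 q hq
    rw [← hg.map_mul (Subgroup.mem_sup_right hc) (Subgroup.mem_sup_left hq),
      ← hg.map_mul (Subgroup.mem_sup_left hq) (Subgroup.mem_sup_right hc), hcq]
  -- `k₁` maps `C_S(g Q)` into `C_S(Q)`
  have hkC : ∀ u ∈ centralizerIn S (imgS Q g), k₁ u ∈ centralizerIn S Q := by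
    intro u hu
    have huX : u ∈ extSub S (imgS Q g) (invOn Q g) := centralizerIn_le_extSub hk hu
    rw [mem_centralizerIn_iff]
    refine ⟨hk₁.mem huX, fun q hq => ?_⟩
    have hgq : g q ∈ imgS Q g := hgQ.mem_imgS_of_mem hq
    have hgqX : g q ∈ extSub S (imgS Q g) (invOn Q g) := le_extSub hk hgq
    have h1 : k₁ (g q) = q := by rw [hk₁k _ hgq, invOn_apply hgQ.injOn hq]
    have hcomm := (mem_centralizerIn_iff.1 hu).2 (g q) hgq
    rw [← h1, ← hk₁.map_mul huX hgqX, ← hk₁.map_mul hgqX huX, hcomm]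
  have hgX : ∀ x ∈ Q ⊔ centralizerIn S Q, g x ∈ extSub S (imgS Q g) (invOn Q g) :=
    Cfsg.Agent.H88.mor_sup_maps hg (fun x hx => le_extSub hk (hgQ.mem_imgS_of_mem hx))
      (fun x hx => centralizerIn_le_extSub hk (hgC x hx))
  have hh : Mor F (Q ⊔ centralizerIn S Q) (k₁ ∘ g) := hg.comp hk₁ hgX
  have hhmaps : ∀ x ∈ Q ⊔ centralizerIn S Q, (k₁ ∘ g) x ∈ Q ⊔ centralizerIn S Q := by
    refine Cfsg.Agent.H88.mor_sup_maps hh (fun x hx => ?_) (fun x hx => ?_)
    · show k₁ (g x) ∈ _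
      rw [hk₁k _ (hgQ.mem_imgS_of_mem hx), invOn_apply hgQ.injOn hx]
      exact Subgroup.mem_sup_left hx
    · exact Subgroup.mem_sup_right (hkC _ (hgC x hx))
  have hhimg := imgS_eq_of_maps hh hhmaps
  intro z hz
  have hzC : z ∈ centralizerIn S (imgS Q g) := by
    rw [mem_centralizerIn_iff] at hz ⊢
    exact ⟨hz.1, fun q' hq' => hz.2 q' (hg.imgS_mono le_sup_left hq')⟩
  have hzX : z ∈ extSub S (imgS Q g) (invOn Q g) := centralizerIn_le_extSub hk hzC
  have h1 : k₁ z ∈ imgS (Q ⊔ centralizerIn S Q) (k₁ ∘ g) := by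
    rw [hhimg]
    exact Subgroup.mem_sup_right (hkC z hzC)
  obtain ⟨r, hr, hrz⟩ := hh.mem_imgS.1 h1
  have h2 : g r = z := hk₁.injOn (hgX r hr) hzX hrz
  rw [← h2]
  exact hg.mem_imgS_of_mem hr

/-- The key claim: a quadratic conjugation automorphism of `Q` induced by an element normalizing a
centric overgroup `R` generates, with its conjugates under the automorphisms of `Q` extending to
`R`, a `p`-group, provided the normalizer systems of the fully normalized centric radical subgroups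
are `p`-stable. -/
theorem pstable_claim [Finite S] {p : ℕ} [Fact p.Prime] (hS : IsPGroup p S) {F : FusionSystem S}
    (hF : F.IsSaturated p)
    (h : ∀ R : Subgroup Ω, F.IsFullyNormalized R → F.IsCentric R → F.IsRadical p R →
      ∀ N : FusionSystem (normalizerIn S R), F.IsNormalizerSystem R N → PStable p N) :
    ∀ (n : ℕ) (Q R : Subgroup Ω) (hQR : Q ≤ R) (hR : R ≤ S), F.IsCentric R →
      Nat.card S - Nat.card R = n →
      ∀ y ∈ S, y ∈ Subgroup.normalizer (Q : Set Ω) → y ∈ Subgroup.normalizer (R : Set Ω) →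
      ∀ χ : MulAut Q, (∀ x : Q, ((χ x : Q) : Ω) = y * x * y⁻¹) → Quadratic χ →
        IsPGroup p (conjClosure (resAut F hQR hR) χ) := by
  intro n
  induction n using Nat.strong_induction_on with
  | _ n ih =>
    intro Q R hQR hR hRc hn y hy hyQ hyR χ hχ hq
    obtain ⟨P, hRP, hPa, hPr⟩ := hF R hR
    obtain ⟨g, hg, hgmaps, hgimg⟩ := exists_normalizer_map hS hPa hPr hRP
    have hRN : R ≤ normalizerIn S R := le_normalizerIn hR
    have hgR : Mor F R g := hg.restrict hRN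
    have hgQ : Mor F Q g := hgR.restrict hQR
    subst hgimg
    have hPS : imgS R g ≤ S := hPa.1
    haveI : Finite (imgS R g) := finite_of_le hPS
    have hQ'P : imgS Q g ≤ imgS R g := hgR.imgS_mono hQR
    have hyNR : y ∈ normalizerIn S R := mem_normalizerIn_iff.2 ⟨hy, hyR⟩
    have hy' : g y ∈ S := hg.mem hyNR
    have hy'P : g y ∈ Subgroup.normalizer ((imgS R g : Subgroup Ω) : Set Ω) :=
      (mem_normalizerIn_iff.1 (hgmaps y hyNR)).2
    have hy'Q : g y ∈ Subgroup.normalizer ((imgS Q g : Subgroup Ω) : Set Ω) := by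
      have hle : Q ≤ normalizerIn S R ⊓ Subgroup.normalizer (Q : Set Ω) :=
        le_inf (hQR.trans hRN) Subgroup.le_normalizer
      exact (hg.restrict inf_le_left).mem_normalizer_imgS hle inf_le_right ⟨hyNR, hyQ⟩
    obtain ⟨e, he⟩ : ∃ e : Q ≃* imgS Q g, ∀ x : Q, ((e x : imgS Q g) : Ω) = g x :=
      ⟨hgQ.equivImg, fun x => rfl⟩
    have hχ' : ∀ x' : imgS Q g, (((MulAut.congr e χ) x' : imgS Q g) : Ω) = g y * x' * (g y)⁻¹ := by
      intro x'
      obtain ⟨x, rfl⟩ := e.surjective x'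
      rw [congr_apply_apply, he, he, hχ x,
        hg.map_mul (Subgroup.mul_mem _ hyNR (hRN (hQR x.2))) (Subgroup.inv_mem _ hyNR),
        hg.map_mul hyNR (hRN (hQR x.2)), hg.map_inv hyNR]
    have hq' : Quadratic (MulAut.congr e χ) := quadratic_transport e hq
    have hPc : F.IsCentric (imgS R g) := Cfsg.Agent.H87.isCentric_of_isConj hRc hRP
    have hcard : Nat.card (imgS R g) = Nat.card R := hgR.card_imgS
    have claim' : IsPGroup p (conjClosure (resAut F hQ'P hPS) (MulAut.congr e χ)) := by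
      by_cases hrad : F.IsRadical p (imgS R g)
      · have hfn : F.IsFullyNormalized (imgS R g) :=
          fullyNormalized_of_fullyAutomized_receptive hS hPa hPr
        have hN := normalizerSystem_isNormalizerSystem F (imgS R g) hPS
        have hst := h _ hfn hPc hrad _ hN
        haveI : Finite (normalizerIn S (imgS R g)) := finite_of_le (normalizerIn_le S _)
        have hPN : imgS R g ≤ normalizerIn S (imgS R g) := le_normalizerIn hPS
        have hQ'N : imgS Q g ≤ normalizerIn S (imgS R g) := hQ'P.trans hPN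
        have hBN : resAut F hQ'P hPS ≤ (normalizerSystem F (imgS R g) hPS).autGroup (imgS Q g) := by
          rintro α ⟨f, hf, hfi, hfα⟩
          rw [Cfsg.Agent.H86.mem_autGroup_iff hQ'N, Cfsg.Agent.H88.mor_normalizerSystem_iff hN]
          refine ⟨hQ'N, fun x hx => hPN (hQ'P (autFun_mem α hx)), f, ?_, hfα, hfi⟩
          rw [sup_eq_right.2 hQ'P]
          exact hf
        have hχ'B : MulAut.congr e χ ∈ resAut F hQ'P hPS := conj_mem_resAut F hQ'P hPS hy' hy'P hχ'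
        haveI : Finite (imgS Q g) := finite_of_le (hQ'P.trans hPS)
        have h1 := hst.all hQ'N (hBN hχ'B) hq'
        have h2 := mem_pCore_map_of_le hBN h1 hχ'B
        obtain ⟨N₀, hN₀B, hnorm, hN₀p, hmem⟩ := exists_of_mem_pCore_map h2
        refine hN₀p.to_le ?_
        unfold conjClosure
        rw [Subgroup.closure_le]
        rintro _ ⟨γ, hγ, rfl⟩
        exact hnorm γ hγ _ hmem
      · obtain ⟨R₁, hPR₁, hR₁S, hne, hnorm, hext⟩ := exists_larger_of_not_radical hS hPa hPr hrad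
        haveI : Finite R₁ := finite_of_le hR₁S
        have hlt : Nat.card (imgS R g) < Nat.card R₁ :=
          card_lt_card_of_lt (lt_of_le_of_ne hPR₁ hne)
        have hle : Nat.card R₁ ≤ Nat.card S := Subgroup.card_le_of_le hR₁S
        have hmeas : Nat.card S - Nat.card R₁ < n := by omega
        have h1 := ih _ hmeas (imgS Q g) R₁ (hQ'P.trans hPR₁) hR₁S
          (Cfsg.Agent.H87.isCentric_of_le hPc hPR₁ hR₁S) rfl (g y) hy' hy'Q (hnorm _ hy' hy'P)
          (MulAut.congr e χ) hχ' hq'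
        exact h1.to_le (conjClosure_mono (resAut_mono F hQ'P hPR₁ hR₁S hext) _)
    exact isPGroup_conjClosure_of_equiv (MulAut.congr e)
      (fun γ hγ => congr_mem_resAut hQR hR hgR hQ'P hPS e he hγ) χ claim'

/-- **`p`-stability from the normalizers of the centric radical subgroups.** -/
theorem pstable_of_centric_radical [Finite S] {p : ℕ} [Fact p.Prime] (hS : IsPGroup p S)
    {F : FusionSystem S} (hF : F.IsSaturated p)
    (h : ∀ R : Subgroup Ω, F.IsFullyNormalized R → F.IsCentric R → F.IsRadical p R →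
      ∀ N : FusionSystem (normalizerIn S R), F.IsNormalizerSystem R N → PStable p N) :
    PStable p F := by
  intro Q hQ χ hχ hq
  have hq : Quadratic χ := hq
  obtain ⟨hQc, hQa⟩ := saturated_fullyNormalized hS hF hQ
  have hQr := saturated_receptive_of_fullyCentralized hS hF hQc
  have hQS : Q ≤ S := hQ.1
  haveI : Finite Q := finite_of_le hQS
  obtain ⟨k, hk⟩ := IsPGroup.iff_card.mp (hS.to_le hQS)
  have hχpow : (⟨χ, hχ⟩ : F.autGroup Q) ^ p ^ k = 1 := by
    apply Subtype.ext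
    rw [Subgroup.coe_pow, ← hk]
    exact hq.pow_card
  have hχp : IsPGroup p (Subgroup.zpowers (⟨χ, hχ⟩ : F.autGroup Q)) := by
    rintro ⟨g, hg⟩
    obtain ⟨m, rfl⟩ := Subgroup.mem_zpowers_iff.mp hg
    refine ⟨k, Subtype.ext ?_⟩
    show ((⟨χ, hχ⟩ : F.autGroup Q) ^ m) ^ p ^ k = 1
    rw [← zpow_natCast, ← zpow_mul, mul_comm, zpow_mul, zpow_natCast, hχpow, one_zpow]
  obtain ⟨Rs, hRs⟩ := hQa.2
  obtain ⟨Rs', hRs'⟩ := hχp.exists_le_sylow
  obtain ⟨a, ha⟩ := MulAction.exists_smul_eq (F.autGroup Q) Rs' Rs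
  have h1 : a * ⟨χ, hχ⟩ * a⁻¹ ∈ (Rs : Subgroup (F.autGroup Q)) := by
    rw [← ha, Sylow.coe_subgroup_smul]
    have := Subgroup.smul_mem_pointwise_smul _ (MulAut.conj a) (Rs' : Subgroup (F.autGroup Q))
      (hRs' (Subgroup.mem_zpowers (⟨χ, hχ⟩ : F.autGroup Q)))
    exact this
  rw [hRs, Subgroup.mem_subgroupOf] at h1
  obtain ⟨χ₂, hχ₂⟩ : ∃ χ₂ : MulAut Q, χ₂ = (a : MulAut Q) * χ * (a : MulAut Q)⁻¹ := ⟨_, rfl⟩
  have h1' : χ₂ ∈ autInducedBy S Q := by
    rw [hχ₂]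
    exact h1
  obtain ⟨s, hs, Hs⟩ := (mem_autInducedBy_iff S Q χ₂).1 h1'
  have hsN : s ∈ Subgroup.normalizer (Q : Set Ω) := mem_normalizer_of_induces Hs
  have hq₂ : Quadratic χ₂ := by
    have := quadratic_transport (a : MulAut Q) hq
    have e : MulAut.congr (a : MulAut Q) χ = χ₂ := by
      rw [hχ₂]
      ext x
      rfl
    rwa [e] at this
  -- the centric subgroup `Q C_S(Q)`
  have hQR : Q ≤ Q ⊔ centralizerIn S Q := le_sup_left
  have hRS : Q ⊔ centralizerIn S Q ≤ S := sup_le hQS inf_le_left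
  haveI : Finite (Q ⊔ centralizerIn S Q : Subgroup Ω) := finite_of_le hRS
  have hRc : F.IsCentric (Q ⊔ centralizerIn S Q) := isCentric_sup_centralizerIn hQr
  have hsR : s ∈ Subgroup.normalizer ((Q ⊔ centralizerIn S Q : Subgroup Ω) : Set Ω) := by
    have key : ∀ t ∈ S, t ∈ Subgroup.normalizer (Q : Set Ω) →
        ∀ x ∈ Q ⊔ centralizerIn S Q, t * x * t⁻¹ ∈ Q ⊔ centralizerIn S Q := by
      intro t ht htN
      have hM : Mor F (Q ⊔ centralizerIn S Q) (fun x => t * x * t⁻¹) := Mor.conj F hRS ht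
      refine Cfsg.Agent.H88.mor_sup_maps hM (fun x hx => ?_) (fun x hx => ?_)
      · exact Subgroup.mem_sup_left (conj_mem_of_mem_normalizer htN hx)
      · apply Subgroup.mem_sup_right
        rw [mem_centralizerIn_iff] at hx ⊢
        refine ⟨S.mul_mem (S.mul_mem ht hx.1) (S.inv_mem ht), fun q hq => ?_⟩
        have h3 := hx.2 (t⁻¹ * q * t) (by
          have := conj_mem_of_mem_normalizer (Subgroup.inv_mem _ htN) hq
          rwa [inv_inv] at this)
        calc q * (t * x * t⁻¹) = t * ((t⁻¹ * q * t) * x) * t⁻¹ := by group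
          _ = t * (x * (t⁻¹ * q * t)) * t⁻¹ := by rw [h3]
          _ = t * x * t⁻¹ * q := by group
    refine mem_normalizer_of_forall_conj_mem (key s hs hsN) (fun x hx => ?_)
    have := key s⁻¹ (S.inv_mem hs) (Subgroup.inv_mem _ hsN) x hx
    rwa [inv_inv] at this
  have hcl := pstable_claim hS hF h _ Q _ hQR hRS hRc rfl s hs hsN hsR χ₂ Hs hq₂
  -- every automorphism of `Q` extends to `Q C_S(Q)`
  have hall : F.autGroup Q ≤ resAut F hQR hRS := by
    intro α hα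
    have hf := (Cfsg.Agent.H86.mem_autGroup_iff hQS α).1 hα
    have hfi := imgS_autFun hf
    obtain ⟨f₁, hf₁, hf₁f⟩ := receptive_extend' hQr hf hfi
    have hle : Q ⊔ centralizerIn S Q ≤ extSub S Q (autFun Q α) :=
      sup_le (le_extSub hf) (centralizerIn_le_extSub hf)
    have hf₁' : Mor F (Q ⊔ centralizerIn S Q) f₁ := hf₁.restrict hle
    have hmaps : ∀ x ∈ Q ⊔ centralizerIn S Q, f₁ x ∈ Q ⊔ centralizerIn S Q := by
      refine Cfsg.Agent.H88.mor_sup_maps hf₁' (fun x hx => ?_) (fun c hc => ?_)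
      · rw [hf₁f x hx]
        exact Subgroup.mem_sup_left (autFun_mem α hx)
      · apply Subgroup.mem_sup_right
        rw [mem_centralizerIn_iff]
        refine ⟨hf₁'.mem (Subgroup.mem_sup_right hc), fun q hq => ?_⟩
        have hq0 : autFun Q α⁻¹ q ∈ Q := autFun_mem α⁻¹ hq
        have h3 : f₁ (autFun Q α⁻¹ q) = q := by rw [hf₁f _ hq0, autFun_apply_inv α hq]
        have hcq := (mem_centralizerIn_iff.1 hc).2 _ hq0
        rw [← h3, ← hf₁'.map_mul (Subgroup.mem_sup_right hc) (Subgroup.mem_sup_left hq0),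
          ← hf₁'.map_mul (Subgroup.mem_sup_left hq0) (Subgroup.mem_sup_right hc), hcq]
    exact ⟨f₁, hf₁', imgS_eq_of_maps hf₁' hmaps, hf₁f⟩
  have hχ₂A : χ₂ ∈ F.autGroup Q := autInducedBy_le_autGroup F hQS h1'
  have hcl2 : IsPGroup p (conjClosure (F.autGroup Q) χ₂) := hcl.to_le (conjClosure_mono hall χ₂)
  have h2 := mem_pCore_map_of p (conjClosure_le hχ₂A)
    (fun γ hγ δ hδ => conjClosure_conj_mem hγ hδ) hcl2 (mem_conjClosure_self _ χ₂)
  obtain ⟨N₀, hN₀A, hnorm, hN₀p, hmem⟩ := exists_of_mem_pCore_map h2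
  refine mem_pCore_map_of p hN₀A hnorm hN₀p ?_
  have h3 := hnorm (a : MulAut Q)⁻¹ (inv_mem a.2) χ₂ hmem
  rw [hχ₂] at h3
  have e : (a : MulAut Q)⁻¹ * ((a : MulAut Q) * χ * (a : MulAut Q)⁻¹) * ((a : MulAut Q)⁻¹)⁻¹ = χ := by
    group
  rwa [e] at h3

end Cfsg.Agent.H89
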