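import Mathlib
import Cfsg.Agent.H88.X23Base

/-!
# X23-VF (S2649, helper89 for helper88): a bit of the value of a sum of terms is the evaluation
of its row mask; a selected XOR of masks evaluating to `false` evaluates to `false`
-/

set_option autoImplicit false

namespace Cfsg.Agent.H89.X23

open Cfsg.Agent.H88.X23

theorem vf (hB : StBits) : StVF := by
  obtain ⟨-, -, -, htb, hpm, hrow, htap, hbit, hVxor, hV0, hVsh, -⟩ := hB
  constructor
  · intro C nv val l r hr hl
    induction l with
    | nil =>
      show (0 : ℕ).testBit r = pdotV nv 0 val
      rw [Nat.zero_testBit, hV0]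
    | cons t l ih =>
      have hcons1 : vfVal C val (t :: l) = termVal C val t ^^^ vfVal C val l := rfl
      have hcons2 : vfRow C r (t :: l) = termRow C r t ^^^ vfRow C r l := rfl
      rw [hcons1, hcons2, Nat.testBit_xor, hVxor,
        ih (fun t' ht' => hl t' (List.mem_cons_of_mem _ ht'))]
      congr 1
      have hv : t.2.2.2 < nv := hl t List.mem_cons_self
      have h2r : 2 ^ r < 2048 := by
        calc 2 ^ r < 2 ^ 11 := Nat.pow_lt_pow_right (by norm_num) hr
          _ = 2048 := by norm_num
      unfold termVal termRow
      by_cases h0 : t.1 = 0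
      · rw [if_pos h0, if_pos h0, hVsh nv _ _ val hv h2r]
        exact hbit _ r hr
      · rw [if_neg h0, if_neg h0]
        by_cases h1 : t.1 = 1
        · rw [if_pos h1, if_pos h1, hVsh nv _ _ val hv (hrow _ _)]
          exact htb _ _ _
        · rw [if_neg h1, if_neg h1]
          by_cases h2 : t.1 = 2
          · rw [if_pos h2, if_pos h2, hVsh nv _ _ val hv (htap _ _), htb, hpm]
          · rw [if_neg h2, if_neg h2, hVsh nv _ _ val hv (hrow _ _)]
            exact htb _ _ _
  · intro nv w tab sel val n h
    induction n with
    | zero =>
      show pdotV nv 0 val = false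
      exact hV0 nv val
    | succ j ih =>
      have hs : xorSel w tab sel (j + 1)
          = (if sel.testBit j then fld w tab j else 0) ^^^ xorSel w tab sel j := rfl
      rw [hs, hVxor, ih (fun j' hj' => h j' (by omega))]
      by_cases hb : sel.testBit j
      · rw [if_pos hb, h j (by omega)]
        rfl
      · rw [if_neg hb, hV0]
        rfl

example (hB : StBits) : StVF := vf hB

end Cfsg.Agent.H89.X23
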