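import Mathlib
import Cfsg.Agent.H88.X23Pieces
import Cfsg.Agent.H16.X23Collect
import Cfsg.Agent.H89.X23Bits

/-!
# S2649, piece X23-FIN (for helper88)

A normalised cocycle whose tails are the coboundary tails of `u` is a coboundary.
-/

set_option autoImplicit false

namespace Cfsg.Agent.H89.X23

open Cfsg.Agent.H88.X23

/-- XOR of a list -/
def xl (l : List ℕ) : ℕ := l.foldr (fun a b => a ^^^ b) 0

theorem xl_nil : xl [] = 0 := rfl

theorem xl_cons (a : ℕ) (l : List ℕ) : xl (a :: l) = a ^^^ xl l := rfl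

theorem xl_append (l l' : List ℕ) : xl (l ++ l') = xl l ^^^ xl l' := by
  induction l with
  | nil => rw [List.nil_append, xl_nil, Nat.zero_xor]
  | cons a l ih => rw [List.cons_append, xl_cons, xl_cons, ih, Nat.xor_assoc]

theorem xl_lt (l : List ℕ) (h : ∀ a ∈ l, a < 2048) : xl l < 2048 := by
  induction l with
  | nil => rw [xl_nil]; norm_num
  | cons a l ih =>
    rw [xl_cons]
    have h1 : a < 2 ^ 11 := by
      have := h a (List.mem_cons_self ..)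
      norm_num
      exact this
    have h2 : xl l < 2 ^ 11 := by
      have := ih (fun b hb => h b (List.mem_cons_of_mem _ hb))
      norm_num
      exact this
    have h3 := Nat.xor_lt_two_pow h1 h2
    norm_num at h3
    exact h3

theorem xl_zero (l : List ℕ) (h : ∀ a ∈ l, a = 0) : xl l = 0 := by
  induction l with
  | nil => rfl
  | cons a l ih =>
    rw [xl_cons, h a (List.mem_cons_self ..), ih (fun b hb => h b (List.mem_cons_of_mem _ hb))]
    rfl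

theorem bitTerms_zero : bitTerms 0 = [] := by decide +kernel

theorem bitTerms_pow : ∀ k < 7, bitTerms (2 ^ k) = [(0, k)] := by decide +kernel

theorem bitTerms_add : ∀ k < 7, ∀ a < 2 ^ k, bitTerms (a + 2 ^ k) = bitTerms a ++ [(a, k)] := by
  decide +kernel

theorem xor_coc (p q r s x1 x2 x3 x4 x5 x6 : ℕ) (h : p ^^^ q = r ^^^ s) :
    (p ^^^ (x1 ^^^ (x2 ^^^ x3))) ^^^ (q ^^^ (x4 ^^^ (x3 ^^^ x5)))
      = (r ^^^ (x4 ^^^ (x1 ^^^ x6))) ^^^ (s ^^^ (x6 ^^^ (x2 ^^^ x5))) := by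
  have e1 : (p ^^^ (x1 ^^^ (x2 ^^^ x3))) ^^^ (q ^^^ (x4 ^^^ (x3 ^^^ x5)))
      = (p ^^^ q) ^^^ ((x1 ^^^ (x2 ^^^ (x4 ^^^ x5))) ^^^ (x3 ^^^ x3)) := by ac_rfl
  have e2 : (r ^^^ (x4 ^^^ (x1 ^^^ x6))) ^^^ (s ^^^ (x6 ^^^ (x2 ^^^ x5)))
      = (r ^^^ s) ^^^ ((x1 ^^^ (x2 ^^^ (x4 ^^^ x5))) ^^^ (x6 ^^^ x6)) := by ac_rfl
  rw [e1, e2, Nat.xor_self, Nat.xor_self, h]

/-- the potential attached to the tails `u` -/
def pot (MC : ℕ → ℕ → ℕ) (u : ℕ → ℕ) (e : ℕ) : ℕ :=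
  ((bitTerms e).map (fun p => mapply (MC p.1) (u p.2))).foldr (fun a b => a ^^^ b) 0

theorem pot_eq (MC : ℕ → ℕ → ℕ) (u : ℕ → ℕ) (e : ℕ) :
    pot MC u e = xl ((bitTerms e).map (fun p => mapply (MC p.1) (u p.2))) := rfl

theorem pot_lt (MC : ℕ → ℕ → ℕ) (u : ℕ → ℕ) (hMC : ∀ a i, MC a i < 2048) (e : ℕ) :
    pot MC u e < 2048 := by
  rw [pot_eq]
  apply xl_lt
  intro a ha
  rw [List.mem_map] at ha
  obtain ⟨p, -, rfl⟩ := ha
  exact mapply_lt _ _ (fun i _ => hMC _ i)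

theorem pot_zero (MC : ℕ → ℕ → ℕ) (u : ℕ → ℕ) : pot MC u 0 = 0 := by
  rw [pot_eq, bitTerms_zero]
  rfl

theorem pot_pow (MC : ℕ → ℕ → ℕ) (u : ℕ → ℕ) (k : ℕ) (hk : k < 7) :
    pot MC u (2 ^ k) = mapply (MC 0) (u k) := by
  rw [pot_eq, bitTerms_pow k hk]
  show mapply (MC 0) (u k) ^^^ 0 = _
  rw [Nat.xor_zero]

theorem pot_add (MC : ℕ → ℕ → ℕ) (u : ℕ → ℕ) (k : ℕ) (hk : k < 7) (a : ℕ) (ha : a < 2 ^ k) :
    pot MC u (a + 2 ^ k) = pot MC u a ^^^ mapply (MC a) (u k) := by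
  rw [pot_eq, pot_eq, bitTerms_add k hk a ha, List.map_append, xl_append]
  congr 1
  show mapply (MC a) (u k) ^^^ 0 = _
  rw [Nat.xor_zero]

/-- piece X23-FIN -/
theorem final : StFin := by
  intro MUL MC F u hM h0 hk hassoc hMC hmul hPhi hF hu hF0 hFk hcoc htail
  have hUlt : ∀ a, pot MC u a < 2048 := pot_lt MC u hMC
  have hMC0 : ∀ a < 128, ∀ v < 2048, mapply (MC a) (mapply (MC 0) v) = mapply (MC a) v := by
    intro a ha v hv
    rw [hmul a ha 0 (by norm_num) v hv, h0 a ha]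
  obtain ⟨dF, hdF⟩ : ∃ dF : ℕ → ℕ → ℕ, ∀ a b, dF a b =
      F a b ^^^ (pot MC u a ^^^ (mapply (MC a) (pot MC u b) ^^^ pot MC u (MUL a b))) :=
    ⟨fun a b => F a b ^^^ (pot MC u a ^^^ (mapply (MC a) (pot MC u b) ^^^ pot MC u (MUL a b))),
      fun _ _ => rfl⟩
  -- the corrected cocycle vanishes at `(0, 0)`
  have d00 : dF 0 0 = 0 := by
    rw [hdF, hF0, h0 0 (by norm_num), pot_zero, mapply_zero]
    rfl
  -- the corrected cocycle vanishes on the pairs `(a, 2 ^ k)`, `a < 2 ^ k`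
  have dak : ∀ k < 7, ∀ a < 2 ^ k, dF a (2 ^ k) = 0 := by
    intro k hk7 a ha
    have ha128 : a < 128 := by
      have : (2 : ℕ) ^ k ≤ 2 ^ 6 := Nat.pow_le_pow_right (by norm_num) (by omega)
      omega
    rw [hdF, hFk k hk7 a ha, pot_pow MC u k hk7, hMC0 a ha128 (u k) (hu k), hk k hk7 a ha,
      pot_add MC u k hk7 a ha, Nat.zero_xor, ← Nat.xor_assoc, Nat.xor_self]
  -- the cocycle identity
  have dcoc : ∀ a < 128, ∀ b < 128, ∀ c < 128,
      mapply (MC a) (dF b c) ^^^ dF a (MUL b c) = dF a b ^^^ dF (MUL a b) c := by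
    intro a ha b hb c hc
    rw [hdF b c, hdF a (MUL b c), hdF a b, hdF (MUL a b) c, mapply_xor, mapply_xor, mapply_xor,
      hmul a ha b hb _ (hUlt c), hassoc a ha b hb c hc]
    exact xor_coc _ _ _ _ _ _ _ _ _ _ (hcoc a ha b hb c hc)
  -- the tails vanish
  have dtail : ∀ k < 7, ∀ i ≤ k, dF (2 ^ k) (2 ^ i) = 0 := by
    intro k hk7 i hik
    have hk128 : (2 : ℕ) ^ k < 128 := by
      have : (2 : ℕ) ^ k ≤ 2 ^ 6 := Nat.pow_le_pow_right (by norm_num) (by omega)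
      omega
    rw [hdF, pot_pow MC u k hk7, pot_pow MC u i (by omega), hMC0 _ hk128 (u i) (hu i)]
    exact htail k hk7 i hik
  have key := Cfsg.Agent.H16.X23.collect MUL (fun a v => mapply (MC a) v) dF hM h0 hk
    (fun a => mapply_zero _) (fun a v w => mapply_xor _ v w) d00 dak dcoc
  refine ⟨pot MC u, hUlt, ?_⟩
  intro a ha b hb
  obtain ⟨L, hL, hLx⟩ := hPhi a ha b hb
  have h1 := key 12 a ha b hb L hL
  have h2 : evalL (fun a v => mapply (MC a) v) dF L = 0 := by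
    show xl (L.map (fun t => mapply (MC t.1) (dF (2 ^ t.2.1) (2 ^ t.2.2)))) = 0
    apply xl_zero
    intro x hx
    rw [List.mem_map] at hx
    obtain ⟨t, ht, rfl⟩ := hx
    obtain ⟨-, h3, h4⟩ := hLx t ht
    rw [dtail _ h4 _ h3, mapply_zero]
  rw [h2, hdF] at h1
  rw [Nat.xor_assoc]
  exact Nat.eq_of_xor_eq_zero h1

example : Cfsg.Agent.H88.X23.StFin := final

end Cfsg.Agent.H89.X23
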