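import Mathlib

set_option autoImplicit false

namespace Cfsg.Agent.H89

/-- Iterating an automorphism `φ` with `φ x = x * c` and `φ c = c`. -/
theorem aut_pow_apply {G : Type*} [Group G] (φ : MulAut G) (x c : G) (hx : φ x = x * c) (hc : φ c = c)
    (n : ℕ) : (φ ^ n) x = x * c ^ n := by
  induction n with
  | zero => simp
  | succ n ih =>
    rw [pow_succ', MulAut.mul_apply, ih, map_mul, map_pow, hx, hc, pow_succ', mul_assoc]

theorem aut_zpow_apply {G : Type*} [Group G] (φ : MulAut G) (x c : G) (hx : φ x = x * c) (hc : φ c = c)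
    (a : ℤ) : (φ ^ a) x = x * c ^ a := by
  have hci : φ⁻¹ c = c := by
    rw [MulAut.inv_apply, MulEquiv.symm_apply_eq, hc]
  have hxi : φ⁻¹ x = x * c⁻¹ := by
    rw [MulAut.inv_apply, MulEquiv.symm_apply_eq, map_mul, map_inv, hx, hc, mul_inv_cancel_right]
  cases a with
  | ofNat n =>
    rw [Int.ofNat_eq_natCast, zpow_natCast, zpow_natCast]
    exact aut_pow_apply φ x c hx hc n
  | negSucc n =>
    rw [zpow_negSucc, zpow_negSucc, ← inv_pow, ← inv_pow]
    exact aut_pow_apply φ⁻¹ x c⁻¹ hxi (by rw [map_inv, hci]) (n + 1)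

/-- Conjugating by an integer power. -/
theorem conj_zpow_eq {G : Type*} [Group G] (g x c : G) (hx : g * x * g⁻¹ = x * c)
    (hc : g * c * g⁻¹ = c) (a : ℤ) : g ^ a * x * (g ^ a)⁻¹ = x * c ^ a := by
  have h := aut_zpow_apply (MulAut.conj g) x c (by rw [MulAut.conj_apply, hx])
    (by rw [MulAut.conj_apply, hc]) a
  rw [← map_zpow, MulAut.conj_apply] at h
  exact h

/-- In a group of exponent dividing a prime `p`, a nontrivial power of `x` has `x` as a power. -/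
theorem exists_zpow_eq_of_prime {G : Type*} [Group G] {p : ℕ} [hp : Fact p.Prime] {x : G}
    (hx : x ^ p = 1) {k : ℤ} (hk : x ^ k ≠ 1) : ∃ e : ℤ, (x ^ k) ^ e = x := by
  have hndvd : ¬ (p : ℤ) ∣ k := by
    rintro ⟨m, rfl⟩
    apply hk
    rw [zpow_mul, zpow_natCast, hx, one_zpow]
  have hcop : IsCoprime k (p : ℤ) := by
    rw [isCoprime_comm]
    exact (Int.prime_iff_natAbs_prime.2 (by simpa using hp.out)).coprime_iff_not_dvd.2 hndvd
  obtain ⟨a, b, hab⟩ := hcop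
  have h1 : x ^ (k * a + (p : ℤ) * b) = x := by
    rw [show k * a + (p : ℤ) * b = a * k + b * p by ring, hab, zpow_one]
  rw [zpow_add, zpow_mul, zpow_mul, zpow_natCast, hx, one_zpow, mul_one] at h1
  exact ⟨a, h1⟩

/-- An element of prime order: `x ^ k = 1` forces `p ∣ k`. -/
theorem dvd_of_zpow_eq_one_of_prime {G : Type*} [Group G] {p : ℕ} [hp : Fact p.Prime] {x : G}
    (hx : x ^ p = 1) (hx1 : x ≠ 1) {k : ℤ} (hk : x ^ k = 1) : (p : ℤ) ∣ k := by
  have ho : orderOf x = p := orderOf_eq_prime hx hx1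
  rw [← ho]
  exact orderOf_dvd_iff_zpow_eq_one.2 hk

/-- The braid relation for two "transvections" of a commutative group. -/
theorem braid_comm {V : Type*} [CommGroup V] (τ σ : MulAut V) (z y : V)
    (hτz : τ z = z) (hτy : τ y = y * z) (hσy : σ y = y) (hσz : σ z = z * y⁻¹)
    (hτ : ∀ m, ∃ i : ℤ, τ m = m * z ^ i) (hσ : ∀ m, ∃ l : ℤ, σ m = m * y ^ l) :
    τ * σ * τ = σ * τ * σ := by
  ext m
  obtain ⟨i, hi⟩ := hτ m
  obtain ⟨l, hl⟩ := hσ m
  simp only [MulAut.mul_apply]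
  have e1 : τ (σ (τ m)) = m * z ^ i * (y * z) ^ l * (z * (y * z)⁻¹) ^ i := by
    rw [hi, map_mul, map_zpow, hl, hσz, map_mul, map_mul, map_zpow, map_zpow, hi, hτy, map_mul,
      map_inv, hτz, hτy]
  have e2 : σ (τ (σ m)) = m * y ^ l * (z * y⁻¹) ^ i * (y * (z * y⁻¹)) ^ l := by
    rw [hl, map_mul, map_zpow, hi, hτy, map_mul, map_mul, map_zpow, map_zpow, hl, hσz, map_mul,
      hσy, hσz]
  rw [e1, e2]
  apply Additive.ofMul.injective
  simp only [ofMul_mul, ofMul_inv, ofMul_zpow, smul_add, smul_neg, neg_add_rev]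
  abel

/-- From two "transvections" `τ`, `σ` of a commutative group as in `braid_comm`, the element
`(τ σ τ)²` inverts `z` and `y` and commutes with `τ`. -/
theorem sl2_element {V : Type*} [Group V] (hcomm : ∀ a b : V, a * b = b * a) (τ σ : MulAut V) (z y : V)
    (hτz : τ z = z) (hτy : τ y = y * z) (hσy : σ y = y) (hσz : σ z = z * y⁻¹)
    (hτ : ∀ m, ∃ i : ℤ, τ m = m * z ^ i) (hσ : ∀ m, ∃ l : ℤ, σ m = m * y ^ l) :
    ((τ * σ * τ) * (τ * σ * τ)) z = z⁻¹ ∧ ((τ * σ * τ) * (τ * σ * τ)) y = y⁻¹ ∧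
      ((τ * σ * τ) * (τ * σ * τ)) * τ = τ * ((τ * σ * τ) * (τ * σ * τ)) := by
  have hbr : τ * σ * τ = σ * τ * σ := by
    let _ : CommGroup V := { (inferInstance : Group V) with mul_comm := hcomm }
    exact braid_comm τ σ z y hτz hτy hσy hσz hτ hσ
  have hwz : (τ * σ * τ) z = y⁻¹ := by
    rw [MulAut.mul_apply, MulAut.mul_apply, hτz, hσz, map_mul, map_inv, hτz, hτy, mul_inv_rev,
      hcomm z⁻¹ y⁻¹, ← mul_assoc, hcomm z y⁻¹, mul_assoc, mul_inv_cancel, mul_one]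
  have hwy : (τ * σ * τ) y = z := by
    rw [MulAut.mul_apply, MulAut.mul_apply, hτy, map_mul, hσy, hσz, map_mul, map_mul, map_inv,
      hτy, hτz, hcomm z, ← mul_assoc, mul_inv_cancel, one_mul]
  refine ⟨?_, ?_, ?_⟩
  · rw [MulAut.mul_apply, hwz, map_inv, hwy]
  · rw [MulAut.mul_apply, hwy, hwz]
  · have h1 : (τ * σ * τ) * τ = σ * (τ * σ * τ) := by
      rw [← mul_assoc σ, ← mul_assoc σ, ← hbr]
    have h2 : (τ * σ * τ) * σ = τ * (τ * σ * τ) := by
      conv_rhs => rw [hbr]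
      simp only [mul_assoc]
    calc (τ * σ * τ) * (τ * σ * τ) * τ = (τ * σ * τ) * ((τ * σ * τ) * τ) := mul_assoc _ _ _
      _ = (τ * σ * τ) * (σ * (τ * σ * τ)) := by rw [h1]
      _ = ((τ * σ * τ) * σ) * (τ * σ * τ) := (mul_assoc _ _ _).symm
      _ = τ * (τ * σ * τ) * (τ * σ * τ) := by rw [h2]
      _ = τ * ((τ * σ * τ) * (τ * σ * τ)) := mul_assoc _ _ _

end Cfsg.Agent.H89
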