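import Cfsg.Agent.H89.ReflGen

set_option autoImplicit false

/-!
`p`-groups whose centre has index `p ^ 2`: basic structure, and the essential subgroups of a
saturated fusion system over such a group.
-/

namespace Cfsg.Agent.H89

open Cfsg Cfsg.FusionSystem Cfsg.Agent.H86
open scoped commutatorElement

section ci

variable {Ω : Type*} [Group Ω] {S : Subgroup Ω}

theorem center_eq_subgroupOf :
    Subgroup.center ↥S = (S ⊓ Subgroup.centralizer (S : Set Ω)).subgroupOf S := by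
  ext x
  rw [Subgroup.mem_center_iff, Subgroup.mem_subgroupOf, mem_center_inf_iff]
  constructor
  · intro h
    exact ⟨x.2, fun s hs => congrArg Subtype.val (h ⟨s, hs⟩)⟩
  · intro h g
    exact Subtype.ext (h.2 g g.2)

theorem sup_zpowers_center_comm {w : Ω} (hw : w ∈ S) :
    ∀ g ∈ (S ⊓ Subgroup.centralizer (S : Set Ω)) ⊔ Subgroup.zpowers w,
    ∀ k ∈ (S ⊓ Subgroup.centralizer (S : Set Ω)) ⊔ Subgroup.zpowers w, g * k = k * g := by
  have hle : (S ⊓ Subgroup.centralizer (S : Set Ω)) ⊔ Subgroup.zpowers w ≤ S :=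
    sup_le inf_le_left ((Subgroup.zpowers_le).2 hw)
  exact sup_zpowers_comm (fun z hz g hg => (mem_center_inf_iff.1 hz).2 g (hle hg))

/-- Elements of `Z⟨w⟩` for a subgroup `Z` commuting with `w`. -/
theorem mem_sup_zpowers_central {Z : Subgroup Ω} {w : Ω} (hZw : ∀ z ∈ Z, z * w = w * z) {g : Ω}
    (hg : g ∈ Z ⊔ Subgroup.zpowers w) : ∃ z ∈ Z, ∃ i : ℤ, g = z * w ^ i := by
  have hcomm : ∀ z ∈ Z, ∀ i : ℤ, w ^ i * z = z * w ^ i := by
    intro z hz i
    have h1 : Commute w z := (hZw z hz).symm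
    exact (h1.zpow_left i).eq
  obtain ⟨M, hM⟩ : ∃ M : Subgroup Ω, ∀ g, g ∈ M ↔ ∃ z ∈ Z, ∃ i : ℤ, g = z * w ^ i := by
    refine ⟨{ carrier := {g | ∃ z ∈ Z, ∃ i : ℤ, g = z * w ^ i}
              mul_mem' := ?_
              one_mem' := ⟨1, Z.one_mem, 0, by simp⟩
              inv_mem' := ?_ }, fun g => Iff.rfl⟩
    · rintro _ _ ⟨z, hz, i, rfl⟩ ⟨z', hz', j, rfl⟩
      refine ⟨z * z', Z.mul_mem hz hz', i + j, ?_⟩
      rw [zpow_add]
      calc z * w ^ i * (z' * w ^ j) = z * (w ^ i * z') * w ^ j := by group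
        _ = z * (z' * w ^ i) * w ^ j := by rw [hcomm z' hz' i]
        _ = _ := by group
    · rintro _ ⟨z, hz, i, rfl⟩
      refine ⟨z⁻¹, Z.inv_mem hz, -i, ?_⟩
      rw [mul_inv_rev, ← zpow_neg, hcomm z⁻¹ (Z.inv_mem hz)]
  have hle : Z ⊔ Subgroup.zpowers w ≤ M := by
    apply sup_le
    · intro z hz
      exact (hM z).2 ⟨z, hz, 0, by simp⟩
    · rw [Subgroup.zpowers_le]
      exact (hM w).2 ⟨1, Z.one_mem, 1, by simp⟩
  exact (hM g).1 (hle hg)

theorem exists_pow_eq_zpow [Finite S] {w : Ω} (hw : w ∈ S) (i : ℤ) : ∃ k : ℕ, w ^ i = w ^ k := by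
  have hfin : IsOfFinOrder w := by
    rw [isOfFinOrder_iff_pow_eq_one]
    refine ⟨Nat.card S, Nat.card_pos, ?_⟩
    have h1 : (⟨w, hw⟩ : ↥S) ^ Nat.card S = 1 := pow_card_eq_one'
    exact congrArg Subtype.val h1
  have h1 : w ^ i ∈ Subgroup.zpowers w := ⟨i, rfl⟩
  rw [← hfin.mem_powers_iff_mem_zpowers] at h1
  obtain ⟨k, hk⟩ := h1
  exact ⟨k, hk.symm⟩

theorem center_sup_gen [Finite S] {w : Ω} (hw : w ∈ S) :
    ∀ g ∈ (S ⊓ Subgroup.centralizer (S : Set Ω)) ⊔ Subgroup.zpowers w,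
      ∃ k : ℕ, g * (w ^ k)⁻¹ ∈ S ⊓ Subgroup.centralizer (S : Set Ω) := by
  intro g hg
  obtain ⟨z, hz, i, rfl⟩ := mem_sup_zpowers_central
    (fun z hz => ((mem_center_inf_iff.1 hz).2 w hw).symm) hg
  obtain ⟨k, hk⟩ := exists_pow_eq_zpow hw i
  refine ⟨k, ?_⟩
  rw [hk, mul_inv_cancel_right]
  exact hz

/-- `S` is nonabelian and all `Z(S)⟨w⟩` are abelian of index `p`. -/
structure CIdx (p : ℕ) (S : Subgroup Ω) : Prop where
  hna : ∃ g ∈ S, ∃ k ∈ S, g * k ≠ k * g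
  ab : ∀ w ∈ S, w ∉ S ⊓ Subgroup.centralizer (S : Set Ω) →
    AbIdx p S ((S ⊓ Subgroup.centralizer (S : Set Ω)) ⊔ Subgroup.zpowers w)
  idx : ∀ w ∈ S, w ∉ S ⊓ Subgroup.centralizer (S : Set Ω) →
    (((S ⊓ Subgroup.centralizer (S : Set Ω)) ⊔ Subgroup.zpowers w).subgroupOf S).index = p

theorem CIdx.of_index [Finite S] {p : ℕ} [hp : Fact p.Prime] (hS : IsPGroup p S)
    (hna : ∃ g ∈ S, ∃ k ∈ S, g * k ≠ k * g)
    (hidx : (Subgroup.center ↥S).index ≤ p ^ 2) : CIdx p S := by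
  have key : ∀ w ∈ S, w ∉ S ⊓ Subgroup.centralizer (S : Set Ω) →
      (((S ⊓ Subgroup.centralizer (S : Set Ω)) ⊔ Subgroup.zpowers w).subgroupOf S).index = p := by
    intro w hw hwZ
    have hcomm := sup_zpowers_center_comm hw
    obtain ⟨A, hA⟩ : ∃ A : Subgroup Ω,
        A = (S ⊓ Subgroup.centralizer (S : Set Ω)) ⊔ Subgroup.zpowers w := ⟨_, rfl⟩
    rw [← hA] at hcomm ⊢
    have hZA : S ⊓ Subgroup.centralizer (S : Set Ω) ≤ A := by rw [hA]; exact le_sup_left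
    have hAS : A ≤ S := by rw [hA]; exact sup_le inf_le_left ((Subgroup.zpowers_le).2 hw)
    have h1 := Subgroup.relIndex_mul_relIndex _ _ _ hZA hAS
    have h2 : (S ⊓ Subgroup.centralizer (S : Set Ω)).relIndex S ≤ p ^ 2 := by
      rw [center_eq_subgroupOf] at hidx
      exact hidx
    have h3 : A.relIndex S ≠ 1 := by
      intro h
      rw [Subgroup.relIndex_eq_one] at h
      obtain ⟨g, hg, k, hk, hgk⟩ := hna
      exact hgk (hcomm g (h hg) k (h hk))
    have h4 : (S ⊓ Subgroup.centralizer (S : Set Ω)).relIndex A ≠ 1 := by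
      intro h
      rw [Subgroup.relIndex_eq_one] at h
      apply hwZ
      apply h
      rw [hA]
      exact Subgroup.mem_sup_right (Subgroup.mem_zpowers w)
    have : Finite A := finite_of_le hAS
    obtain ⟨a, ha⟩ := hS.index (A.subgroupOf S)
    have hAp : IsPGroup p A := hS.to_le hAS
    obtain ⟨b, hb⟩ := hAp.index ((S ⊓ Subgroup.centralizer (S : Set Ω)).subgroupOf A)
    have ha' : A.relIndex S = p ^ a := ha
    have hb' : (S ⊓ Subgroup.centralizer (S : Set Ω)).relIndex A = p ^ b := hb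
    rw [ha', hb'] at h1
    rw [ha'] at h3
    rw [hb'] at h4
    rw [← h1, ← pow_add] at h2
    have h5 : b + a ≤ 2 := (Nat.pow_le_pow_iff_right hp.out.one_lt).1 h2
    have ha0 : a ≠ 0 := by
      rintro rfl
      exact h3 (pow_zero p)
    have hb0 : b ≠ 0 := by
      rintro rfl
      exact h4 (pow_zero p)
    have ha1 : a = 1 := by omega
    show A.relIndex S = p
    rw [ha', ha1, pow_one]
  refine ⟨hna, fun w hw hwZ => ?_, key⟩
  refine AbIdx.of_index hS ⟨sup_le inf_le_left ((Subgroup.zpowers_le).2 hw), ?_, key w hw hwZ⟩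
  have hcomm := sup_zpowers_center_comm hw
  exact isMulCommutative_iff.2 (fun a b => Subtype.ext (hcomm a a.2 b b.2))

namespace CIdx

variable {p : ℕ} (h : CIdx p S)
include h

theorem inter {w x c : Ω} (hw : w ∈ S) (hwZ : w ∉ S ⊓ Subgroup.centralizer (S : Set Ω))
    (hx : x ∈ S) (hxw : x ∉ (S ⊓ Subgroup.centralizer (S : Set Ω)) ⊔ Subgroup.zpowers w)
    (hc1 : c ∈ (S ⊓ Subgroup.centralizer (S : Set Ω)) ⊔ Subgroup.zpowers w)
    (hc2 : c ∈ (S ⊓ Subgroup.centralizer (S : Set Ω)) ⊔ Subgroup.zpowers x) :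
    c ∈ S ⊓ Subgroup.centralizer (S : Set Ω) := by
  have hA := h.ab w hw hwZ
  rw [mem_center_inf_iff]
  refine ⟨hA.le hc1, hA.central_of_comm hx hxw hc1 ?_⟩
  exact sup_zpowers_center_comm hx c hc2 x (Subgroup.mem_sup_right (Subgroup.mem_zpowers x))

theorem exists_pair : ∃ g ∈ S, g ∉ S ⊓ Subgroup.centralizer (S : Set Ω) ∧ ∃ k ∈ S,
    k ∉ S ⊓ Subgroup.centralizer (S : Set Ω) ∧
    k ∉ (S ⊓ Subgroup.centralizer (S : Set Ω)) ⊔ Subgroup.zpowers g := by
  obtain ⟨g, hg, k, hk, hgk⟩ := h.hna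
  refine ⟨g, hg, ?_, k, hk, ?_, ?_⟩
  · intro hgZ
    exact hgk ((mem_center_inf_iff.1 hgZ).2 k hk).symm
  · intro hkZ
    exact hgk ((mem_center_inf_iff.1 hkZ).2 g hg)
  · intro hkA
    exact hgk (sup_zpowers_center_comm hg g (Subgroup.mem_sup_right (Subgroup.mem_zpowers g)) k hkA)

theorem comm_mem {g k : Ω} (hg : g ∈ S) (hk : k ∈ S) :
    g * k * g⁻¹ * k⁻¹ ∈ S ⊓ Subgroup.centralizer (S : Set Ω) := by
  obtain ⟨g₀, hg₀, hg₀Z, k₀, hk₀, hk₀Z, hk₀A⟩ := h.exists_pair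
  exact h.inter hg₀ hg₀Z hk₀ hk₀A ((h.ab g₀ hg₀ hg₀Z).commutator_mem hg hk)
    ((h.ab k₀ hk₀ hk₀Z).commutator_mem hg hk)

theorem pow_mem {g : Ω} (hg : g ∈ S) : g ^ p ∈ S ⊓ Subgroup.centralizer (S : Set Ω) := by
  obtain ⟨g₀, hg₀, hg₀Z, k₀, hk₀, hk₀Z, hk₀A⟩ := h.exists_pair
  exact h.inter hg₀ hg₀Z hk₀ hk₀A ((h.ab g₀ hg₀ hg₀Z).pow g hg) ((h.ab k₀ hk₀ hk₀Z).pow g hg)

theorem mem_Z2 {w : Ω} (hw : w ∈ S) : w ∈ (Subgroup.upperCentralSeries ↥S 2).map S.subtype :=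
  mem_Z2_iff.2 ⟨hw, fun _ hx => h.comm_mem hw hx⟩

theorem commutator_le : ⁅S, S⁆ ≤ S ⊓ Subgroup.centralizer (S : Set Ω) := by
  rw [Subgroup.commutator_le]
  intro g hg k hk
  rw [commutatorElement_def]
  exact h.comm_mem hg hk

/-- Structure of an essential subgroup. -/
theorem essential [Finite S] [hp : Fact p.Prime] (hS : IsPGroup p S) {F : FusionSystem S}
    (hF : F.IsSaturated p) {E : Subgroup Ω} (hE : F.IsEssential p E) :
    S ⊓ Subgroup.centralizer (S : Set Ω) ≤ E ∧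
    (∃ x ∈ E, x ∉ S ⊓ Subgroup.centralizer (S : Set Ω)) ∧ (∃ w ∈ S, w ∉ E) ∧
    ∀ x ∈ E, x ∉ S ⊓ Subgroup.centralizer (S : Set Ω) →
      E = (S ⊓ Subgroup.centralizer (S : Set Ω)) ⊔ Subgroup.zpowers x := by
  have hES : E ≤ S := hE.1.1
  have hcen : centralizerIn S E ≤ E := hE.1.2 E (Cfsg.Agent.H86.isConj_refl F hES)
  have ha := (saturated_fullyNormalized hS hF hE.2.1).2
  have hlt := Cfsg.Agent.H88.essential_lt ha hE
  have hZE : S ⊓ Subgroup.centralizer (S : Set Ω) ≤ E := by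
    intro z hz
    apply hcen
    rw [mem_centralizerIn_iff]
    obtain ⟨hzS, hzc⟩ := mem_center_inf_iff.1 hz
    exact ⟨hzS, fun y hy => hzc y (hES hy)⟩
  have hnle : ¬ S ≤ E := fun hc => lt_irrefl _ (lt_of_lt_of_le hlt hc)
  refine ⟨hZE, ?_, ?_, ?_⟩
  · by_contra hcon
    push Not at hcon
    apply hnle
    intro s hs
    apply hcen
    rw [mem_centralizerIn_iff]
    exact ⟨hs, fun y hy => ((mem_center_inf_iff.1 (hcon y hy)).2 s hs).symm⟩
  · by_contra hcon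
    push Not at hcon
    exact hnle hcon
  · intro x hxE hxZ
    have hxS := hES hxE
    have hle : (S ⊓ Subgroup.centralizer (S : Set Ω)) ⊔ Subgroup.zpowers x ≤ E :=
      sup_le hZE ((Subgroup.zpowers_le).2 hxE)
    have h1 := Subgroup.relIndex_mul_relIndex _ _ _ hle hES
    have h2 : ((S ⊓ Subgroup.centralizer (S : Set Ω)) ⊔ Subgroup.zpowers x).relIndex S = p :=
      h.idx x hxS hxZ
    rw [h2] at h1
    have h3 : E.relIndex S ≠ 1 := by
      intro hc
      rw [Subgroup.relIndex_eq_one] at hc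
      exact hnle hc
    have h4 : E.relIndex S ∣ p := Dvd.intro_left _ h1
    have h5 : E.relIndex S = p := ((Nat.dvd_prime hp.out).1 h4).resolve_left h3
    rw [h5] at h1
    have h6 : ((S ⊓ Subgroup.centralizer (S : Set Ω)) ⊔ Subgroup.zpowers x).relIndex E = 1 := by
      have h7 : ((S ⊓ Subgroup.centralizer (S : Set Ω)) ⊔ Subgroup.zpowers x).relIndex E * p =
          1 * p := by rw [h1, one_mul]
      exact Nat.eq_of_mul_eq_mul_right hp.out.pos h7
    rw [Subgroup.relIndex_eq_one] at h6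
    exact le_antisymm h6 hle

end CIdx

/-- If there is no essential subgroup, `S` is normal in `F`. -/
theorem normal_self_of_no_essential [Finite S] {p : ℕ} [Fact p.Prime] (hS : IsPGroup p S)
    {F : FusionSystem S} (hF : F.IsSaturated p) (hno : ∀ E, ¬ F.IsEssential p E) :
    F.IsNormal S := by
  rw [isNormal_iff_essential hS hF]
  rintro P (rfl | hP)
  · refine ⟨le_rfl, fun α hα => ?_⟩
    have hαM : Mor F P (autFun P α) := (Cfsg.Agent.H86.mem_autGroup_iff le_rfl α).1 hα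
    rw [map_subgroupOf_aut_eq_iff le_rfl hαM]
    exact imgS_eq_of_maps (hαM.restrict le_rfl) (fun x hx => hαM.mem hx)
  · exact absurd hP (hno P)

theorem exists_essential_of_core [Finite S] {p : ℕ} [Fact p.Prime] (hS : IsPGroup p S)
    {F : FusionSystem S} (hF : F.IsSaturated p) (hS1 : S ≠ ⊥) (hcore : F.core = ⊥) :
    ∃ E, F.IsEssential p E := by
  by_contra hno
  push Not at hno
  have h1 : S ≤ F.core := le_sSup (normal_self_of_no_essential hS hF hno)
  rw [hcore] at h1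
  exact hS1 (le_bot_iff.1 h1)

/-- A core-free saturated fusion system over a nontrivial group: the group is not abelian. -/
theorem noncomm_of_core [Finite S] {p : ℕ} [Fact p.Prime] (hS : IsPGroup p S)
    {F : FusionSystem S} (hF : F.IsSaturated p) (hS1 : S ≠ ⊥) (hcore : F.core = ⊥) :
    ∃ g ∈ S, ∃ k ∈ S, g * k ≠ k * g := by
  obtain ⟨E, hE⟩ := exists_essential_of_core hS hF hS1 hcore
  have hES : E ≤ S := hE.1.1
  have hcen : centralizerIn S E ≤ E := hE.1.2 E (Cfsg.Agent.H86.isConj_refl F hES)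
  have ha := (saturated_fullyNormalized hS hF hE.2.1).2
  have hlt := Cfsg.Agent.H88.essential_lt ha hE
  by_contra hcon
  push Not at hcon
  apply lt_irrefl E
  apply lt_of_lt_of_le hlt
  intro s hs
  apply hcen
  rw [mem_centralizerIn_iff]
  exact ⟨hs, fun y hy => hcon y (hES hy) s hs⟩

end ci

end Cfsg.Agent.H89
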