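import Cfsg.Agent.H89.ExtraIdxCenter

set_option autoImplicit false

/-!
Core-free saturated fusion systems over a `p`-group (`p` odd) whose centre has index `p ^ 2`:
the group has order `p ^ 3` and exponent `p`.
-/

namespace Cfsg.Agent.H89

open Cfsg Cfsg.FusionSystem Cfsg.Agent.H86
open scoped commutatorElement

section ciexp

variable {Ω : Type*} [Group Ω] {S : Subgroup Ω}

theorem card_eq_cube [Finite S] {p : ℕ} [hp : Fact p.Prime] (hS : IsPGroup p S)
    (hna : ∃ g ∈ S, ∃ k ∈ S, g * k ≠ k * g) (hidx : (Subgroup.center ↥S).index ≤ p ^ 2)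
    (hZ : Nat.card ↥(S ⊓ Subgroup.centralizer (S : Set Ω)) = p) : Nat.card S = p ^ 3 := by
  obtain ⟨n, hn⟩ := (IsPGroup.iff_card).1 hS
  have h1 := Subgroup.card_mul_index (Subgroup.center ↥S)
  have h2 : Nat.card (Subgroup.center ↥S) = p := by
    rw [center_eq_subgroupOf, ← hZ]
    exact Nat.card_congr (Subgroup.subgroupOfEquivOfLe inf_le_left).toEquiv
  rw [h2, hn] at h1
  have h3 : p ^ n ≤ p ^ 3 := by
    rw [← h1, pow_succ' p 2]
    exact Nat.mul_le_mul_left p hidx
  have hn3 : n ≤ 3 := (Nat.pow_le_pow_iff_right hp.out.one_lt).1 h3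
  have hnc : ¬ (∀ a b : ↥S, a * b = b * a) := by
    intro hc
    obtain ⟨g, hg, k, hk, hgk⟩ := hna
    exact hgk (congrArg Subtype.val (hc ⟨g, hg⟩ ⟨k, hk⟩))
  have hn3' : 3 ≤ n := by
    by_contra hlt
    push Not at hlt
    apply hnc
    interval_cases n
    · rw [pow_zero] at hn
      have := (Nat.card_eq_one_iff_unique.1 hn).1
      intro a b
      exact Subsingleton.elim _ _
    · rw [pow_one] at hn
      have hc := (isCyclic_of_prime_card hn).isMulCommutative
      exact fun a b => isMulCommutative_iff.1 hc a b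
    · exact fun a b => isMulCommutative_iff.1 (IsPGroup.isMulCommutative_of_card_eq_prime_sq hn) a b
  have : n = 3 := le_antisymm hn3 hn3'
  rw [hn, this]

/-- The elements of an essential subgroup have order dividing `p` when `|Z(S)| = p`. -/
theorem ci_essential_pow [Finite S] {p : ℕ} [hp : Fact p.Prime] (hS : IsPGroup p S)
    {F : FusionSystem S} (hF : F.IsSaturated p) (h : CIdx p S)
    (hZcard : Nat.card ↥(S ⊓ Subgroup.centralizer (S : Set Ω)) = p) {E : Subgroup Ω}
    (hE : F.IsEssential p E) : ∀ e ∈ E, e ^ p = 1 := by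
  have hES := hE.1.1
  have ha := (saturated_fullyNormalized hS hF hE.2.1).2
  obtain ⟨γ, hγ, hsep⟩ := exists_sep ha hE
  have hγM : Mor F E (autFun E γ) := (Cfsg.Agent.H86.mem_autGroup_iff hES γ).1 hγ
  obtain ⟨z, hzZ, hzγ⟩ := sep_moves_central hS hF hE hγ hsep
    (N := S ⊓ Subgroup.centralizer (S : Set Ω)) le_rfl (fun g hg k hk => h.comm_mem hg hk)
  obtain ⟨hZE, -, -, hEeq⟩ := h.essential hS hF hE
  have hzE := hZE hzZ
  have hZp : ∀ c ∈ S ⊓ Subgroup.centralizer (S : Set Ω), c ^ p = 1 := by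
    intro c hc
    have h1 : (⟨c, hc⟩ : ↥(S ⊓ Subgroup.centralizer (S : Set Ω))) ^
        Nat.card ↥(S ⊓ Subgroup.centralizer (S : Set Ω)) = 1 := pow_card_eq_one'
    rw [hZcard] at h1
    exact congrArg Subtype.val h1
  have hyE : autFun E γ z ∈ E := autFun_mem γ hzE
  have hyp : (autFun E γ z) ^ p = 1 := by
    rw [← mor_map_pow hγM hzE, hZp z hzZ, hγM.map_one]
  have hEq := hEeq _ hyE hzγ
  intro e he
  rw [hEq] at he
  obtain ⟨c, hc, i, rfl⟩ := mem_sup_zpowers_central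
    (fun c hc => ((mem_center_inf_iff.1 hc).2 _ (hES hyE)).symm) he
  have hcomm : Commute c (autFun E γ z ^ i) := by
    have h1 : Commute c (autFun E γ z) := ((mem_center_inf_iff.1 hc).2 _ (hES hyE)).symm
    exact h1.zpow_right i
  rw [hcomm.mul_pow, hZp c hc, one_mul, ← zpow_natCast, ← zpow_mul, mul_comm, zpow_mul,
    zpow_natCast, hyp, one_zpow]

/-- Core-free saturated fusion systems over a `p`-group (`p` odd) whose centre has index `p ^ 2`
and order `p`: the group has exponent `p`. -/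
theorem ci_odd_exponent [Finite S] {p : ℕ} [hp : Fact p.Prime] (hp2 : p ≠ 2) (hS : IsPGroup p S)
    {F : FusionSystem S} (hF : F.IsSaturated p) (h : CIdx p S) (hcore : F.core = ⊥)
    (hZcard : Nat.card ↥(S ⊓ Subgroup.centralizer (S : Set Ω)) = p) : ∀ g ∈ S, g ^ p = 1 := by
  have hZp : ∀ c ∈ S ⊓ Subgroup.centralizer (S : Set Ω), c ^ p = 1 := by
    intro c hc
    have h1 : (⟨c, hc⟩ : ↥(S ⊓ Subgroup.centralizer (S : Set Ω))) ^
        Nat.card ↥(S ⊓ Subgroup.centralizer (S : Set Ω)) = 1 := pow_card_eq_one'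
    rw [hZcard] at h1
    exact congrArg Subtype.val h1
  have hmul : ∀ g ∈ S, ∀ k ∈ S, (g * k) ^ p = g ^ p * k ^ p := by
    intro g hg k hk
    have hc := h.comm_mem hk hg
    have e : k * g = (k * g * k⁻¹ * g⁻¹) * g * k := by group
    have hcg : Commute (k * g * k⁻¹ * g⁻¹) g := ((mem_center_inf_iff.1 hc).2 g hg).symm
    have hck : Commute (k * g * k⁻¹ * g⁻¹) k := ((mem_center_inf_iff.1 hc).2 k hk).symm
    rw [mul_pow_of_comm g k _ e hcg hck p]
    have h2 : p ∣ p.choose 2 := hp.out.dvd_choose_self (by norm_num) (by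
      have := hp.out.two_le
      omega)
    obtain ⟨m, hm⟩ := h2
    rw [hm, pow_mul, hZp _ hc, one_pow, mul_one]
  by_contra hcon
  push Not at hcon
  obtain ⟨g₀, hg₀, hg₀p⟩ := hcon
  obtain ⟨K, hK⟩ : ∃ K : Subgroup Ω, ∀ g, g ∈ K ↔ g ∈ S ∧ g ^ p = 1 := by
    refine ⟨{ carrier := {g | g ∈ S ∧ g ^ p = 1}
              mul_mem' := ?_
              one_mem' := ⟨S.one_mem, one_pow p⟩
              inv_mem' := ?_ }, fun g => Iff.rfl⟩
    · rintro a b ⟨ha, hap⟩ ⟨hb, hbp⟩
      exact ⟨S.mul_mem ha hb, by rw [hmul a ha b hb, hap, hbp, one_mul]⟩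
    · rintro a ⟨ha, hap⟩
      exact ⟨S.inv_mem ha, by rw [inv_pow, hap, inv_one]⟩
  have hKS : K ≤ S := fun g hg => ((hK g).1 hg).1
  have hKess : ∀ E, F.IsEssential p E → K ≤ E := by
    intro E hE k hk
    by_contra hkE
    obtain ⟨hZE, ⟨x, hxE, hxZ⟩, -, hEeq⟩ := h.essential hS hF hE
    have hAb := h.ab x (hE.1.1 hxE) hxZ
    rw [← hEeq x hxE hxZ] at hAb
    obtain ⟨n, a, ha, e⟩ := hAb.gen k (hKS hk) hkE g₀ hg₀
    apply hg₀p
    have h1 : g₀ ∈ K := by
      rw [e]
      exact K.mul_mem ((hK a).2 ⟨hE.1.1 ha, ci_essential_pow hS hF h hZcard hE a ha⟩)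
        (K.pow_mem hk n)
    exact ((hK g₀).1 h1).2
  have hKN : F.IsNormal K := by
    rw [isNormal_iff_essential hS hF]
    intro P hP
    have hKP : K ≤ P := by
      rcases hP with rfl | hP
      · exact hKS
      · exact hKess P hP
    have hPS : P ≤ S := by
      rcases hP with rfl | hP
      · exact le_rfl
      · exact hP.1.1
    refine ⟨hKP, fun α hα => ?_⟩
    have hαM : Mor F P (autFun P α) := (Cfsg.Agent.H86.mem_autGroup_iff hPS α).1 hα
    rw [map_subgroupOf_aut_eq_iff hKP hαM]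
    have : Finite K := finite_of_le hKS
    apply imgS_eq_of_maps (hαM.restrict hKP)
    intro k hk
    rw [hK]
    refine ⟨hαM.mem (hKP hk), ?_⟩
    rw [← mor_map_pow hαM (hKP hk), ((hK k).1 hk).2, hαM.map_one]
  have hKbot : K = ⊥ := by
    have h1 : K ≤ F.core := le_sSup hKN
    rw [hcore] at h1
    exact le_bot_iff.1 h1
  obtain ⟨g, hg, k, hk, hgk⟩ := h.hna
  have hc := h.comm_mem hg hk
  have h1 : g * k * g⁻¹ * k⁻¹ ∈ K := (hK _).2 ⟨(mem_center_inf_iff.1 hc).1, hZp _ hc⟩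
  rw [hKbot, Subgroup.mem_bot] at h1
  apply hgk
  have := congrArg (fun y => y * k * g) h1
  simpa [mul_assoc] using this

theorem exponent_eq_prime {p : ℕ} [hp : Fact p.Prime] (hall : ∀ g ∈ S, g ^ p = 1) (hS1 : S ≠ ⊥) :
    Monoid.exponent ↥S = p := by
  have h1 : Monoid.exponent ↥S ∣ p := Monoid.exponent_dvd_of_forall_pow_eq_one (fun g =>
    Subtype.ext (by rw [Subgroup.coe_pow]; exact hall g g.2))
  rcases (Nat.dvd_prime hp.out).1 h1 with h2 | h2
  · exfalso
    rw [Monoid.exp_eq_one_iff] at h2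
    exact hS1 (Subgroup.eq_bot_of_subsingleton S)
  · exact h2

end ciexp

end Cfsg.Agent.H89
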