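import Cfsg.Agent.H89.CenterIdx

set_option autoImplicit false

/-!
Core-free saturated fusion systems over a `p`-group (`p` odd) whose centre has index `p ^ 2`:
the centre has order `p`.
-/

namespace Cfsg.Agent.H89

open Cfsg Cfsg.FusionSystem Cfsg.Agent.H86
open scoped commutatorElement

section ciodd

variable {Ω : Type*} [Group Ω] {S : Subgroup Ω}

/-- The data attached to an essential subgroup `P`: an abelian subgroup `A = Z(S)⟨w⟩` of index `p`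
with `w ∉ P`, and `x ∈ P ∖ A`. -/
theorem CIdx.essential_data [Finite S] {p : ℕ} [hp : Fact p.Prime] (h : CIdx p S)
    (hS : IsPGroup p S) {F : FusionSystem S} (hF : F.IsSaturated p) {P : Subgroup Ω}
    (hP : F.IsEssential p P) :
    ∃ (A : Subgroup Ω) (x w : Ω), AbIdx p S A ∧ x ∈ P ∧ x ∉ A ∧
      (∀ g ∈ P, ∀ k ∈ P, g * k = k * g) ∧
      w ∈ (Subgroup.upperCentralSeries ↥S 2).map S.subtype ∧ w ∈ A ∧
      w ∉ S ⊓ Subgroup.centralizer (S : Set Ω) ∧ w ^ p ∈ S ⊓ Subgroup.centralizer (S : Set Ω) ∧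
      w ∉ P ∧ w ∈ S ∧
      (∀ g ∈ (Subgroup.upperCentralSeries ↥S 2).map S.subtype, g ∈ A →
        ∃ k : ℕ, g * (w ^ k)⁻¹ ∈ S ⊓ Subgroup.centralizer (S : Set Ω)) ∧
      A = (S ⊓ Subgroup.centralizer (S : Set Ω)) ⊔ Subgroup.zpowers w := by
  obtain ⟨hZP, -, ⟨w, hwS, hwP⟩, hPeq⟩ := h.essential hS hF hP
  have hwZ : w ∉ S ⊓ Subgroup.centralizer (S : Set Ω) := fun hc => hwP (hZP hc)
  have hA := h.ab w hwS hwZ
  have hwA : w ∈ (S ⊓ Subgroup.centralizer (S : Set Ω)) ⊔ Subgroup.zpowers w :=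
    Subgroup.mem_sup_right (Subgroup.mem_zpowers w)
  obtain ⟨x, hxP, hxA⟩ := (essential_eq_or_exists hA hP).resolve_left (by
    rintro rfl
    exact hwP hwA)
  have hxZ : x ∉ S ⊓ Subgroup.centralizer (S : Set Ω) := fun hc => hxA (Subgroup.mem_sup_left hc)
  have hab : ∀ g ∈ P, ∀ k ∈ P, g * k = k * g := by
    have h1 := hPeq x hxP hxZ
    have h2 := sup_zpowers_center_comm (hP.1.1 hxP)
    rw [← h1] at h2
    exact h2
  exact ⟨_, x, w, hA, hxP, hxA, hab, h.mem_Z2 hwS, hwA, hwZ, h.pow_mem hwS, hwP, hwS,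
    fun g _ hgA => center_sup_gen hwS g hgA, rfl⟩

/-- Core-free saturated fusion systems over a `p`-group (`p` odd) whose centre has index `p ^ 2`:
the centre lies in the commutator subgroup and has order `p`. -/
theorem ci_odd_core [Finite S] {p : ℕ} [hp : Fact p.Prime] (hp2 : p ≠ 2) (hS : IsPGroup p S)
    {F : FusionSystem S} (hF : F.IsSaturated p) (h : CIdx p S) (hcore : F.core = ⊥) :
    S ⊓ Subgroup.centralizer (S : Set Ω) ≤ ⁅S, S⁆ ∧
    Nat.card ↥(S ⊓ Subgroup.centralizer (S : Set Ω)) = p := by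
  have hna := h.hna
  have hZS : S ⊓ Subgroup.centralizer (S : Set Ω) ≤ S := inf_le_left
  have : Finite ↥(S ⊓ Subgroup.centralizer (S : Set Ω)) := finite_of_le hZS
  have hS1 : S ≠ ⊥ := by
    rintro hbot
    obtain ⟨g, hg, k, hk, hgk⟩ := hna
    rw [hbot, Subgroup.mem_bot] at hg
    apply hgk
    rw [hg, one_mul, mul_one]
  have hZle : ∀ P, (P = S ∨ F.IsEssential p P) → S ⊓ Subgroup.centralizer (S : Set Ω) ≤ P := by
    rintro P (rfl | hP)
    · exact hZS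
    · exact (h.essential hS hF hP).1
  have hnorm_of : ∀ Q : Subgroup Ω, Q ≤ S ⊓ Subgroup.centralizer (S : Set Ω) →
      (∀ P, (P = S ∨ F.IsEssential p P) → ∀ α ∈ F.autGroup P, ∀ g ∈ Q, autFun P α g ∈ Q) →
      F.IsNormal Q := by
    intro Q hQZ H
    rw [isNormal_iff_essential hS hF]
    intro P hP
    have hZP := hZle P hP
    have hPS : P ≤ S := by
      rcases hP with rfl | hP
      · exact le_rfl
      · exact hP.1.1
    refine ⟨hQZ.trans hZP, fun α hα => ?_⟩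
    have hαM : Mor F P (autFun P α) := (Cfsg.Agent.H86.mem_autGroup_iff hPS α).1 hα
    rw [map_subgroupOf_aut_eq_iff (hQZ.trans hZP) hαM]
    have : Finite Q := finite_of_le (hQZ.trans hZS)
    exact imgS_eq_of_maps (hαM.restrict (hQZ.trans hZP)) (H P hP α hα)
  have hle_core : ∀ Q, F.IsNormal Q → Q = ⊥ := by
    intro Q hQ
    have h1 : Q ≤ F.core := le_sSup hQ
    rw [hcore] at h1
    exact le_bot_iff.1 h1
  have hcenter_S : ∀ α : MulAut ↥S, ∀ z ∈ S ⊓ Subgroup.centralizer (S : Set Ω),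
      autFun S α z ∈ S ⊓ Subgroup.centralizer (S : Set Ω) := by
    intro α
    exact center_char hZS (fun z hz y hy => (mem_center_inf_iff.1 hz).2 y hy)
      (fun g hg hgc => mem_center_inf_iff.2 ⟨hg, hgc⟩) α
  obtain ⟨P₀, hP₀⟩ := exists_essential_of_core hS hF hS1 hcore
  obtain ⟨A₀, x₀, w₀, hA₀, hx₀P, hx₀A, hab₀, hw₀, hw₀A, hw₀Z, hw₀p, -, -, hgen₀, -⟩ :=
    h.essential_data hS hF hP₀
  have hP₀S := hP₀.1.1
  have hx₀S := hP₀S hx₀P
  obtain ⟨hZ0eq, hz₁p, hz₁1⟩ :=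
    hA₀.center_inf_commutator_eq' hx₀S hx₀A hw₀A hw₀ hw₀Z hw₀p hgen₀
  have hZ₀p : ∀ c ∈ (S ⊓ Subgroup.centralizer (S : Set Ω)) ⊓ ⁅S, S⁆, c ^ p = 1 := by
    intro c hc
    rw [hZ0eq] at hc
    obtain ⟨j, rfl⟩ := Subgroup.mem_zpowers_iff.1 hc
    rw [← zpow_natCast, ← zpow_mul, mul_comm, zpow_mul, zpow_natCast, hz₁p, one_zpow]
  have hcard : Nat.card ↥((S ⊓ Subgroup.centralizer (S : Set Ω)) ⊓ ⁅S, S⁆) = p := by
    rw [hZ0eq, Nat.card_zpowers]
    exact orderOf_eq_prime hz₁p hz₁1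
  have ha₀ := (saturated_fullyNormalized hS hF hP₀.2.1).2
  obtain ⟨γ₀, hγ₀, hsep₀⟩ := exists_sep ha₀ hP₀
  obtain ⟨θ₀, hθ₀, r₀, hfix₀, hdec₀⟩ := exists_refl_of_typeH' hp2 hS hF hA₀ hna hP₀ hx₀P hx₀A hab₀
    hw₀A hw₀ hw₀Z hw₀p hgen₀ hγ₀ hsep₀ rfl rfl
  -- the fixed subgroup of `θ₀`
  obtain ⟨Zs, hZs⟩ : ∃ Zs : Subgroup Ω, ∀ g, g ∈ Zs ↔
      ∃ hg : g ∈ S ⊓ Subgroup.centralizer (S : Set Ω), θ₀ ⟨g, hg⟩ = ⟨g, hg⟩ := by
    refine ⟨(MonoidHom.eqLocus θ₀.toMonoidHom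
      (MonoidHom.id ↥(S ⊓ Subgroup.centralizer (S : Set Ω)))).map
        (S ⊓ Subgroup.centralizer (S : Set Ω)).subtype, fun g => ?_⟩
    constructor
    · rintro ⟨m, hm, rfl⟩
      exact ⟨m.2, hm⟩
    · rintro ⟨hg, hfix⟩
      exact ⟨⟨g, hg⟩, hfix, rfl⟩
  have hZsZ : Zs ≤ S ⊓ Subgroup.centralizer (S : Set Ω) := fun g hg => ((hZs g).1 hg).1
  have hcomm : ∀ (P : Subgroup Ω) (_ : P ≤ S) (_ : S ⊓ Subgroup.centralizer (S : Set Ω) ≤ P)
      (α : MulAut ↥P), α ∈ F.autGroup P →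
      (∀ z ∈ S ⊓ Subgroup.centralizer (S : Set Ω),
        autFun P α z ∈ S ⊓ Subgroup.centralizer (S : Set Ω)) →
      (∀ c ∈ (S ⊓ Subgroup.centralizer (S : Set Ω)) ⊓ ⁅S, S⁆, autFun P α c ∈ ⁅S, S⁆) →
      ∀ g ∈ Zs, autFun P α g ∈ Zs := by
    intro P hPS hZP α hα hαZ hαS' g hg
    have hαM : Mor F P (autFun P α) := (Cfsg.Agent.H86.mem_autGroup_iff hPS α).1 hα
    have hbM : Mor F (S ⊓ Subgroup.centralizer (S : Set Ω)) (autFun P α) := hαM.restrict hZP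
    have himg := imgS_eq_of_maps hbM hαZ
    obtain ⟨b, hb⟩ : ∃ b : MulAut ↥(S ⊓ Subgroup.centralizer (S : Set Ω)), b = mkAut hbM himg :=
      ⟨_, rfl⟩
    have hbG : b ∈ F.autGroup (S ⊓ Subgroup.centralizer (S : Set Ω)) := by
      rw [hb]; exact mkAut_mem hbM himg
    have hbval : ∀ m : ↥(S ⊓ Subgroup.centralizer (S : Set Ω)),
        ((b m : ↥(S ⊓ Subgroup.centralizer (S : Set Ω))) : Ω) = autFun P α m := by
      intro m; rw [hb]; rfl
    have hbH : ∀ c ∈ ((S ⊓ Subgroup.centralizer (S : Set Ω)) ⊓ ⁅S, S⁆).subgroupOf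
        (S ⊓ Subgroup.centralizer (S : Set Ω)),
        b c ∈ ((S ⊓ Subgroup.centralizer (S : Set Ω)) ⊓ ⁅S, S⁆).subgroupOf
          (S ⊓ Subgroup.centralizer (S : Set Ω)) := by
      intro c hc
      rw [Subgroup.mem_subgroupOf] at hc ⊢
      rw [hbval]
      exact ⟨hαZ _ c.2, hαS' _ hc⟩
    have hbinv := aut_inv_mem_of_maps b _ hbH
    have hθ' : b * θ₀ * b⁻¹ ∈ F.autGroup (S ⊓ Subgroup.centralizer (S : Set Ω)) :=
      mul_mem (mul_mem hbG hθ₀) (inv_mem hbG)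
    have r' : IsReflAut (S ⊓ Subgroup.centralizer (S : Set Ω))
        ((S ⊓ Subgroup.centralizer (S : Set Ω)) ⊓ ⁅S, S⁆) (b * θ₀ * b⁻¹) := by
      constructor
      · intro c hc
        have h1 := hbinv c (Subgroup.mem_subgroupOf.2 hc)
        rw [Subgroup.mem_subgroupOf] at h1
        rw [MulAut.mul_apply, MulAut.mul_apply, r₀.1 _ h1, map_inv, MulAut.apply_inv_self]
      · intro m
        have e : (b * θ₀ * b⁻¹) m * m⁻¹ = b (θ₀ (b⁻¹ m) * (b⁻¹ m)⁻¹) := by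
          rw [map_mul, map_inv, MulAut.apply_inv_self]
          rfl
        rw [e]
        have h1 := hbH _ (Subgroup.mem_subgroupOf.2 (r₀.2 (b⁻¹ m)))
        rw [Subgroup.mem_subgroupOf] at h1
        exact h1
    have heq := reflAut_unique hS hF rfl hZ₀p hθ' hθ₀ r' r₀
    have hcm : b * θ₀ = θ₀ * b := mul_inv_eq_iff_eq_mul.1 heq
    obtain ⟨hgZ, hgfix⟩ := (hZs g).1 hg
    have hnZ := hαZ g hgZ
    refine (hZs _).2 ⟨hnZ, ?_⟩
    have e1 : (⟨autFun P α g, hnZ⟩ : ↥(S ⊓ Subgroup.centralizer (S : Set Ω))) = b ⟨g, hgZ⟩ :=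
      Subtype.ext (hbval ⟨g, hgZ⟩).symm
    rw [e1]
    have e2 : θ₀ (b ⟨g, hgZ⟩) = (θ₀ * b) ⟨g, hgZ⟩ := rfl
    rw [e2, ← hcm, MulAut.mul_apply, hgfix]
  have hZsN : F.IsNormal Zs := by
    apply hnorm_of Zs hZsZ
    rintro P (rfl | hP) α hα g hg
    · apply hcomm P le_rfl hZS α hα (hcenter_S α) _ g hg
      intro c hc
      obtain ⟨a, ha, rfl⟩ := hA₀.exists_of_mem_commutator hx₀S hx₀A hc.2
      have hαM : Mor F P (autFun P α) := (Cfsg.Agent.H86.mem_autGroup_iff le_rfl α).1 hα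
      exact mor_comm_mem hαM (hA₀.le ha) hx₀S
    · obtain ⟨A, x, w, hA, hxP, hxA, hab, hw, hwA, hwZ, hwp, -, -, hgen, -⟩ :=
        h.essential_data hS hF hP
      have hPS := hP.1.1
      have hxS := hPS hxP
      have hZP := hZle P (Or.inr hP)
      have hαM : Mor F P (autFun P α) := (Cfsg.Agent.H86.mem_autGroup_iff hPS α).1 hα
      have ha := (saturated_fullyNormalized hS hF hP.2.1).2
      obtain ⟨γ, hγ, hsep⟩ := exists_sep ha hP
      have hkey : ∀ γ ∈ F.autGroup P, Sep S P γ →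
          ∀ m : ↥(S ⊓ Subgroup.centralizer (S : Set Ω)), θ₀ m = m ↔ autFun P γ m ∈ A := by
        intro γ hγ hsep
        obtain ⟨θ, hθ, r, hfix, -⟩ := exists_refl_of_typeH' hp2 hS hF hA hna hP hxP hxA hab
          hwA hw hwZ hwp hgen hγ hsep rfl rfl
        have := reflAut_unique hS hF rfl hZ₀p hθ₀ hθ r₀ r
        rw [this]
        exact hfix
      have hP0 := oliver_abelian hA hna hP hxP hxA hab
      have hall : ∀ δ ∈ F.autGroup P, ∀ g ∈ Zs,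
          autFun P δ g ∈ S ⊓ Subgroup.centralizer (S : Set Ω) := by
        intro δ hδ g hg
        rcases typeH_dichotomy' hA hna hP hxP hxA hab hw hwA hwZ hwp hgen δ with h1 | h1
        · exact h1 g (hZsZ hg)
        · obtain ⟨hgZ, hfix⟩ := (hZs g).1 hg
          have h2 := (hkey δ hδ h1 ⟨g, hgZ⟩).1 hfix
          rw [← hP0]
          exact ⟨autFun_mem δ (hZP hgZ), h2⟩
      have hnZ := hall α hα g hg
      refine (hZs _).2 ⟨hnZ, ?_⟩
      apply (hkey γ hγ hsep ⟨_, hnZ⟩).2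
      have hgP : g ∈ P := hZP (hZsZ hg)
      have e : autFun P γ (autFun P α g) = autFun P (γ * α) g := (autFun_mul γ α hgP).symm
      show autFun P γ (autFun P α g) ∈ A
      rw [e]
      exact (center_le_essential hA hna hP.1 (hall (γ * α) (mul_mem hγ hα) g hg)).2
  have hZs_bot := hle_core Zs hZsN
  have hZle' : S ⊓ Subgroup.centralizer (S : Set Ω) ≤ ⁅S, S⁆ := by
    intro m hm
    obtain ⟨a, hafix, hma⟩ := hdec₀ ⟨m, hm⟩
    have haZs : (a : Ω) ∈ Zs := (hZs _).2 ⟨a.2, hafix⟩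
    rw [hZs_bot, Subgroup.mem_bot] at haZs
    rw [Subgroup.coe_mul, Subgroup.coe_inv, haZs, inv_one, mul_one] at hma
    exact hma.2
  refine ⟨hZle', ?_⟩
  rw [← hcard, inf_eq_left.2 hZle']

end ciodd

end Cfsg.Agent.H89
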