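import Cfsg.Agent.H89.CenterIdxExp

set_option autoImplicit false

/-!
Saturated fusion systems over a `2`-group whose centre has index `4`: the structure of the
automorphism groups of the essential subgroups.
-/

namespace Cfsg.Agent.H89

open Cfsg Cfsg.FusionSystem Cfsg.Agent.H86
open scoped commutatorElement

section ci2

variable {Ω : Type*} [Group Ω] {S : Subgroup Ω}

theorem zpow_sq_cases {u : Ω} (hu : u * u = 1) (j : ℤ) : u ^ j = 1 ∨ u ^ j = u := by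
  have h2 : u ^ (2 : ℤ) = 1 := by rw [zpow_two]; exact hu
  rcases Int.even_or_odd' j with ⟨k, hk | hk⟩
  · left
    rw [hk, zpow_mul, h2, one_zpow]
  · right
    rw [hk, zpow_add, zpow_mul, h2, one_zpow, one_mul, zpow_one]

theorem pow_sq_cases {u : Ω} (hu : u * u = 1) (j : ℕ) : u ^ j = 1 ∨ u ^ j = u := by
  have := zpow_sq_cases hu (j : ℤ)
  rwa [zpow_natCast] at this

/-- The generator `z₁` of the commutator subgroup (of order 2). -/
structure CZ1 (S : Subgroup Ω) (z₁ : Ω) : Prop where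
  mem : z₁ ∈ S ⊓ Subgroup.centralizer (S : Set Ω)
  ne : z₁ ≠ 1
  sq : z₁ * z₁ = 1
  comm : ∀ g ∈ S, ∀ k ∈ S, g * k = k * g ∨ g * k = z₁ * k * g
  ex : ∃ g₀ ∈ S, ∃ k₀ ∈ S, z₁ = g₀ * k₀ * g₀⁻¹ * k₀⁻¹

theorem CIdx.exists_z1 [Finite S] (h : CIdx 2 S) : ∃ z₁, CZ1 S z₁ := by
  obtain ⟨w, hw, hwZ, x, hx, hxZ, hxA⟩ := h.exists_pair
  have hA := h.ab w hw hwZ
  have hwA : w ∈ (S ⊓ Subgroup.centralizer (S : Set Ω)) ⊔ Subgroup.zpowers w :=
    Subgroup.mem_sup_right (Subgroup.mem_zpowers w)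
  obtain ⟨hZ0eq, hz₁p, hz₁1⟩ := hA.center_inf_commutator_eq' hx hxA hwA (h.mem_Z2 hw) hwZ
    (h.pow_mem hw) (fun g _ hgA => center_sup_gen hw g hgA)
  have hsq : (w * x * w⁻¹ * x⁻¹) * (w * x * w⁻¹ * x⁻¹) = 1 := by
    rw [← pow_two]
    exact hz₁p
  have hmem : w * x * w⁻¹ * x⁻¹ ∈ S ⊓ Subgroup.centralizer (S : Set Ω) := h.comm_mem hw hx
  refine ⟨w * x * w⁻¹ * x⁻¹, hmem, hz₁1, hsq, ?_, w, hw, x, hx, rfl⟩
  intro g hg k hk
  have hc : g * k * g⁻¹ * k⁻¹ ∈ (S ⊓ Subgroup.centralizer (S : Set Ω)) ⊓ ⁅S, S⁆ := by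
    refine ⟨h.comm_mem hg hk, ?_⟩
    rw [← commutatorElement_def]
    exact Subgroup.commutator_mem_commutator hg hk
  rw [hZ0eq] at hc
  obtain ⟨j, hj⟩ := Subgroup.mem_zpowers_iff.1 hc
  rcases zpow_sq_cases hsq j with h1 | h1
  · left
    rw [h1] at hj
    have := congrArg (fun y => y * k * g) hj
    simpa [mul_assoc] using this.symm
  · right
    rw [h1] at hj
    have := congrArg (fun y => y * k * g) hj
    simpa [mul_assoc] using this.symm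

namespace CZ1

variable {z₁ : Ω} (hz : CZ1 S z₁)
include hz

theorem central {s : Ω} (hs : s ∈ S) : s * z₁ = z₁ * s := (mem_center_inf_iff.1 hz.mem).2 s hs

theorem memS : z₁ ∈ S := (mem_center_inf_iff.1 hz.mem).1

theorem comm_cases {g k : Ω} (hg : g ∈ S) (hk : k ∈ S) :
    g * k * g⁻¹ * k⁻¹ = 1 ∨ g * k * g⁻¹ * k⁻¹ = z₁ := by
  rcases hz.comm g hg k hk with h1 | h1
  · left
    rw [h1]
    group
  · right
    rw [h1]
    group

theorem mor_fix {F : FusionSystem S} {β : Ω → Ω} (hβ : Mor F S β) : β z₁ = z₁ := by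
  obtain ⟨g₀, hg₀, k₀, hk₀, e⟩ := hz.ex
  have h1 : β z₁ = β g₀ * β k₀ * (β g₀)⁻¹ * (β k₀)⁻¹ := by
    rw [e, hβ.map_mul (S.mul_mem (S.mul_mem hg₀ hk₀) (S.inv_mem hg₀)) (S.inv_mem hk₀),
      hβ.map_mul (S.mul_mem hg₀ hk₀) (S.inv_mem hg₀), hβ.map_mul hg₀ hk₀, hβ.map_inv hg₀,
      hβ.map_inv hk₀]
  rcases hz.comm_cases (hβ.mem hg₀) (hβ.mem hk₀) with h2 | h2
  · exfalso
    rw [h2] at h1
    have := hβ.injOn hz.memS S.one_mem (by rw [h1, hβ.map_one])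
    exact hz.ne this
  · rw [h1, h2]

end CZ1

theorem mor_top_center [Finite S] {F : FusionSystem S} {β : Ω → Ω} (hβ : Mor F S β) :
    (∀ z ∈ S ⊓ Subgroup.centralizer (S : Set Ω), β z ∈ S ⊓ Subgroup.centralizer (S : Set Ω)) ∧
    (∀ z ∈ S, β z ∈ S ⊓ Subgroup.centralizer (S : Set Ω) →
      z ∈ S ⊓ Subgroup.centralizer (S : Set Ω)) := by
  have himg : imgS S β = S := imgS_eq_of_maps hβ (fun x hx => hβ.mem hx)
  have hZS : S ⊓ Subgroup.centralizer (S : Set Ω) ≤ S := inf_le_left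
  have hcc := fun α : MulAut ↥S => center_char hZS
    (fun z hz y hy => (mem_center_inf_iff.1 hz).2 y hy)
    (fun g hg hgc => mem_center_inf_iff.2 ⟨hg, hgc⟩) α
  constructor
  · intro z hz
    have := hcc (mkAut hβ himg) z hz
    rwa [autFun_mkAut hβ himg (hZS hz)] at this
  · intro z hzS hz
    have := hcc (mkAut hβ himg)⁻¹ (β z) hz
    rw [← autFun_mkAut hβ himg hzS, autFun_inv_apply _ hzS] at this
    exact this

/-- Basic facts on an essential subgroup `E` (abelian of index 2). -/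
structure EB (S E : Subgroup Ω) (z₁ : Ω) : Prop where
  ES : E ≤ S
  ZE : S ⊓ Subgroup.centralizer (S : Set Ω) ≤ E
  ab : ∀ g ∈ E, ∀ k ∈ E, g * k = k * g
  norm : ∀ s ∈ S, ∀ y ∈ E, s * y * s⁻¹ ∈ E
  prod : ∀ e ∈ E, ∀ e' ∈ E, e ∉ S ⊓ Subgroup.centralizer (S : Set Ω) →
    e' ∉ S ⊓ Subgroup.centralizer (S : Set Ω) → e * e' ∈ S ⊓ Subgroup.centralizer (S : Set Ω)
  out : ∀ s ∈ S, s ∉ E → ∀ e ∈ E, e ∉ S ⊓ Subgroup.centralizer (S : Set Ω) → s * e = z₁ * e * s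
  idx : ∀ s ∈ S, s ∉ E → ∀ s' ∈ S, s' ∉ E → s * s' ∈ E
  exw : ∃ w ∈ S, w ∉ E
  gen : ∀ x ∈ E, x ∉ S ⊓ Subgroup.centralizer (S : Set Ω) →
    E = (S ⊓ Subgroup.centralizer (S : Set Ω)) ⊔ Subgroup.zpowers x

theorem ci2_eb [Finite S] (hS : IsPGroup 2 S) {F : FusionSystem S} (hF : F.IsSaturated 2)
    (h : CIdx 2 S) {z₁ : Ω} (hz : CZ1 S z₁) {E : Subgroup Ω} (hE : F.IsEssential 2 E) :
    EB S E z₁ := by
  obtain ⟨hZE, ⟨x, hxE, hxZ⟩, hexw, hEeq⟩ := h.essential hS hF hE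
  have hES : E ≤ S := hE.1.1
  have hcen : centralizerIn S E ≤ E := hE.1.2 E (Cfsg.Agent.H86.isConj_refl F hES)
  have hAb : AbIdx 2 S E := by
    have := h.ab x (hES hxE) hxZ
    rwa [← hEeq x hxE hxZ] at this
  refine ⟨hES, hZE, hAb.comm, hAb.norm, ?_, ?_, ?_, hexw, hEeq⟩
  · intro e he e' he' heZ he'Z
    rw [hEeq e he heZ] at he'
    obtain ⟨c, hc, i, rfl⟩ := mem_sup_zpowers_central
      (fun c hc => ((mem_center_inf_iff.1 hc).2 e (hES he)).symm) he'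
    have he2 : e ^ (2 : ℤ) ∈ S ⊓ Subgroup.centralizer (S : Set Ω) := by
      have := h.pow_mem (hES he)
      rwa [← zpow_natCast] at this
    rcases Int.even_or_odd' i with ⟨k, hk | hk⟩
    · exfalso
      apply he'Z
      rw [hk, zpow_mul]
      exact Subgroup.mul_mem _ hc (Subgroup.zpow_mem _ he2 k)
    · rw [hk, zpow_add, zpow_mul, zpow_one]
      have hd : c * (e ^ (2 : ℤ)) ^ k ∈ S ⊓ Subgroup.centralizer (S : Set Ω) :=
        Subgroup.mul_mem _ hc (Subgroup.zpow_mem _ he2 k)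
      have hde := (mem_center_inf_iff.1 hd).2 e (hES he)
      have e1 : e * (c * ((e ^ (2 : ℤ)) ^ k * e)) = (c * (e ^ (2 : ℤ)) ^ k) * e ^ (2 : ℤ) := by
        calc e * (c * ((e ^ (2 : ℤ)) ^ k * e)) = (e * (c * (e ^ (2 : ℤ)) ^ k)) * e := by group
          _ = ((c * (e ^ (2 : ℤ)) ^ k) * e) * e := by rw [hde]
          _ = _ := by group
      rw [e1]
      exact Subgroup.mul_mem _ hd he2
  · intro s hs hsE e he heZ
    rcases hz.comm s hs e (hES he) with h1 | h1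
    · exfalso
      apply hsE
      apply hcen
      rw [mem_centralizerIn_iff]
      refine ⟨hs, fun y hy => ?_⟩
      rw [hEeq e he heZ] at hy
      obtain ⟨c, hc, i, rfl⟩ := mem_sup_zpowers_central
        (fun c hc => ((mem_center_inf_iff.1 hc).2 e (hES he)).symm) hy
      have h2 : Commute s e := h1
      have h3 := (h2.zpow_right i).eq
      have h4 := (mem_center_inf_iff.1 hc).2 s hs
      calc c * e ^ i * s = c * (e ^ i * s) := mul_assoc _ _ _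
        _ = c * (s * e ^ i) := by rw [h3]
        _ = (c * s) * e ^ i := (mul_assoc _ _ _).symm
        _ = (s * c) * e ^ i := by rw [h4]
        _ = s * (c * e ^ i) := mul_assoc _ _ _
    · exact h1
  · intro s hs hsE s' hs' hs'E
    obtain ⟨n, a, ha, e⟩ := hAb.gen s hs hsE s' hs'
    have hs2 : s ^ 2 ∈ E := hZE (h.pow_mem hs)
    rcases Nat.even_or_odd' n with ⟨m, hm | hm⟩
    · exfalso
      apply hs'E
      rw [e, hm, pow_mul]
      exact E.mul_mem ha (E.pow_mem hs2 m)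
    · rw [e, hm, pow_succ, pow_mul]
      have h5 : s * (a * ((s ^ 2) ^ m * s)) = (s * (a * (s ^ 2) ^ m) * s⁻¹) * s ^ 2 := by group
      rw [h5]
      exact E.mul_mem (hAb.norm s hs _ (E.mul_mem ha (E.pow_mem hs2 m))) hs2

theorem EB.mem_normalizerIn {E : Subgroup Ω} {z₁ : Ω} (hB : EB S E z₁) {s : Ω} (hs : s ∈ S) :
    s ∈ normalizerIn S E := by
  refine mem_normalizerIn_iff.2 ⟨hs, mem_normalizer_of_forall_conj_mem (hB.norm s hs) ?_⟩
  intro y hy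
  have := hB.norm s⁻¹ (S.inv_mem hs) y hy
  rwa [inv_inv] at this

/-- A separating automorphism moves `z₁` out of the centre. -/
theorem ci2_sep_moves [Finite S] (hS : IsPGroup 2 S) {F : FusionSystem S} (hF : F.IsSaturated 2)
    (h : CIdx 2 S) {z₁ : Ω} (hz : CZ1 S z₁) {E : Subgroup Ω} (hE : F.IsEssential 2 E)
    {γ : MulAut E} (hγ : γ ∈ F.autGroup E) (hsep : Sep S E γ) :
    autFun E γ z₁ ∉ S ⊓ Subgroup.centralizer (S : Set Ω) := by
  have hB := ci2_eb hS hF h hz hE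
  obtain ⟨w, hwS, hwE⟩ := hB.exw
  have hγM : Mor F E (autFun E γ) := (Cfsg.Agent.H86.mem_autGroup_iff hB.ES γ).1 hγ
  intro hc
  apply hwE
  refine tl_c hS hF hE hγ hsep (hB.mem_normalizerIn hwS) ?_ ?_
  · intro s hs y hy
    rcases hz.comm_cases (mem_normalizerIn_iff.1 hs).1 (hB.ES hy) with h1 | h1
    · rw [h1, hγM.map_one, mul_one, one_mul]
    · rw [h1]
      exact (mem_center_inf_iff.1 hc).2 w hwS
  · intro y hy
    have h1 : y⁻¹ * w * y * w⁻¹ ∈ S ⊓ Subgroup.centralizer (S : Set Ω) := by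
      have := h.comm_mem (S.inv_mem (hB.ES hy)) hwS
      rwa [inv_inv] at this
    exact (mem_center_inf_iff.1 h1).2 w hwS

theorem ci2_dichotomy [Finite S] (hS : IsPGroup 2 S) {F : FusionSystem S} (hF : F.IsSaturated 2)
    (h : CIdx 2 S) {E : Subgroup Ω} (hE : F.IsEssential 2 E) (δ : MulAut E) :
    (∀ m ∈ S ⊓ Subgroup.centralizer (S : Set Ω),
      autFun E δ m ∈ S ⊓ Subgroup.centralizer (S : Set Ω)) ∨ Sep S E δ := by
  obtain ⟨A, x, w, hA, hxP, hxA, hab, hw, hwA, hwZ, hwp, -, -, hgen, -⟩ :=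
    h.essential_data hS hF hE
  exact typeH_dichotomy' hA h.hna hE hxP hxA hab hw hwA hwZ hwp hgen δ

/-- An automorphism of an essential subgroup preserving the centre extends to `S`. -/
theorem ci2_extend [Finite S] (hS : IsPGroup 2 S) {F : FusionSystem S} (hF : F.IsSaturated 2)
    (h : CIdx 2 S) {z₁ : Ω} (hz : CZ1 S z₁) {E : Subgroup Ω} (hE : F.IsEssential 2 E)
    {δ : MulAut E} (hδ : δ ∈ F.autGroup E)
    (hδZ : ∀ m ∈ S ⊓ Subgroup.centralizer (S : Set Ω),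
      autFun E δ m ∈ S ⊓ Subgroup.centralizer (S : Set Ω)) :
    ∃ β, Mor F S β ∧ ∀ e ∈ E, β e = autFun E δ e := by
  have hB := ci2_eb hS hF h hz hE
  have hES := hB.ES
  have : Finite E := finite_of_le hES
  obtain ⟨w, hwS, hwE⟩ := hB.exw
  have hfn := saturated_fullyNormalized hS hF hE.2.1
  have ha := hfn.2
  have hrec : F.IsReceptive E := saturated_receptive_of_fullyCentralized hS hF hfn.1
  have hδM : Mor F E (autFun E δ) := (Cfsg.Agent.H86.mem_autGroup_iff hES δ).1 hδ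
  obtain ⟨τ, hτ⟩ := exists_conjAut (mem_normalizerIn_iff.1 (hB.mem_normalizerIn hwS)).2
  have hτT : τ ∈ autInducedBy S E := (mem_autInducedBy_iff S E τ).2 ⟨w, hwS, hτ⟩
  have hτG : τ ∈ F.autGroup E := autInducedBy_le_autGroup F hES hτT
  have hκ : δ * τ * δ⁻¹ ∈ F.autGroup E := mul_mem (mul_mem hδ hτG) (inv_mem hδ)
  obtain ⟨D, hD⟩ : ∃ D : Subgroup ↥E,
      D = (S ⊓ Subgroup.centralizer (S : Set Ω)).subgroupOf E := ⟨_, rfl⟩
  have hDmem : ∀ u : ↥E, u ∈ D ↔ (u : Ω) ∈ S ⊓ Subgroup.centralizer (S : Set Ω) := by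
    intro u
    rw [hD, Subgroup.mem_subgroupOf]
  have hDT : ∀ t ∈ autInducedBy S E, ∀ u ∈ D, t u ∈ D := by
    intro t ht u hu
    obtain ⟨s, hs, hts⟩ := (mem_autInducedBy_iff S E t).1 ht
    rw [hDmem] at hu ⊢
    rw [hts, (mem_center_inf_iff.1 hu).2 s hs, mul_inv_cancel_right]
    exact hu
  have hδD : ∀ u ∈ D, δ u ∈ D := by
    intro u hu
    rw [hDmem] at hu ⊢
    rw [← autFun_apply]
    exact hδZ _ hu
  have hδinv := aut_inv_mem_of_maps δ D hδD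
  have hκ1 : ∀ u : ↥E, u⁻¹ * (δ * τ * δ⁻¹) u ∈ D := by
    intro u
    have e1 : u⁻¹ * (δ * τ * δ⁻¹) u = δ ((δ⁻¹ u)⁻¹ * τ (δ⁻¹ u)) := by
      rw [map_mul, map_inv, MulAut.apply_inv_self]
      rfl
    rw [e1]
    apply hδD
    rw [hDmem, Subgroup.coe_mul, Subgroup.coe_inv, hτ]
    have h1 := h.comm_mem (S.inv_mem (hES (δ⁻¹ u).2)) hwS
    rw [inv_inv] at h1
    have e2 : ((δ⁻¹ u : ↥E) : Ω)⁻¹ * (w * ((δ⁻¹ u : ↥E) : Ω) * w⁻¹) =
        ((δ⁻¹ u : ↥E) : Ω)⁻¹ * w * ((δ⁻¹ u : ↥E) : Ω) * w⁻¹ := by group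
    rw [e2]
    exact h1
  have hκ2 : ∀ u ∈ D, (δ * τ * δ⁻¹) u = u := by
    intro u hu
    have hv := hδinv u hu
    rw [hDmem] at hv
    rw [MulAut.mul_apply, MulAut.mul_apply]
    have h3 : τ (δ⁻¹ u) = δ⁻¹ u := by
      apply Subtype.ext
      rw [hτ, (mem_center_inf_iff.1 hv).2 w hwS, mul_inv_cancel_right]
    rw [h3, MulAut.apply_inv_self]
  have hκT := mem_autInducedBy_of_stab hS ha D hDT hκ hκ1 hκ2
  obtain ⟨s, hs, hκs⟩ := (mem_autInducedBy_iff S E _).1 hκT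
  have himg : imgS E (autFun E δ) = E := imgS_autFun hδM
  refine receptive_extend hrec hδM himg hES (fun g hg =>
    ⟨hg, (mem_normalizerIn_iff.1 (hB.mem_normalizerIn hg)).2, ?_⟩)
  by_cases hgE : g ∈ E
  · refine ⟨1, S.one_mem, fun x hx => ?_⟩
    rw [hB.ab g hgE x hx, mul_inv_cancel_right, one_mul, inv_one, mul_one]
  · refine ⟨s, hs, fun x hx => ?_⟩
    have e1 : g * x * g⁻¹ = w * x * w⁻¹ := by
      by_cases hxZ : x ∈ S ⊓ Subgroup.centralizer (S : Set Ω)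
      · rw [(mem_center_inf_iff.1 hxZ).2 g hg, (mem_center_inf_iff.1 hxZ).2 w hwS,
          mul_inv_cancel_right, mul_inv_cancel_right]
      · rw [hB.out g hg hgE x hx hxZ, hB.out w hwS hwE x hx hxZ, mul_inv_cancel_right,
          mul_inv_cancel_right]
    rw [e1]
    have e2 : w * x * w⁻¹ = ((τ ⟨x, hx⟩ : ↥E) : Ω) := (hτ ⟨x, hx⟩).symm
    rw [e2, autFun_apply, autFun_of_mem δ hx, ← hκs, MulAut.mul_apply, MulAut.mul_apply,
      MulAut.inv_apply_self]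

/-- The data attached to an essential subgroup `E` when `p = 2`: an involution `u ∈ E ∖ Z(S)`
and a complement `W` of `⟨z₁⟩` in `Z(S)`, such that every automorphism of `E` in `F` is the
restriction of an automorphism of `S` followed by an automorphism fixing `W` pointwise and moving
the elements of `E` by elements of `⟨z₁, u⟩`. -/
structure Ess2 (F : FusionSystem S) (E : Subgroup Ω) (z₁ u : Ω) (W : Subgroup Ω) : Prop where
  uE : u ∈ E
  uZ : u ∉ S ⊓ Subgroup.centralizer (S : Set Ω)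
  usq : u * u = 1
  WZ : W ≤ S ⊓ Subgroup.centralizer (S : Set Ω)
  W1 : ∀ z ∈ S ⊓ Subgroup.centralizer (S : Set Ω), z ∈ W ∨ z * z₁ ∈ W
  W2 : ∀ β, Mor F S β → (∀ e ∈ E, β e ∈ E) → ∀ z ∈ W, β z ∈ W
  key : ∀ δ ∈ F.autGroup E, ∃ β, Mor F S β ∧ (∀ e ∈ E, β e ∈ E) ∧
    (∀ e ∈ W, autFun E δ e = β e) ∧
    ∀ e ∈ E, ∃ a b : ℕ, autFun E δ e = β e * z₁ ^ a * u ^ b
  bu : ∀ β, Mor F S β → (∀ e ∈ E, β e ∈ E) → β u = u ∨ β u = u * z₁

theorem exists_ess2 [Finite S] (hS : IsPGroup 2 S) {F : FusionSystem S} (hF : F.IsSaturated 2)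
    (h : CIdx 2 S) {z₁ : Ω} (hz : CZ1 S z₁) {E : Subgroup Ω} (hE : F.IsEssential 2 E) :
    ∃ (u : Ω) (W : Subgroup Ω), Ess2 F E z₁ u W := by
  have hB := ci2_eb hS hF h hz hE
  have hES := hB.ES
  have hZE := hB.ZE
  have : Finite E := finite_of_le hES
  obtain ⟨w, hwS, hwE⟩ := hB.exw
  have ha := (saturated_fullyNormalized hS hF hE.2.1).2
  have hz₁E : z₁ ∈ E := hZE hz.mem
  -- the automorphism `τ` induced by `w`
  obtain ⟨τ, hτ⟩ := exists_conjAut (mem_normalizerIn_iff.1 (hB.mem_normalizerIn hwS)).2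
  have hτT : τ ∈ autInducedBy S E := (mem_autInducedBy_iff S E τ).2 ⟨w, hwS, hτ⟩
  have hτG : τ ∈ F.autGroup E := autInducedBy_le_autGroup F hES hτT
  have hτZ : ∀ e : ↥E, (e : Ω) ∈ S ⊓ Subgroup.centralizer (S : Set Ω) → τ e = e := by
    intro e he
    apply Subtype.ext
    rw [hτ, (mem_center_inf_iff.1 he).2 w hwS, mul_inv_cancel_right]
  have hτN : ∀ e : ↥E, (e : Ω) ∉ S ⊓ Subgroup.centralizer (S : Set Ω) →
      ((τ e : ↥E) : Ω) = e * z₁ := by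
    intro e he
    rw [hτ, hB.out w hwS hwE e e.2 he, mul_inv_cancel_right, hz.central (hES e.2)]
  have hτcases : ∀ e : ↥E, ((τ e : ↥E) : Ω) = e ∨ ((τ e : ↥E) : Ω) = e * z₁ := by
    intro e
    by_cases he : (e : Ω) ∈ S ⊓ Subgroup.centralizer (S : Set Ω)
    · left
      rw [hτZ e he]
    · right
      exact hτN e he
  -- a separating automorphism
  obtain ⟨γ₀, hγ₀, hsep₀⟩ := exists_sep ha hE
  obtain ⟨z, hzdef⟩ : ∃ z : ↥E, z = ⟨z₁, hz₁E⟩ := ⟨_, rfl⟩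
  have hzc : (z : Ω) = z₁ := by rw [hzdef]
  have hzz : z * z = 1 := Subtype.ext (by rw [Subgroup.coe_mul, hzc]; exact hz.sq)
  have hmoves : ∀ γ ∈ F.autGroup E, Sep S E γ →
      ((γ z : ↥E) : Ω) ∉ S ⊓ Subgroup.centralizer (S : Set Ω) := by
    intro γ hγ hsep
    have := ci2_sep_moves hS hF h hz hE hγ hsep
    rwa [autFun_of_mem γ hz₁E, ← hzdef] at this
  obtain ⟨u, hu⟩ : ∃ u : ↥E, u = γ₀ z := ⟨_, rfl⟩
  have huZ : (u : Ω) ∉ S ⊓ Subgroup.centralizer (S : Set Ω) := by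
    rw [hu]
    exact hmoves γ₀ hγ₀ hsep₀
  have huu : u * u = 1 := by rw [hu, ← map_mul, hzz, map_one]
  obtain ⟨σ, hσ⟩ : ∃ σ : MulAut ↥E, σ = γ₀ * τ * γ₀⁻¹ := ⟨_, rfl⟩
  have hσG : σ ∈ F.autGroup E := by
    rw [hσ]
    exact mul_mem (mul_mem hγ₀ hτG) (inv_mem hγ₀)
  have hσZ : ∀ e : ↥E, ((γ₀⁻¹ e : ↥E) : Ω) ∈ S ⊓ Subgroup.centralizer (S : Set Ω) → σ e = e := by
    intro e he
    rw [hσ, MulAut.mul_apply, MulAut.mul_apply, hτZ _ he, MulAut.apply_inv_self]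
  have hσN : ∀ e : ↥E, ((γ₀⁻¹ e : ↥E) : Ω) ∉ S ⊓ Subgroup.centralizer (S : Set Ω) →
      σ e = e * u := by
    intro e he
    have h1 : τ (γ₀⁻¹ e) = γ₀⁻¹ e * z := by
      apply Subtype.ext
      rw [hτN _ he, Subgroup.coe_mul, hzc]
    rw [hσ, MulAut.mul_apply, MulAut.mul_apply, h1, map_mul, MulAut.apply_inv_self, hu]
  have hσcases : ∀ e : ↥E, σ e = e ∨ σ e = e * u := by
    intro e
    by_cases he : ((γ₀⁻¹ e : ↥E) : Ω) ∈ S ⊓ Subgroup.centralizer (S : Set Ω)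
    · left
      exact hσZ e he
    · right
      exact hσN e he
  have hγ₀inv_z : ((γ₀⁻¹ z : ↥E) : Ω) ∉ S ⊓ Subgroup.centralizer (S : Set Ω) :=
    hmoves γ₀⁻¹ (inv_mem hγ₀) hsep₀.inv
  have hσz : σ z = z * u := hσN z hγ₀inv_z
  -- the subgroup `W`
  obtain ⟨N, hN⟩ := exists_preimage_subgroup E (S ⊓ Subgroup.centralizer (S : Set Ω)) γ₀⁻¹
  obtain ⟨W, hWdef⟩ : ∃ W : Subgroup Ω, W = (S ⊓ Subgroup.centralizer (S : Set Ω)) ⊓ N :=
    ⟨_, rfl⟩
  have hWmem : ∀ g, g ∈ W ↔ g ∈ S ⊓ Subgroup.centralizer (S : Set Ω) ∧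
      ∃ hg : g ∈ E, ((γ₀⁻¹ ⟨g, hg⟩ : ↥E) : Ω) ∈ S ⊓ Subgroup.centralizer (S : Set Ω) := by
    intro g
    rw [hWdef, Subgroup.mem_inf, hN]
    constructor
    · rintro ⟨h1, h2, h3⟩
      refine ⟨h1, h2, ?_⟩
      rwa [autFun_of_mem _ h2] at h3
    · rintro ⟨h1, h2, h3⟩
      refine ⟨h1, h2, ?_⟩
      rwa [autFun_of_mem _ h2]
  have hWZ : W ≤ S ⊓ Subgroup.centralizer (S : Set Ω) := fun g hg => ((hWmem g).1 hg).1
  have hWE : W ≤ E := hWZ.trans hZE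
  have hWσ : ∀ e : ↥E, (e : Ω) ∈ W → σ e = e := by
    intro e he
    obtain ⟨-, hg, h3⟩ := (hWmem _).1 he
    exact hσZ e h3
  have hWτ : ∀ e : ↥E, (e : Ω) ∈ W → τ e = e := fun e he => hτZ e (hWZ he)
  -- the separating automorphism `γ = τ σ`
  obtain ⟨γ, hγdef⟩ : ∃ γ : MulAut ↥E, γ = τ * σ := ⟨_, rfl⟩
  have hγG : γ ∈ F.autGroup E := by
    rw [hγdef]
    exact mul_mem hτG hσG
  have hγz : γ z = u := by
    rw [hγdef, MulAut.mul_apply, hσz]
    apply Subtype.ext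
    have hne : ((z * u : ↥E) : Ω) ∉ S ⊓ Subgroup.centralizer (S : Set Ω) := by
      intro hc
      apply huZ
      have e1 : (u : Ω) = (z : Ω)⁻¹ * ((z * u : ↥E) : Ω) := by
        rw [Subgroup.coe_mul]
        group
      rw [e1]
      exact Subgroup.mul_mem _ (Subgroup.inv_mem _ (by rw [hzc]; exact hz.mem)) hc
    rw [hτN _ hne, Subgroup.coe_mul, hzc]
    calc z₁ * (u : Ω) * z₁ = z₁ * ((u : Ω) * z₁) := mul_assoc _ _ _
      _ = z₁ * (z₁ * (u : Ω)) := by rw [hz.central (hES u.2)]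
      _ = (z₁ * z₁) * u := (mul_assoc _ _ _).symm
      _ = u := by rw [hz.sq, one_mul]
  have hγsep : Sep S E γ := by
    rcases ci2_dichotomy hS hF h hE γ with h1 | h1
    · exfalso
      apply huZ
      have := h1 z₁ hz.mem
      rwa [autFun_of_mem γ hz₁E, ← hzdef, hγz] at this
    · exact h1
  have hγinv_z : ((γ⁻¹ z : ↥E) : Ω) ∉ S ⊓ Subgroup.centralizer (S : Set Ω) :=
    hmoves γ⁻¹ (inv_mem hγG) hγsep.inv
  have hform : ∀ ε : MulAut ↥E, (ε = 1 ∨ ε = γ ∨ ε = σ) → ∀ e : ↥E,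
      ∃ a b : ℕ, ((ε e : ↥E) : Ω) = e * z₁ ^ a * (u : Ω) ^ b := by
    rintro ε (rfl | rfl | rfl) e
    · exact ⟨0, 0, by simp⟩
    · rw [hγdef, MulAut.mul_apply]
      rcases hσcases e with h1 | h1
      · rw [h1]
        rcases hτcases e with h2 | h2
        · exact ⟨0, 0, by rw [h2]; simp⟩
        · exact ⟨1, 0, by rw [h2]; simp⟩
      · rw [h1]
        rcases hτcases (e * u) with h2 | h2
        · exact ⟨0, 1, by rw [h2]; simp⟩
        · refine ⟨1, 1, ?_⟩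
          rw [h2, Subgroup.coe_mul, pow_one, pow_one, mul_assoc, hz.central (hES u.2),
            ← mul_assoc]
    · rcases hσcases e with h1 | h1
      · exact ⟨0, 0, by rw [h1]; simp⟩
      · exact ⟨0, 1, by rw [h1]; simp⟩
  have hfixW : ∀ ε : MulAut ↥E, (ε = 1 ∨ ε = γ ∨ ε = σ) → ∀ e : ↥E, (e : Ω) ∈ W → ε e = e := by
    rintro ε (rfl | rfl | rfl) e he
    · rfl
    · rw [hγdef, MulAut.mul_apply, hWσ e he, hWτ e he]
    · exact hWσ e he
  -- every automorphism is `ε ∘ β` with `ε ∈ {1, γ, σ}` and `β` extending to `S`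
  have hK : ∀ δ ∈ F.autGroup E, ∃ β, Mor F S β ∧ (∀ e ∈ E, β e ∈ E) ∧
      ∃ ε : MulAut ↥E, (ε = 1 ∨ ε = γ ∨ ε = σ) ∧
        ∀ e : ↥E, ∃ he : β e ∈ E, δ e = ε ⟨β e, he⟩ := by
    intro δ hδ
    rcases ci2_dichotomy hS hF h hE δ with h1 | h1
    · obtain ⟨β, hβ, hβδ⟩ := ci2_extend hS hF h hz hE hδ h1
      have hβE : ∀ e ∈ E, β e ∈ E := fun e he => by
        rw [hβδ e he]
        exact autFun_mem δ he
      refine ⟨β, hβ, hβE, 1, Or.inl rfl, fun e => ⟨hβE e e.2, ?_⟩⟩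
      apply Subtype.ext
      rw [MulAut.one_apply]
      show ((δ e : ↥E) : Ω) = β e
      rw [hβδ e e.2, autFun_apply]
    · have hc : ((δ z : ↥E) : Ω) ∉ S ⊓ Subgroup.centralizer (S : Set Ω) := hmoves δ hδ h1
      have hδ₁ : γ⁻¹ * δ ∈ F.autGroup E := mul_mem (inv_mem hγG) hδ
      rcases ci2_dichotomy hS hF h hE (γ⁻¹ * δ) with h2 | h2
      · obtain ⟨β, hβ, hβδ⟩ := ci2_extend hS hF h hz hE hδ₁ h2
        have hβE : ∀ e ∈ E, β e ∈ E := fun e he => by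
          rw [hβδ e he]
          exact autFun_mem _ he
        refine ⟨β, hβ, hβE, γ, Or.inr (Or.inl rfl), fun e => ⟨hβE e e.2, ?_⟩⟩
        have e1 : (⟨β e, hβE e e.2⟩ : ↥E) = (γ⁻¹ * δ) e := by
          apply Subtype.ext
          show β e = (((γ⁻¹ * δ) e : ↥E) : Ω)
          rw [hβδ e e.2, autFun_apply]
        rw [e1, MulAut.mul_apply, MulAut.apply_inv_self]
      · have hδ₂ : γ⁻¹ * τ * δ ∈ F.autGroup E := mul_mem (mul_mem (inv_mem hγG) hτG) hδ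
        rcases ci2_dichotomy hS hF h hE (γ⁻¹ * τ * δ) with h3 | h3
        · obtain ⟨β, hβ, hβδ⟩ := ci2_extend hS hF h hz hE hδ₂ h3
          have hβE : ∀ e ∈ E, β e ∈ E := fun e he => by
            rw [hβδ e he]
            exact autFun_mem _ he
          refine ⟨β, hβ, hβE, σ, Or.inr (Or.inr rfl), fun e => ⟨hβE e e.2, ?_⟩⟩
          have e1 : (⟨β e, hβE e e.2⟩ : ↥E) = (γ⁻¹ * τ * δ) e := by
            apply Subtype.ext
            show β e = (((γ⁻¹ * τ * δ) e : ↥E) : Ω)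
            rw [hβδ e e.2, autFun_apply]
          rw [e1, MulAut.mul_apply, MulAut.mul_apply]
          have e2 : ∀ y : ↥E, σ (γ⁻¹ (τ y)) = y := by
            intro y
            have e3 : γ⁻¹ (τ y) = σ⁻¹ (τ⁻¹ (τ y)) := by
              rw [hγdef, mul_inv_rev]
              rfl
            rw [e3, MulAut.inv_apply_self, MulAut.apply_inv_self]
          exact (e2 (δ e)).symm
        · exfalso
          have a₁ := hmoves _ hδ₁ h2
          have a₂ := hmoves _ hδ₂ h3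
          apply a₂
          have e1 : (γ⁻¹ * τ * δ) z = (γ⁻¹ * δ) z * γ⁻¹ z := by
            rw [MulAut.mul_apply, MulAut.mul_apply, MulAut.mul_apply]
            have e2 : τ (δ z) = δ z * z := by
              apply Subtype.ext
              rw [hτN _ hc, Subgroup.coe_mul, hzc]
            rw [e2, map_mul]
          rw [e1, Subgroup.coe_mul]
          exact hB.prod _ ((γ⁻¹ * δ) z).2 _ (γ⁻¹ z).2 a₁ hγinv_z
  -- restriction of an automorphism of `S` preserving `E`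
  have hrestr : ∀ β, Mor F S β → (∀ e ∈ E, β e ∈ E) →
      ∃ b ∈ F.autGroup E, ∀ e : ↥E, ((b e : ↥E) : Ω) = β e := by
    intro β hβ hβE
    have himg : imgS E β = E := imgS_eq_of_maps (hβ.restrict hES) hβE
    exact ⟨mkAut (hβ.restrict hES) himg, mkAut_mem _ _, fun e => rfl⟩
  have hW2 : ∀ β, Mor F S β → (∀ e ∈ E, β e ∈ E) → ∀ c ∈ W, β c ∈ W := by
    intro β hβ hβE c hc
    obtain ⟨hcZ, hcE, hc3⟩ := (hWmem c).1 hc
    have hβc := (mor_top_center hβ).1 c hcZ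
    refine (hWmem _).2 ⟨hβc, hZE hβc, ?_⟩
    obtain ⟨b, hbG, hbval⟩ := hrestr β hβ hβE
    obtain ⟨β', hβ', hβ'E, ε, hε, hδε⟩ := hK (b⁻¹ * γ₀) (mul_mem (inv_mem hbG) hγ₀)
    obtain ⟨c', hc'⟩ : ∃ c' : ↥E, c' = ⟨c, hcE⟩ := ⟨_, rfl⟩
    have hbc : b c' = ⟨β c, hZE hβc⟩ := by
      apply Subtype.ext
      rw [hbval, hc']
    obtain ⟨he, hδe⟩ := hδε (γ₀⁻¹ (b c'))
    rw [MulAut.mul_apply, MulAut.apply_inv_self, MulAut.inv_apply_self] at hδe
    have hεc : ε c' = c' := hfixW ε hε c' (by rw [hc']; exact hc)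
    have h4 : (⟨β' ((γ₀⁻¹ (b c') : ↥E) : Ω), he⟩ : ↥E) = c' := by
      apply ε.injective
      rw [← hδe, hεc]
    have h5 : β' ((γ₀⁻¹ (b c') : ↥E) : Ω) = c := by
      have h7 : ((c' : ↥E) : Ω) = c := by rw [hc']
      exact (congrArg Subtype.val h4).trans h7
    have h6 := (mor_top_center hβ').2 _ (hES (γ₀⁻¹ (b c')).2) (by rw [h5]; exact hcZ)
    rw [hbc] at h6
    exact h6
  refine ⟨u, W, ⟨u.2, huZ, ?_, hWZ, ?_, hW2, ?_, ?_⟩⟩
  · have := congrArg Subtype.val huu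
    rwa [Subgroup.coe_mul] at this
  · intro c hc
    have hcE := hZE hc
    by_cases h1 : ((γ₀⁻¹ ⟨c, hcE⟩ : ↥E) : Ω) ∈ S ⊓ Subgroup.centralizer (S : Set Ω)
    · left
      exact (hWmem c).2 ⟨hc, hcE, h1⟩
    · right
      have hcz : c * z₁ ∈ S ⊓ Subgroup.centralizer (S : Set Ω) := Subgroup.mul_mem _ hc hz.mem
      refine (hWmem _).2 ⟨hcz, hZE hcz, ?_⟩
      have e1 : (⟨c * z₁, hZE hcz⟩ : ↥E) = ⟨c, hcE⟩ * z := by
        apply Subtype.ext
        rw [Subgroup.coe_mul, hzc]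
      rw [e1, map_mul, Subgroup.coe_mul]
      exact hB.prod _ (γ₀⁻¹ ⟨c, hcE⟩).2 _ (γ₀⁻¹ z).2 h1 hγ₀inv_z
  · intro δ hδ
    obtain ⟨β, hβ, hβE, ε, hε, hδε⟩ := hK δ hδ
    refine ⟨β, hβ, hβE, ?_, ?_⟩
    · intro e he
      obtain ⟨he', hδe⟩ := hδε ⟨e, hWE he⟩
      rw [autFun_of_mem δ (hWE he), hδe, hfixW ε hε ⟨β e, he'⟩ (hW2 β hβ hβE e he)]
    · intro e he
      obtain ⟨he', hδe⟩ := hδε ⟨e, he⟩
      obtain ⟨a, b, hab⟩ := hform ε hε ⟨β e, he'⟩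
      exact ⟨a, b, by rw [autFun_of_mem δ he, hδe, hab]⟩
  · intro β hβ hβE
    obtain ⟨b, hbG, hbval⟩ := hrestr β hβ hβE
    obtain ⟨β', hβ', hβ'E, ε, hε, hδε⟩ := hK (b * γ₀) (mul_mem hbG hγ₀)
    obtain ⟨he, hδe⟩ := hδε z
    have h1 : (⟨β' (z : Ω), he⟩ : ↥E) = z := by
      apply Subtype.ext
      show β' (z : Ω) = z
      rw [hzc, hz.mor_fix hβ']
    rw [h1, MulAut.mul_apply, ← hu] at hδe
    have h2 : β (u : Ω) = ((ε z : ↥E) : Ω) := by rw [← hδe, hbval]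
    rcases hε with rfl | rfl | rfl
    · exfalso
      apply huZ
      apply (mor_top_center hβ).2 _ (hES u.2)
      rw [h2, MulAut.one_apply, hzc]
      exact hz.mem
    · left
      rw [h2, hγz]
    · right
      rw [h2, hσz, Subgroup.coe_mul, hzc]
      exact (hz.central (hES u.2)).symm

end ci2

end Cfsg.Agent.H89
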