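import Cfsg.Agent.H89.CenterIdxTwo
import Cfsg.Agent.H87.Hyp

set_option autoImplicit false

/-!
Saturated fusion systems over a `2`-group whose centre has index `4`: automorphisms of `S`
preserve the essential subgroups; a bound for the hyperfocal subgroup.
-/

namespace Cfsg.Agent.H89

open Cfsg Cfsg.FusionSystem Cfsg.Agent.H86
open scoped commutatorElement

section ci2aut

variable {Ω : Type*} [Group Ω] {S : Subgroup Ω}

/-- A bound for the hyperfocal subgroup: a subgroup `T` normalized by `S`, containing the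
commutators of `S` and the elements `x⁻¹ α(x)` for the automorphisms of `S` and of the essential
subgroups, contains the hyperfocal subgroup. -/
theorem hyperfocal_le_of_aut [Finite S] {p : ℕ} [Fact p.Prime] (hS : IsPGroup p S)
    {F : FusionSystem S} (hF : F.IsSaturated p) (T : Subgroup Ω)
    (hTn : ∀ s ∈ S, ∀ t ∈ T, s * t * s⁻¹ ∈ T)
    (hTc : ∀ g ∈ S, ∀ k ∈ S, g * k * g⁻¹ * k⁻¹ ∈ T)
    (hT : ∀ P : Subgroup Ω, (P = S ∨ F.IsEssential p P) → ∀ α ∈ F.autGroup P, ∀ x ∈ P,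
      x⁻¹ * autFun P α x ∈ T) :
    F.hyperfocalSubgroup p ≤ T := by
  have hE : ∀ P : Subgroup Ω, (P = S ∨ F.IsEssential p P) →
      F.autGroup P ≤ (Cfsg.Agent.H87.modSys F T hTn).autGroup P := by
    intro P hP α hα
    have hPS : P ≤ S := by
      rcases hP with rfl | hP
      · exact le_rfl
      · exact hP.1.1
    rw [Cfsg.Agent.H86.mem_autGroup_iff hPS]
    obtain ⟨φ, hφ, hφα⟩ := (Cfsg.Agent.H86.mem_autGroup_iff hPS α).1 hα
    refine ⟨φ, ⟨hφ, 1, S.one_mem, fun x => ?_⟩, hφα⟩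
    rw [hφα, one_mul, inv_one, mul_one]
    exact hT P hP α hα x x.2
  have hall := Cfsg.Agent.H86.alperin hS hF _ hE
  unfold hyperfocalSubgroup
  rw [Subgroup.closure_le]
  rintro _ ⟨P, α, x, hP, -, rfl⟩
  have hαM : Mor F P (autFun P (α : MulAut P)) :=
    (Cfsg.Agent.H86.mem_autGroup_iff hP _).1 α.2
  obtain ⟨φ, ⟨-, s, hs, hφs⟩, hφf⟩ := hall P _ hαM
  have h1 := hφs x
  rw [hφf, autFun_apply] at h1
  have h2 : (x : Ω)⁻¹ * (((α : MulAut P) x : P) : Ω) =
      ((x : Ω)⁻¹ * s * (x : Ω)⁻¹⁻¹ * s⁻¹) *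
        ((s * (x : Ω) * s⁻¹)⁻¹ * (((α : MulAut P) x : P) : Ω)) := by group
  show (x : Ω)⁻¹ * (((α : MulAut P) x : P) : Ω) ∈ T
  rw [h2]
  exact T.mul_mem (hTc _ (S.inv_mem (hP x.2)) _ hs) h1

/-- No element of the centre squares to `z₁` (when there is an essential subgroup). -/
theorem ci2_no_sqrt [Finite S] (hS : IsPGroup 2 S) {F : FusionSystem S} (hF : F.IsSaturated 2)
    (h : CIdx 2 S) {z₁ : Ω} (hz : CZ1 S z₁) {E : Subgroup Ω} (hE : F.IsEssential 2 E) :
    ∀ c ∈ S ⊓ Subgroup.centralizer (S : Set Ω), c * c ≠ z₁ := by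
  intro c hc hcc
  have hB := ci2_eb hS hF h hz hE
  have ha := (saturated_fullyNormalized hS hF hE.2.1).2
  obtain ⟨γ, hγ, hsep⟩ := exists_sep ha hE
  have hγM : Mor F E (autFun E γ) := (Cfsg.Agent.H86.mem_autGroup_iff hB.ES γ).1 hγ
  apply ci2_sep_moves hS hF h hz hE hγ hsep
  have hcE := hB.ZE hc
  rw [← hcc, hγM.map_mul hcE hcE]
  by_cases h1 : autFun E γ c ∈ S ⊓ Subgroup.centralizer (S : Set Ω)
  · exact Subgroup.mul_mem _ h1 h1
  · exact hB.prod _ (autFun_mem γ hcE) _ (autFun_mem γ hcE) h1 h1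

/-- The automorphisms of `S` in `F` preserve every essential subgroup. -/
theorem ci2_aut_preserves [Finite S] (hS : IsPGroup 2 S) {F : FusionSystem S}
    (hF : F.IsSaturated 2) (h : CIdx 2 S) {z₁ : Ω} (hz : CZ1 S z₁) {β : Ω → Ω}
    (hβ : Mor F S β) {E : Subgroup Ω} (hE : F.IsEssential 2 E) : ∀ e ∈ E, β e ∈ E := by
  have hB := ci2_eb hS hF h hz hE
  obtain ⟨u, W, hU⟩ := exists_ess2 hS hF h hz hE
  have hES := hB.ES
  have huS := hES hU.uE
  have hβZ := mor_top_center hβ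
  have hred : β u ∈ E → ∀ e ∈ E, β e ∈ E := by
    intro hv e he
    by_cases heZ : e ∈ S ⊓ Subgroup.centralizer (S : Set Ω)
    · exact hB.ZE (hβZ.1 e heZ)
    · have h1 := hB.prod e he u hU.uE heZ hU.uZ
      have e1 : e = (e * u) * u := by rw [mul_assoc, hU.usq, mul_one]
      rw [e1, hβ.map_mul (S.mul_mem (hES he) huS) huS]
      exact E.mul_mem (hB.ZE (hβZ.1 _ h1)) hv
  apply hred
  by_contra hvE
  obtain ⟨v, hvdef⟩ : ∃ v, v = β u := ⟨_, rfl⟩
  rw [← hvdef] at hvE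
  have hvS : v ∈ S := by rw [hvdef]; exact hβ.mem huS
  have hvv : v * v = 1 := by rw [hvdef, ← hβ.map_mul huS huS, hU.usq, hβ.map_one]
  have hvZ : v ∉ S ⊓ Subgroup.centralizer (S : Set Ω) := fun hc => hvE (hB.ZE hc)
  have c1 : ∀ x, (x ∈ E ∧ x ∉ S ⊓ Subgroup.centralizer (S : Set Ω)) →
      (β x ∈ S ∧ β x ∉ E ∧ β x * v ∈ S ⊓ Subgroup.centralizer (S : Set Ω)) := by
    rintro x ⟨hxE, hxZ⟩
    have h1 := hB.prod x hxE u hU.uE hxZ hU.uZ
    have e2 : β x = β (x * u) * v := by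
      have e1 : x = (x * u) * u := by rw [mul_assoc, hU.usq, mul_one]
      conv_lhs => rw [e1]
      rw [hβ.map_mul (S.mul_mem (hES hxE) huS) huS, hvdef]
    have h2 := hβZ.1 _ h1
    refine ⟨hβ.mem (hES hxE), ?_, ?_⟩
    · intro hc
      apply hvE
      have e3 : v = (β (x * u))⁻¹ * β x := by rw [e2]; group
      rw [e3]
      exact E.mul_mem (E.inv_mem (hB.ZE h2)) hc
    · rw [e2, mul_assoc, hvv, mul_one]
      exact h2
  have hβvZ : β v ∉ S ⊓ Subgroup.centralizer (S : Set Ω) := fun hc => hvZ (hβZ.2 v hvS hc)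
  have hβvE : β v ∈ E := by
    by_contra hβvE
    have hβvS := hβ.mem hvS
    have ht := hB.idx v hvS hvE (β v) hβvS hβvE
    by_cases htZ : v * β v ∈ S ⊓ Subgroup.centralizer (S : Set Ω)
    · apply hvE
      have h5 := (mem_center_inf_iff.1 htZ).2 v hvS
      have e3 : β v * v = v * β v := by
        calc β v * v = v⁻¹ * ((v * β v) * v) := by group
          _ = v⁻¹ * (v * (v * β v)) := by rw [h5]
          _ = v * β v := by group
      have h3 : β (v * u) ∈ S ⊓ Subgroup.centralizer (S : Set Ω) := by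
        rw [hβ.map_mul hvS huS, ← hvdef, e3]
        exact htZ
      have h4 := hβZ.2 _ (S.mul_mem hvS huS) h3
      have e4 : v = (v * u) * u := by rw [mul_assoc, hU.usq, mul_one]
      rw [e4]
      exact E.mul_mem (hB.ZE h4) hU.uE
    · have hc' := hB.prod _ ht u hU.uE htZ hU.uZ
      apply ci2_no_sqrt hS hF h hz hE _ hc'
      have hqq : β v * β v = 1 := by rw [← hβ.map_mul hvS hvS, hvv, hβ.map_one]
      have hqu : β v * u = z₁ * u * β v := hB.out (β v) hβvS hβvE u hU.uE hU.uZ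
      have hcv := (mem_center_inf_iff.1 hc').2 v hvS
      calc v * β v * u * (v * β v * u) = (v * β v * u * v) * β v * u := by group
        _ = (v * (v * β v * u)) * β v * u := by rw [hcv]
        _ = (v * v) * (β v * u) * (β v * u) := by group
        _ = (z₁ * u * β v) * (β v * u) := by rw [hvv, one_mul, hqu]
        _ = z₁ * u * (β v * β v) * u := by group
        _ = z₁ := by rw [hqq, mul_one, mul_assoc, hU.usq, mul_one]
  have c2 : ∀ x, (x ∈ S ∧ x ∉ E ∧ x * v ∈ S ⊓ Subgroup.centralizer (S : Set Ω)) →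
      (β x ∈ E ∧ β x ∉ S ⊓ Subgroup.centralizer (S : Set Ω)) := by
    rintro x ⟨hxS, hxE, hxv⟩
    have e2 : β x = β (x * v) * β v := by
      have e1 : x = (x * v) * v := by rw [mul_assoc, hvv, mul_one]
      conv_lhs => rw [e1]
      rw [hβ.map_mul (S.mul_mem hxS hvS) hvS]
    have h2 := hβZ.1 _ hxv
    refine ⟨?_, ?_⟩
    · rw [e2]
      exact E.mul_mem (hB.ZE h2) hβvE
    · intro hc
      apply hβvZ
      have e3 : β v = (β (x * v))⁻¹ * β x := by rw [e2]; group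
      rw [e3]
      exact Subgroup.mul_mem _ (Subgroup.inv_mem _ h2) hc
  -- the automorphism of `S` defined by `β`
  have himg : imgS S β = S := imgS_eq_of_maps hβ (fun x hx => hβ.mem hx)
  obtain ⟨b, hb⟩ : ∃ b : MulAut ↥S, b = mkAut hβ himg := ⟨_, rfl⟩
  have hbG : b ∈ F.autGroup S := by
    rw [hb]
    exact mkAut_mem _ _
  have hbval : ∀ x : ↥S, ((b x : ↥S) : Ω) = β x := by
    intro x
    rw [hb]
    rfl
  have hiter : ∀ k : ℕ,
      (Even k → ((((b ^ k) ⟨u, huS⟩ : ↥S) : Ω) ∈ E ∧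
        (((b ^ k) ⟨u, huS⟩ : ↥S) : Ω) ∉ S ⊓ Subgroup.centralizer (S : Set Ω))) ∧
      (Odd k → ((((b ^ k) ⟨u, huS⟩ : ↥S) : Ω) ∈ S ∧ (((b ^ k) ⟨u, huS⟩ : ↥S) : Ω) ∉ E ∧
        (((b ^ k) ⟨u, huS⟩ : ↥S) : Ω) * v ∈ S ⊓ Subgroup.centralizer (S : Set Ω))) := by
    intro k
    induction k with
    | zero => exact ⟨fun _ => ⟨hU.uE, hU.uZ⟩, fun h0 => absurd h0 (by decide)⟩
    | succ k ih =>
      have e : ((b ^ (k + 1)) ⟨u, huS⟩ : ↥S) = b ((b ^ k) ⟨u, huS⟩) := by
        rw [pow_succ']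
        rfl
      constructor
      · intro hev
        have hodd : Odd k := Nat.not_even_iff_odd.1 (Nat.even_add_one.1 hev)
        rw [e, hbval]
        exact c2 _ (ih.2 hodd)
      · intro hodd
        have hev : Even k := Nat.not_odd_iff_even.1 (Nat.odd_add_one.1 hodd)
        rw [e, hbval]
        exact c1 _ (ih.1 hev)
  -- `Aut_S(S)` is a normal Sylow `2`-subgroup of `Aut_F(S)`
  have : Finite (MulAut ↥S) := inferInstance
  have : Finite (F.autGroup S) := inferInstance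
  have hfnS : F.IsFullyNormalized S := Cfsg.Agent.H88.fullyNormalized_self F
  obtain ⟨R, hR⟩ := (saturated_fullyNormalized hS hF hfnS).2.2
  have hnorm : ((autInducedBy S S).subgroupOf (F.autGroup S)).Normal := by
    constructor
    intro n hn g
    rw [Subgroup.mem_subgroupOf] at hn ⊢
    obtain ⟨s, hs, hns⟩ := (mem_autInducedBy_iff S S _).1 hn
    rw [mem_autInducedBy_iff]
    refine ⟨((g : MulAut ↥S) ⟨s, hs⟩ : ↥S), ((g : MulAut ↥S) ⟨s, hs⟩).2, fun x => ?_⟩
    show ((((g : MulAut ↥S) * (n : MulAut ↥S) * (g : MulAut ↥S)⁻¹) x : ↥S) : Ω) = _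
    rw [MulAut.mul_apply, MulAut.mul_apply]
    have e1 : (n : MulAut ↥S) ((g : MulAut ↥S)⁻¹ x) =
        ⟨s, hs⟩ * ((g : MulAut ↥S)⁻¹ x) * ⟨s, hs⟩⁻¹ := by
      apply Subtype.ext
      rw [hns]
      rfl
    rw [e1, map_mul, map_mul, map_inv, MulAut.apply_inv_self]
    rfl
  have hidx : ¬ 2 ∣ ((autInducedBy S S).subgroupOf (F.autGroup S)).index := by
    rw [← hR]
    exact R.not_dvd_index
  have hpow := Subgroup.pow_index_mem ((autInducedBy S S).subgroupOf (F.autGroup S))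
    (⟨b, hbG⟩ : F.autGroup S)
  rw [Subgroup.mem_subgroupOf] at hpow
  obtain ⟨g, hg, hgx⟩ := (mem_autInducedBy_iff S S _).1 hpow
  have hodd : Odd ((autInducedBy S S).subgroupOf (F.autGroup S)).index :=
    Nat.odd_iff.2 (Nat.two_dvd_ne_zero.1 hidx)
  have hB' := (hiter _).2 hodd
  apply hB'.2.1
  have e : (((b ^ ((autInducedBy S S).subgroupOf (F.autGroup S)).index) ⟨u, huS⟩ : ↥S) : Ω) =
      g * u * g⁻¹ := by
    have := hgx ⟨u, huS⟩
    rw [Subgroup.coe_pow] at this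
    exact this
  rw [e]
  exact hB.norm g hg u hU.uE

end ci2aut

end Cfsg.Agent.H89
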