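import Cfsg.Agent.H89.CenterIdxTwoAut
import Cfsg.Agent.S0206

set_option autoImplicit false

/-!
Core-free saturated fusion systems over a `2`-group `S` whose centre has index `4`, with
hyperfocal subgroup `S`: the group `S` is dihedral of order `8`.
-/

namespace Cfsg.Agent.H89

open Cfsg Cfsg.FusionSystem Cfsg.Agent.H86
open scoped commutatorElement

section ci2main

variable {Ω : Type*} [Group Ω] {S : Subgroup Ω}

/-- The automorphisms of `S` in `F` fix the centre pointwise (core-free case). -/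
theorem ci2_fix_center [Finite S] (hS : IsPGroup 2 S) {F : FusionSystem S}
    (hF : F.IsSaturated 2) (h : CIdx 2 S) {z₁ : Ω} (hz : CZ1 S z₁) (hcore : F.core = ⊥) :
    ∀ β, Mor F S β → ∀ z ∈ S ⊓ Subgroup.centralizer (S : Set Ω), β z = z := by
  obtain ⟨Q, hQ⟩ : ∃ Q : Subgroup Ω, Q = Subgroup.closure
      {y | ∃ z ∈ S ⊓ Subgroup.centralizer (S : Set Ω), ∃ β, Mor F S β ∧ y = z⁻¹ * β z} :=
    ⟨_, rfl⟩
  have hgenQ : ∀ z ∈ S ⊓ Subgroup.centralizer (S : Set Ω), ∀ β, Mor F S β → z⁻¹ * β z ∈ Q := by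
    intro z hz' β hβ
    rw [hQ]
    exact Subgroup.subset_closure ⟨z, hz', β, hβ, rfl⟩
  have hQZ : Q ≤ S ⊓ Subgroup.centralizer (S : Set Ω) := by
    rw [hQ, Subgroup.closure_le]
    rintro _ ⟨z, hz', β, hβ, rfl⟩
    exact Subgroup.mul_mem _ (Subgroup.inv_mem _ hz') ((mor_top_center hβ).1 z hz')
  have hQβ : ∀ β, Mor F S β → ∀ q ∈ Q, β q ∈ Q := by
    intro β hβ q hq
    have e : β q = q * (q⁻¹ * β q) := by group
    rw [e]
    exact Q.mul_mem hq (hgenQ q (hQZ hq) β hβ)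
  have hQW : ∀ E, F.IsEssential 2 E → ∀ u W, Ess2 F E z₁ u W → Q ≤ W := by
    intro E hE u W hU
    rw [hQ, Subgroup.closure_le]
    rintro _ ⟨z, hz', β, hβ, rfl⟩
    have hβE := ci2_aut_preserves hS hF h hz hβ hE
    rcases hU.W1 z hz' with h1 | h1
    · exact W.mul_mem (W.inv_mem h1) (hU.W2 β hβ hβE z h1)
    · have h2 := hU.W2 β hβ hβE _ h1
      have hzS := (mem_center_inf_iff.1 hz').1
      rw [hβ.map_mul hzS hz.memS, hz.mor_fix hβ] at h2
      have e : z⁻¹ * β z = (z * z₁)⁻¹ * (β z * z₁) := by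
        have hc := hz.central (hβ.mem hzS)
        have hc' := hz.central (S.inv_mem hzS)
        rw [hc, mul_inv_rev]
        calc z⁻¹ * β z = z₁⁻¹ * (z₁ * z⁻¹) * β z := by
              rw [inv_mul_cancel_left]
          _ = z₁⁻¹ * (z⁻¹ * z₁) * β z := by rw [hc']
          _ = z₁⁻¹ * z⁻¹ * (z₁ * β z) := by simp only [mul_assoc]
      rw [e]
      exact W.mul_mem (W.inv_mem h1) h2
  have hQN : F.IsNormal Q := by
    rw [isNormal_iff_essential hS hF]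
    rintro P (rfl | hP)
    · have hQP : Q ≤ P := hQZ.trans inf_le_left
      refine ⟨hQP, fun α hα => ?_⟩
      have hαM : Mor F P (autFun P α) := (Cfsg.Agent.H86.mem_autGroup_iff le_rfl α).1 hα
      rw [map_subgroupOf_aut_eq_iff hQP hαM]
      have : Finite Q := finite_of_le hQP
      exact imgS_eq_of_maps (hαM.restrict hQP) (hQβ _ hαM)
    · have hB := ci2_eb hS hF h hz hP
      have hQP : Q ≤ P := hQZ.trans hB.ZE
      obtain ⟨u, W, hU⟩ := exists_ess2 hS hF h hz hP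
      refine ⟨hQP, fun α hα => ?_⟩
      have hαM : Mor F P (autFun P α) := (Cfsg.Agent.H86.mem_autGroup_iff hB.ES α).1 hα
      rw [map_subgroupOf_aut_eq_iff hQP hαM]
      have : Finite Q := finite_of_le (hQP.trans hB.ES)
      apply imgS_eq_of_maps (hαM.restrict hQP)
      intro q hq
      obtain ⟨β, hβ, -, hβW, -⟩ := hU.key α hα
      rw [hβW q (hQW P hP u W hU hq)]
      exact hQβ β hβ q hq
  have hQbot : Q = ⊥ := by
    have h1 : Q ≤ F.core := le_sSup hQN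
    rw [hcore] at h1
    exact le_bot_iff.1 h1
  intro β hβ z hz'
  have h1 := hgenQ z hz' β hβ
  rw [hQbot, Subgroup.mem_bot] at h1
  exact (inv_mul_eq_one.1 h1).symm

/-- Core-free saturated fusion systems over a `2`-group whose centre has index `4`, with
hyperfocal subgroup `S`: the centre has order `2` and `S` is generated by two involutions. -/
theorem ci2_main [Finite S] (hS : IsPGroup 2 S) {F : FusionSystem S} (hF : F.IsSaturated 2)
    (h : CIdx 2 S) (hcore : F.core = ⊥) (hhyp : F.hyperfocalSubgroup 2 = S) :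
    ∃ u₁ u₂ z₁ : Ω, u₁ ∈ S ∧ u₂ ∈ S ∧ u₁ * u₁ = 1 ∧ u₂ * u₂ = 1 ∧ z₁ ≠ 1 ∧ z₁ * z₁ = 1 ∧
      u₂ * u₁ = z₁ * u₁ * u₂ ∧ (∀ s ∈ S, s * z₁ = z₁ * s) ∧ z₁ ∈ S ∧
      Nat.card ↥(S ⊓ Subgroup.centralizer (S : Set Ω)) = 2 := by
  obtain ⟨z₁, hz⟩ := h.exists_z1
  have hS1 : S ≠ ⊥ := by
    rintro hbot
    obtain ⟨g, hg, k, hk, hgk⟩ := h.hna
    rw [hbot, Subgroup.mem_bot] at hg
    apply hgk
    rw [hg, one_mul, mul_one]
  obtain ⟨E₁, hE₁⟩ := exists_essential_of_core hS hF hS1 hcore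
  have hB₁ := ci2_eb hS hF h hz hE₁
  obtain ⟨u₁, W₁, hU₁⟩ := exists_ess2 hS hF h hz hE₁
  have hfix := ci2_fix_center hS hF h hz hcore
  by_cases hex : ∃ E₂, F.IsEssential 2 E₂ ∧ E₂ ≠ E₁
  swap
  · exfalso
    push Not at hex
    have hle : F.hyperfocalSubgroup 2 ≤ E₁ := by
      apply hyperfocal_le_of_aut hS hF E₁ hB₁.norm
      · intro g hg k hk
        exact hB₁.ZE (h.comm_mem hg hk)
      · rintro P (rfl | hP) α hα x hx
        · have hαM : Mor F P (autFun P α) := (Cfsg.Agent.H86.mem_autGroup_iff le_rfl α).1 hα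
          have hαinvM : Mor F P (autFun P α⁻¹) :=
            (Cfsg.Agent.H86.mem_autGroup_iff le_rfl α⁻¹).1 (inv_mem hα)
          by_cases hxE : x ∈ E₁
          · exact E₁.mul_mem (E₁.inv_mem hxE) (ci2_aut_preserves hS hF h hz hαM hE₁ x hxE)
          · have h1 : autFun P α x ∉ E₁ := by
              intro hc
              apply hxE
              have := ci2_aut_preserves hS hF h hz hαinvM hE₁ _ hc
              rwa [autFun_inv_apply α hx] at this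
            have hx' : x⁻¹ ∉ E₁ := fun hc => hxE (by simpa using E₁.inv_mem hc)
            exact hB₁.idx _ (P.inv_mem hx) hx' _ (hαM.mem hx) h1
        · have hPE : P ≤ E₁ := le_of_eq (hex P hP)
          exact hPE (P.mul_mem (P.inv_mem hx) (autFun_mem α hx))
    rw [hhyp] at hle
    obtain ⟨w, hwS, hwE⟩ := hB₁.exw
    exact hwE (hle hwS)
  obtain ⟨E₂, hE₂, hne⟩ := hex
  have hB₂ := ci2_eb hS hF h hz hE₂
  obtain ⟨u₂, W₂, hU₂⟩ := exists_ess2 hS hF h hz hE₂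
  have hu₁S := hB₁.ES hU₁.uE
  have hu₂S := hB₂.ES hU₂.uE
  have hu₂E₁ : u₂ ∉ E₁ := by
    intro hc
    apply hne
    rw [hB₂.gen u₂ hU₂.uE hU₂.uZ, hB₁.gen u₂ hc hU₂.uZ]
  have h21 : u₂ * u₁ = z₁ * u₁ * u₂ := hB₁.out u₂ hu₂S hu₂E₁ u₁ hU₁.uE hU₁.uZ
  have hzc : ∀ (n : ℤ) (s : Ω), s ∈ S → s * z₁ ^ n = z₁ ^ n * s := by
    intro n s hs
    have h1 : Commute s z₁ := hz.central hs
    exact (h1.zpow_right n).eq
  -- the subgroup `T = ⟨z₁, u₁, u₂⟩`
  obtain ⟨T, hT⟩ : ∃ T : Subgroup Ω, ∀ g, g ∈ T ↔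
      ∃ c a b : ℤ, g = z₁ ^ c * u₁ ^ a * u₂ ^ b := by
    refine ⟨{ carrier := {g | ∃ c a b : ℤ, g = z₁ ^ c * u₁ ^ a * u₂ ^ b}
              mul_mem' := ?_
              one_mem' := ⟨0, 0, 0, by simp⟩
              inv_mem' := ?_ }, fun g => Iff.rfl⟩
    · rintro _ _ ⟨c, a, b, rfl⟩ ⟨c', a', b', rfl⟩
      have hu1a : u₁ ^ a ∈ S := S.zpow_mem hu₁S a
      have hu1a' : u₁ ^ a' ∈ S := S.zpow_mem hu₁S a'
      have hu2b : u₂ ^ b ∈ S := S.zpow_mem hu₂S b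
      have e0 : z₁ ^ c * u₁ ^ a * u₂ ^ b * (z₁ ^ c' * u₁ ^ a' * u₂ ^ b') =
          z₁ ^ c * z₁ ^ c' * u₁ ^ a * (u₂ ^ b * u₁ ^ a') * u₂ ^ b' := by
        have h1 := hzc c' (u₁ ^ a * u₂ ^ b) (S.mul_mem hu1a hu2b)
        calc z₁ ^ c * u₁ ^ a * u₂ ^ b * (z₁ ^ c' * u₁ ^ a' * u₂ ^ b')
            = z₁ ^ c * (u₁ ^ a * u₂ ^ b * z₁ ^ c') * u₁ ^ a' * u₂ ^ b' := by
              simp only [mul_assoc]
          _ = z₁ ^ c * (z₁ ^ c' * (u₁ ^ a * u₂ ^ b)) * u₁ ^ a' * u₂ ^ b' := by rw [h1]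
          _ = _ := by simp only [mul_assoc]
      rcases hz.comm (u₂ ^ b) hu2b (u₁ ^ a') hu1a' with h1 | h1
      · refine ⟨c + c', a + a', b + b', ?_⟩
        rw [e0, h1, zpow_add, zpow_add, zpow_add]
        simp only [mul_assoc]
      · refine ⟨c + c' + 1, a + a', b + b', ?_⟩
        rw [e0, h1]
        have h2 := hzc 1 (u₁ ^ a) hu1a
        rw [zpow_one] at h2
        calc z₁ ^ c * z₁ ^ c' * u₁ ^ a * (z₁ * u₁ ^ a' * u₂ ^ b) * u₂ ^ b'
            = z₁ ^ c * z₁ ^ c' * (u₁ ^ a * z₁) * u₁ ^ a' * u₂ ^ b * u₂ ^ b' := by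
              simp only [mul_assoc]
          _ = z₁ ^ c * z₁ ^ c' * (z₁ * u₁ ^ a) * u₁ ^ a' * u₂ ^ b * u₂ ^ b' := by rw [h2]
          _ = _ := by
              rw [zpow_add, zpow_add, zpow_add, zpow_add, zpow_one]
              simp only [mul_assoc]
    · rintro _ ⟨c, a, b, rfl⟩
      have hu1a : u₁ ^ (-a) ∈ S := S.zpow_mem hu₁S _
      have hu2b : u₂ ^ (-b) ∈ S := S.zpow_mem hu₂S _
      have e0 : (z₁ ^ c * u₁ ^ a * u₂ ^ b)⁻¹ = z₁ ^ (-c) * (u₂ ^ (-b) * u₁ ^ (-a)) := by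
        have h1 := hzc (-c) (u₂ ^ (-b) * u₁ ^ (-a)) (S.mul_mem hu2b hu1a)
        rw [← h1]
        simp only [mul_inv_rev, zpow_neg, mul_assoc]
      rcases hz.comm (u₂ ^ (-b)) hu2b (u₁ ^ (-a)) hu1a with h1 | h1
      · exact ⟨-c, -a, -b, by rw [e0, h1, mul_assoc]⟩
      · refine ⟨-c + 1, -a, -b, ?_⟩
        rw [e0, h1, zpow_add, zpow_one]
        simp only [mul_assoc]
  have hz₁T : z₁ ∈ T := (hT _).2 ⟨1, 0, 0, by simp⟩
  have hu₁T : u₁ ∈ T := (hT _).2 ⟨0, 1, 0, by simp⟩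
  have hu₂T : u₂ ∈ T := (hT _).2 ⟨0, 0, 1, by simp⟩
  have hTc : ∀ g ∈ S, ∀ k ∈ S, g * k * g⁻¹ * k⁻¹ ∈ T := by
    intro g hg k hk
    rcases hz.comm_cases hg hk with h1 | h1
    · rw [h1]
      exact T.one_mem
    · rw [h1]
      exact hz₁T
  have hTS : T ≤ S := by
    intro g hg
    obtain ⟨c, a, b, rfl⟩ := (hT g).1 hg
    exact S.mul_mem (S.mul_mem (S.zpow_mem hz.memS c) (S.zpow_mem hu₁S a)) (S.zpow_mem hu₂S b)
  have hTn : ∀ s ∈ S, ∀ t ∈ T, s * t * s⁻¹ ∈ T := by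
    intro s hs t ht
    have e : s * t * s⁻¹ = (s * t * s⁻¹ * t⁻¹) * t := by group
    rw [e]
    exact T.mul_mem (hTc s hs t (hTS ht)) ht
  have hβu₁ : ∀ β, Mor F S β → β u₁ ∈ T := by
    intro β hβ
    rcases hU₁.bu β hβ (ci2_aut_preserves hS hF h hz hβ hE₁) with h1 | h1
    · rw [h1]
      exact hu₁T
    · rw [h1]
      exact T.mul_mem hu₁T hz₁T
  have hβu₂ : ∀ β, Mor F S β → β u₂ ∈ T := by
    intro β hβ
    rcases hU₂.bu β hβ (ci2_aut_preserves hS hF h hz hβ hE₂) with h1 | h1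
    · rw [h1]
      exact hu₂T
    · rw [h1]
      exact T.mul_mem hu₂T hz₁T
  have hSβ : ∀ β, Mor F S β → ∀ x ∈ S, x⁻¹ * β x ∈ T := by
    intro β hβ x hx
    have hdec : ∃ c ∈ S ⊓ Subgroup.centralizer (S : Set Ω), ∃ t ∈ T, x = c * t ∧ β t ∈ T := by
      by_cases hxE : x ∈ E₁
      · by_cases hxZ : x ∈ S ⊓ Subgroup.centralizer (S : Set Ω)
        · exact ⟨x, hxZ, 1, T.one_mem, (mul_one x).symm, by rw [hβ.map_one]; exact T.one_mem⟩
        · refine ⟨x * u₁, hB₁.prod x hxE u₁ hU₁.uE hxZ hU₁.uZ, u₁, hu₁T, ?_, hβu₁ β hβ⟩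
          rw [mul_assoc, hU₁.usq, mul_one]
      · have hy := hB₁.idx x hx hxE u₂ hu₂S hu₂E₁
        by_cases hyZ : x * u₂ ∈ S ⊓ Subgroup.centralizer (S : Set Ω)
        · refine ⟨x * u₂, hyZ, u₂, hu₂T, ?_, hβu₂ β hβ⟩
          rw [mul_assoc, hU₂.usq, mul_one]
        · refine ⟨x * u₂ * u₁, hB₁.prod _ hy u₁ hU₁.uE hyZ hU₁.uZ, u₁ * u₂,
            T.mul_mem hu₁T hu₂T, ?_, ?_⟩
          · have e1 : x * u₂ * u₁ * (u₁ * u₂) = x * u₂ * (u₁ * u₁) * u₂ := by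
              simp only [mul_assoc]
            rw [e1, hU₁.usq, mul_one, mul_assoc, hU₂.usq, mul_one]
          · rw [hβ.map_mul hu₁S hu₂S]
            exact T.mul_mem (hβu₁ β hβ) (hβu₂ β hβ)
    obtain ⟨c, hc, t, ht, rfl, hβt⟩ := hdec
    have hcS := (mem_center_inf_iff.1 hc).1
    rw [hβ.map_mul hcS (hTS ht), hfix β hβ c hc]
    have e : (c * t)⁻¹ * (c * β t) = t⁻¹ * β t := by group
    rw [e]
    exact T.mul_mem (T.inv_mem ht) hβt
  -- every essential subgroup is `E₁` or `E₂`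
  have hess : ∀ E, F.IsEssential 2 E → E = E₁ ∨ E = E₂ := by
    intro E hE
    by_contra hcon
    push Not at hcon
    obtain ⟨hne₁, hne₂⟩ := hcon
    have hB := ci2_eb hS hF h hz hE
    obtain ⟨u, W, hU⟩ := exists_ess2 hS hF h hz hE
    have huS := hB.ES hU.uE
    have huE₁ : u ∉ E₁ := fun hc => hne₁ (by
      rw [hB.gen u hU.uE hU.uZ, hB₁.gen u hc hU.uZ])
    have huE₂ : u ∉ E₂ := fun hc => hne₂ (by
      rw [hB.gen u hU.uE hU.uZ, hB₂.gen u hc hU.uZ])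
    have hy := hB₁.idx u huS huE₁ u₂ hu₂S hu₂E₁
    have hyZ : u * u₂ ∉ S ⊓ Subgroup.centralizer (S : Set Ω) := by
      intro hc
      apply huE₂
      have e : u = (u * u₂) * u₂ := by rw [mul_assoc, hU₂.usq, mul_one]
      rw [e]
      exact E₂.mul_mem (hB₂.ZE hc) hU₂.uE
    have hcZ := hB₁.prod _ hy u₁ hU₁.uE hyZ hU₁.uZ
    apply ci2_no_sqrt hS hF h hz hE₁ _ hcZ
    have hcu := (mem_center_inf_iff.1 hcZ).2 u huS
    calc u * u₂ * u₁ * (u * u₂ * u₁) = (u * (u * u₂ * u₁)) * u₂ * u₁ := by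
          rw [hcu]
          simp only [mul_assoc]
      _ = (u * u) * (u₂ * u₁) * u₂ * u₁ := by simp only [mul_assoc]
      _ = (z₁ * u₁ * u₂) * u₂ * u₁ := by rw [hU.usq, one_mul, h21]
      _ = z₁ * u₁ * (u₂ * u₂) * u₁ := by simp only [mul_assoc]
      _ = z₁ := by rw [hU₂.usq, mul_one, mul_assoc, hU₁.usq, mul_one]
  have hle : F.hyperfocalSubgroup 2 ≤ T := by
    apply hyperfocal_le_of_aut hS hF T hTn hTc
    rintro P (rfl | hP) α hα x hx
    · have hαM : Mor F P (autFun P α) := (Cfsg.Agent.H86.mem_autGroup_iff le_rfl α).1 hα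
      exact hSβ _ hαM x hx
    · have key : ∀ (u : Ω) (W : Subgroup Ω), Ess2 F P z₁ u W → u ∈ T →
          x⁻¹ * autFun P α x ∈ T := by
        intro u W hU huT
        obtain ⟨β, hβ, -, -, hform⟩ := hU.key α hα
        obtain ⟨a, b, e⟩ := hform x hx
        rw [e]
        have e2 : x⁻¹ * (β x * z₁ ^ a * u ^ b) = (x⁻¹ * β x) * z₁ ^ a * u ^ b := by
          simp only [mul_assoc]
        rw [e2]
        exact T.mul_mem (T.mul_mem (hSβ β hβ x (hP.1.1 hx)) (T.pow_mem hz₁T a)) (T.pow_mem huT b)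
      rcases hess P hP with h1 | h1
      · exact key u₁ W₁ (h1.symm ▸ hU₁) hu₁T
      · exact key u₂ W₂ (h1.symm ▸ hU₂) hu₂T
  rw [hhyp] at hle
  have hZle : ∀ c ∈ S ⊓ Subgroup.centralizer (S : Set Ω), c = 1 ∨ c = z₁ := by
    intro c hc
    obtain ⟨n, a, b, e⟩ := (hT c).1 (hle (mem_center_inf_iff.1 hc).1)
    have hprod : u₁ ^ a * u₂ ^ b ∈ S ⊓ Subgroup.centralizer (S : Set Ω) := by
      have e2 : u₁ ^ a * u₂ ^ b = (z₁ ^ n)⁻¹ * c := by
        rw [e]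
        simp only [mul_assoc, inv_mul_cancel_left]
      rw [e2]
      exact Subgroup.mul_mem _ (Subgroup.inv_mem _ (Subgroup.zpow_mem _ hz.mem n)) hc
    rcases zpow_sq_cases hU₁.usq a with h1 | h1 <;> rcases zpow_sq_cases hU₂.usq b with h2 | h2
    · rw [h1, h2, mul_one, mul_one] at e
      rw [e]
      exact zpow_sq_cases hz.sq n
    · exfalso
      rw [h1, h2, one_mul] at hprod
      exact hU₂.uZ hprod
    · exfalso
      rw [h1, h2, mul_one] at hprod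
      exact hU₁.uZ hprod
    · exfalso
      rw [h1, h2] at hprod
      apply hu₂E₁
      have e2 : u₂ = u₁ * (u₁ * u₂) := by rw [← mul_assoc, hU₁.usq, one_mul]
      rw [e2]
      exact E₁.mul_mem hU₁.uE (hB₁.ZE hprod)
  have hcard : Nat.card ↥(S ⊓ Subgroup.centralizer (S : Set Ω)) = 2 := by
    have heq : S ⊓ Subgroup.centralizer (S : Set Ω) = Subgroup.zpowers z₁ := by
      apply le_antisymm
      · intro c hc
        rcases hZle c hc with h1 | h1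
        · rw [h1]
          exact Subgroup.one_mem _
        · rw [h1]
          exact Subgroup.mem_zpowers _
      · rw [Subgroup.zpowers_le]
        exact hz.mem
    rw [heq, Nat.card_zpowers]
    exact orderOf_eq_prime (by rw [pow_two]; exact hz.sq) hz.ne
  exact ⟨u₁, u₂, z₁, hu₁S, hu₂S, hU₁.usq, hU₂.usq, hz.ne, hz.sq, h21,
    fun s hs => hz.central hs, hz.memS, hcard⟩

/-- A group of order `8` generated by two involutions with central commutator of order `2` is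
dihedral. -/
theorem dihedral_of_gens [Finite S] {u₁ u₂ z₁ : Ω} (hu₁S : u₁ ∈ S) (hu₂S : u₂ ∈ S)
    (hu₁ : u₁ * u₁ = 1) (hu₂ : u₂ * u₂ = 1) (hz1 : z₁ ≠ 1) (hzz : z₁ * z₁ = 1)
    (h21 : u₂ * u₁ = z₁ * u₁ * u₂) (hzc : ∀ s ∈ S, s * z₁ = z₁ * s) (hzS : z₁ ∈ S)
    (hcard : Nat.card S = 2 ^ 3) : Nonempty (↥S ≃* DihedralGroup 4) := by
  have hu₁1 : u₁ ≠ 1 := by
    rintro rfl
    apply hz1
    simpa using h21
  have hu₂1 : u₂ ≠ 1 := by
    rintro rfl
    apply hz1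
    simpa using h21
  obtain ⟨x, hx⟩ : ∃ x : ↥S, x = ⟨u₁, hu₁S⟩ := ⟨_, rfl⟩
  obtain ⟨y, hy⟩ : ∃ y : ↥S, y = ⟨u₂, hu₂S⟩ := ⟨_, rfl⟩
  have hxo : orderOf x = 2 := orderOf_eq_prime
    (by rw [pow_two, hx]; exact Subtype.ext hu₁)
    (by rw [hx]; intro hc; exact hu₁1 (congrArg Subtype.val hc))
  have hyo : orderOf y = 2 := orderOf_eq_prime
    (by rw [pow_two, hy]; exact Subtype.ext hu₂)
    (by rw [hy]; intro hc; exact hu₂1 (congrArg Subtype.val hc))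
  have hxy : x ≠ y := by
    intro hc
    have h' : u₁ = u₂ := by
      rw [hx, hy] at hc
      exact congrArg Subtype.val hc
    apply hz1
    rw [← h', hu₁, mul_assoc, hu₁, mul_one] at h21
    exact h21.symm
  obtain ⟨e⟩ := Cfsg.Agent.S0206.result x y hxo hyo hxy
  have hsq : (x * y) ^ 2 = ⟨z₁, hzS⟩ := by
    apply Subtype.ext
    rw [pow_two, hx, hy]
    show u₁ * u₂ * (u₁ * u₂) = z₁
    have h1 := hzc u₁ hu₁S
    calc u₁ * u₂ * (u₁ * u₂) = u₁ * (u₂ * u₁) * u₂ := by simp only [mul_assoc]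
      _ = u₁ * (z₁ * u₁ * u₂) * u₂ := by rw [h21]
      _ = (u₁ * z₁) * u₁ * (u₂ * u₂) := by simp only [mul_assoc]
      _ = z₁ := by rw [hu₂, mul_one, h1, mul_assoc, hu₁, mul_one]
  have hord : orderOf (x * y) = 2 ^ (1 + 1) := by
    apply orderOf_eq_prime_pow
    · rw [pow_one, hsq]
      intro hc
      exact hz1 (congrArg Subtype.val hc)
    · have e2 : (2 : ℕ) ^ (1 + 1) = 2 * 2 := by norm_num
      rw [e2, pow_mul, hsq]
      exact Subtype.ext (by rw [pow_two]; exact hzz)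
  have e4 : (2 : ℕ) ^ (1 + 1) = 4 := by norm_num
  rw [hord, e4] at e
  have htop : Subgroup.closure ({x, y} : Set ↥S) = ⊤ := by
    apply (Subgroup.card_eq_iff_eq_top _).1
    rw [Nat.card_congr e.toEquiv, hcard, DihedralGroup.nat_card]
    norm_num
  exact ⟨(Subgroup.topEquiv.symm.trans (MulEquiv.subgroupCongr htop.symm)).trans e⟩

end ci2main

end Cfsg.Agent.H89
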