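import Cfsg.Agent.H89.Transv
import Cfsg.Agent.H40.StrEmb

set_option autoImplicit false

/-!
Strongly `p`-embedded subgroups: two Sylow `p`-subgroups "connected" by a `p`-subgroup (for
instance by commuting nontrivial elements) are conjugate under the strongly embedded subgroup.
Fusion version: for an essential subgroup `E` there is `γ ∈ Aut_F(E)` such that `Aut_S(E)` and its
`γ`-conjugate are not connected.
-/

namespace Cfsg.Agent.H89

open Cfsg Cfsg.FusionSystem Cfsg.Agent.H86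
open scoped Pointwise

theorem sylow_conj_mem {X : Type*} [Group X] {p : ℕ} {P R : Sylow p X} {x : X} (hx : x • P = R)
    {t : X} (ht : t ∈ (P : Subgroup X)) : x * t * x⁻¹ ∈ (R : Subgroup X) := by
  have h3 := Subgroup.smul_mem_pointwise_smul _ (MulAut.conj x) _ ht
  rw [← Sylow.coe_subgroup_smul, hx, MulAut.smul_def, MulAut.conj_apply] at h3
  exact h3

theorem strEmb_control_sylow {X : Type*} [Group X] [Finite X] {p : ℕ} [Fact p.Prime]
    (E : Subgroup X) (hE : Cfsg.IsStronglyPEmbedded p E) (R : Sylow p X) :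
    ∃ M : Subgroup X, (∃ g : X, g ∉ M) ∧
      ∀ g : X, ∀ a ∈ (R : Subgroup X), a ≠ 1 → g * a * g⁻¹ ∈ (R : Subgroup X) → g ∈ M := by
  obtain ⟨hdvd, hne, P, hP⟩ := hE
  have hPne : (P : Subgroup X) ≠ ⊥ := P.ne_bot_of_dvd_card hdvd
  have hE' : ∀ U : Subgroup X, U ≤ P → U ≠ ⊥ → Subgroup.normalizer (U : Set X) ≤ E := by
    intro U hUS hU
    refine le_trans ?_ hP
    unfold Cfsg.kGeneratedCore
    exact le_iSup (fun Q : {Q : Subgroup X // Q ≤ (P : Subgroup X) ∧ ¬ Cfsg.PRankLE p (1 - 1) Q} =>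
      Subgroup.normalizer ((Q : Subgroup X) : Set X))
      ⟨U, hUS, (by
        simpa using Cfsg.Agent.H40.not_pRankLE_zero_of_ne_bot U (P.isPGroup'.to_le hUS) hU)⟩
  have hctl := Cfsg.Agent.H40.stronglyPEmbedded_control E P hPne hE'
  obtain ⟨x, hx⟩ := MulAction.exists_smul_eq X P R
  have hx' : x⁻¹ • R = P := by rw [← hx, inv_smul_smul]
  obtain ⟨g₀, hg₀⟩ : ∃ g : X, g ∉ E := by
    by_contra hcon
    push Not at hcon
    exact hne (Subgroup.eq_top_iff' E |>.mpr hcon)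
  refine ⟨E.map (MulAut.conj x).toMonoidHom, ⟨x * g₀ * x⁻¹, ?_⟩, ?_⟩
  · rintro ⟨e, he, hee⟩
    apply hg₀
    have h1 : x * e * x⁻¹ = x * g₀ * x⁻¹ := hee
    have h2 : e = g₀ := by
      have := congrArg (fun t => x⁻¹ * t * x) h1
      simpa [mul_assoc] using this
    rw [← h2]
    exact he
  · intro g a ha ha1 hga
    have h1 : x⁻¹ * a * x ∈ (P : Subgroup X) := by
      have := sylow_conj_mem hx' ha
      rwa [inv_inv] at this
    have h2 : x⁻¹ * (g * a * g⁻¹) * x ∈ (P : Subgroup X) := by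
      have := sylow_conj_mem hx' hga
      rwa [inv_inv] at this
    have hne1 : Subgroup.zpowers (x⁻¹ * a * x) ≠ ⊥ := by
      intro h
      rw [Subgroup.zpowers_eq_bot] at h
      apply ha1
      have := congrArg (fun t => x * t * x⁻¹) h
      simpa [mul_assoc] using this
    have hy := hctl (Subgroup.zpowers (x⁻¹ * a * x)) (Subgroup.zpowers_le.2 h1) hne1
      (x⁻¹ * g * x) (by
        rintro _ ⟨u, hu, rfl⟩
        obtain ⟨k, rfl⟩ := Subgroup.mem_zpowers_iff.1 hu
        have e1 : (MulAut.conj (x⁻¹ * g * x)).toMonoidHom ((x⁻¹ * a * x) ^ k) =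
            (x⁻¹ * (g * a * g⁻¹) * x) ^ k := by
          rw [map_zpow]
          congr 1
          show (x⁻¹ * g * x) * (x⁻¹ * a * x) * (x⁻¹ * g * x)⁻¹ = _
          group
        rw [e1]
        exact zpow_mem h2 k)
    refine ⟨x⁻¹ * g * x, hy, ?_⟩
    show x * (x⁻¹ * g * x) * x⁻¹ = g
    group

theorem strEmb_connect {X : Type*} [Group X] [Finite X] {p : ℕ} [Fact p.Prime]
    (E : Subgroup X) (hE : Cfsg.IsStronglyPEmbedded p E) (R : Sylow p X) :
    ∃ M : Subgroup X, (∃ g : X, g ∉ M) ∧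
      ∀ g : X, ∀ a ∈ (R : Subgroup X), a ≠ 1 → ∀ a' ∈ (R : Subgroup X), a' ≠ 1 →
        ∀ K : Subgroup X, IsPGroup p K → a ∈ K → g * a' * g⁻¹ ∈ K → g ∈ M := by
  obtain ⟨M, hM, hctl⟩ := strEmb_control_sylow E hE R
  refine ⟨M, hM, ?_⟩
  intro g a ha ha1 a' ha' ha'1 K hK haK hgK
  obtain ⟨Q, hQ⟩ := hK.exists_le_sylow
  obtain ⟨d, hd⟩ := MulAction.exists_smul_eq X Q R
  have h1 := hctl d a ha ha1 (sylow_conj_mem hd (hQ haK))
  have h2 := hctl (d * g) a' ha' ha'1 (by
    have := sylow_conj_mem hd (hQ hgK)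
    have e : d * g * a' * (d * g)⁻¹ = d * (g * a' * g⁻¹) * d⁻¹ := by group
    rw [e]
    exact this)
  have e : g = d⁻¹ * (d * g) := by group
  rw [e]
  exact M.mul_mem (M.inv_mem h1) h2

/-- Two commuting elements lying in `p`-subgroups generate a `p`-group. -/
theorem isPGroup_sup_zpowers_of_commute {X : Type*} [Group X] {p : ℕ} [Fact p.Prime]
    {K₁ K₂ : Subgroup X} (h1 : IsPGroup p K₁) (h2 : IsPGroup p K₂) {x y : X} (hx : x ∈ K₁)
    (hy : y ∈ K₂) (hxy : x * y = y * x) :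
    IsPGroup p ↥(Subgroup.zpowers x ⊔ Subgroup.zpowers y) := by
  apply IsPGroup.to_sup_of_normal_right' (h1.to_le (Subgroup.zpowers_le.2 hx))
    (h2.to_le (Subgroup.zpowers_le.2 hy))
  rw [Subgroup.zpowers_le]
  rw [Subgroup.mem_normalizer_iff]
  intro h
  constructor
  · intro hh
    obtain ⟨k, rfl⟩ := Subgroup.mem_zpowers_iff.1 hh
    have hc : Commute x (y ^ k) := (show Commute x y from hxy).zpow_right k
    have e2 : x * y ^ k * x⁻¹ = y ^ k := by
      rw [hc.eq, mul_inv_cancel_right]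
    rw [e2]
    exact hh
  · intro hh
    obtain ⟨k, hk⟩ := Subgroup.mem_zpowers_iff.1 hh
    have hc : Commute x⁻¹ (y ^ k) := ((show Commute x y from hxy).inv_left).zpow_right k
    have e2 : h = y ^ k := by
      have e3 : h = x⁻¹ * (x * h * x⁻¹) * x := by group
      rw [e3, ← hk, hc.eq, inv_mul_cancel_right]
    rw [e2]
    exact Subgroup.zpow_mem_zpowers y k

variable {Ω : Type*} [Group Ω] {S : Subgroup Ω}

/-- `Aut_S(E)` lies in a `p`-subgroup of `Aut(E)` when `E` is fully automized. -/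
theorem exists_pgroup_autInducedBy [Finite S] {p : ℕ} [Fact p.Prime] {F : FusionSystem S}
    {E : Subgroup Ω} (ha : F.IsFullyAutomized p E) :
    ∃ K : Subgroup (MulAut E), IsPGroup p K ∧ autInducedBy S E ≤ K := by
  obtain ⟨R, hR⟩ := ha.2
  refine ⟨(R : Subgroup (F.autGroup E)).map (F.autGroup E).subtype, R.isPGroup'.map _, ?_⟩
  intro a haA
  refine ⟨⟨a, autInducedBy_le_autGroup F ha.1 haA⟩, ?_, rfl⟩
  rw [SetLike.mem_coe, hR]
  exact Subgroup.mem_subgroupOf.2 haA

/-- For an essential subgroup `E` (fully automized), some `γ ∈ Aut_F(E)` is such that no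
nontrivial elements of `Out_S(E)` and of its `γ`-conjugate lie in a common `p`-subgroup. -/
theorem essential_connect [Finite S] {p : ℕ} [Fact p.Prime] {F : FusionSystem S} {E : Subgroup Ω}
    (ha : F.IsFullyAutomized p E) (hess : F.IsEssential p E) :
    ∃ γ ∈ F.autGroup E, ∀ a ∈ autInducedBy S E, a ∉ Inn E → ∀ a' ∈ autInducedBy S E,
      a' ∉ Inn E → ∀ K : Subgroup (MulAut E), IsPGroup p K → a ∈ K → γ * a' * γ⁻¹ ∈ K →
        False := by
  obtain ⟨hcen, hfn, hn', Ē, hĒ⟩ := hess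
  have hE : E ≤ S := hcen.1
  have : Finite E := finite_of_le hE
  have : Finite (MulAut E) := inferInstance
  have : Finite (F.autGroup E) := inferInstance
  obtain ⟨R, hR⟩ := ha.2
  have hπ : Function.Surjective (QuotientGroup.mk' ((Inn E).subgroupOf (F.autGroup E))) :=
    QuotientGroup.mk'_surjective _
  have hT : ((R.mapSurjective hπ : Sylow p _) : Subgroup _) =
      (R : Subgroup (F.autGroup E)).map (QuotientGroup.mk' ((Inn E).subgroupOf (F.autGroup E))) :=
    Sylow.coe_mapSurjective hπ R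
  obtain ⟨M, ⟨g₀, hg₀⟩, hctl⟩ := strEmb_connect Ē hĒ (R.mapSurjective hπ)
  obtain ⟨γ, hγ⟩ := hπ g₀
  refine ⟨γ.1, γ.2, ?_⟩
  intro a haA haI a' haA' haI' K hK haK hγK
  have haG : a ∈ F.autGroup E := autInducedBy_le_autGroup F hE haA
  have haG' : a' ∈ F.autGroup E := autInducedBy_le_autGroup F hE haA'
  apply hg₀
  rw [← hγ]
  refine hctl _ (QuotientGroup.mk' ((Inn E).subgroupOf (F.autGroup E)) ⟨a, haG⟩) ?_ ?_
    (QuotientGroup.mk' ((Inn E).subgroupOf (F.autGroup E)) ⟨a', haG'⟩) ?_ ?_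
    ((K.subgroupOf (F.autGroup E)).map (QuotientGroup.mk' ((Inn E).subgroupOf (F.autGroup E))))
    ?_ ?_ ?_
  · rw [hT]
    exact Subgroup.mem_map_of_mem _ (by rw [hR]; exact Subgroup.mem_subgroupOf.2 haA)
  · intro h
    rw [QuotientGroup.mk'_apply, QuotientGroup.eq_one_iff, Subgroup.mem_subgroupOf] at h
    exact haI h
  · rw [hT]
    exact Subgroup.mem_map_of_mem _ (by rw [hR]; exact Subgroup.mem_subgroupOf.2 haA')
  · intro h
    rw [QuotientGroup.mk'_apply, QuotientGroup.eq_one_iff, Subgroup.mem_subgroupOf] at h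
    exact haI' h
  · exact (hK.comap_of_injective (F.autGroup E).subtype Subtype.coe_injective).map _
  · exact Subgroup.mem_map_of_mem _ (Subgroup.mem_subgroupOf.2 haK)
  · have e : QuotientGroup.mk' ((Inn E).subgroupOf (F.autGroup E)) γ *
        QuotientGroup.mk' ((Inn E).subgroupOf (F.autGroup E)) ⟨a', haG'⟩ *
        (QuotientGroup.mk' ((Inn E).subgroupOf (F.autGroup E)) γ)⁻¹ =
        QuotientGroup.mk' ((Inn E).subgroupOf (F.autGroup E)) (γ * ⟨a', haG'⟩ * γ⁻¹) := by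
      rw [map_mul, map_mul, map_inv]
    rw [e]
    exact Subgroup.mem_map_of_mem _ (Subgroup.mem_subgroupOf.2 hγK)

/-- Variant: the connection is given either by `γ a' γ⁻¹ ∈ Aut_S(E)` or by commuting. -/
theorem essential_connect' [Finite S] {p : ℕ} [Fact p.Prime] {F : FusionSystem S}
    {E : Subgroup Ω} (ha : F.IsFullyAutomized p E) (hess : F.IsEssential p E) :
    ∃ γ ∈ F.autGroup E, ∀ a ∈ autInducedBy S E, a ∉ Inn E → ∀ a' ∈ autInducedBy S E,
      a' ∉ Inn E →
        (γ * a' * γ⁻¹ ∈ autInducedBy S E ∨ a * (γ * a' * γ⁻¹) = (γ * a' * γ⁻¹) * a) → False := by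
  obtain ⟨γ, hγ, hbad⟩ := essential_connect ha hess
  obtain ⟨K₀, hK₀, hAK⟩ := exists_pgroup_autInducedBy ha
  refine ⟨γ, hγ, ?_⟩
  intro a haA haI a' haA' haI' hor
  rcases hor with h | h
  · exact hbad a haA haI a' haA' haI' K₀ hK₀ (hAK haA) (hAK h)
  · have hK₁ : IsPGroup p ↥(K₀.map (MulAut.conj γ).toMonoidHom) := hK₀.map _
    have hmem : γ * a' * γ⁻¹ ∈ K₀.map (MulAut.conj γ).toMonoidHom := ⟨a', hAK haA', rfl⟩
    exact hbad a haA haI a' haA' haI' _
      (isPGroup_sup_zpowers_of_commute hK₀ hK₁ (hAK haA) hmem h)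
      (le_sup_left (a := Subgroup.zpowers a) (Subgroup.mem_zpowers a))
      (le_sup_right (a := Subgroup.zpowers a) (Subgroup.mem_zpowers _))

end Cfsg.Agent.H89
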