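import Mathlib
import Cfsg.Prelude.Def_Transfer
import Cfsg.Agent.H3.PGroup
import Cfsg.Agent.H52.Frattini

set_option autoImplicit false

namespace Cfsg.Agent.H89

open scoped commutatorElement

/-- A nonabelian group of order `p ^ 3` is extraspecial. -/
theorem extraspecial_of_card_cube {E : Type*} [Group E] [Finite E] {p : ℕ} [hp : Fact p.Prime]
    (hc : Nat.card E = p ^ 3) (hna : ∃ a b : E, a * b ≠ b * a) : Cfsg.IsExtraspecial p E := by
  have hpp : p.Prime := hp.out
  have hG : IsPGroup p E := IsPGroup.of_card hc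
  have hnt : Nontrivial E := by
    obtain ⟨a, b, hab⟩ := hna
    exact ⟨⟨a * b, b * a, hab⟩⟩
  have hZnt : Nontrivial (Subgroup.center E) := hG.center_nontrivial
  have hZne : Subgroup.center E ≠ ⊤ := by
    intro h
    obtain ⟨a, b, hab⟩ := hna
    apply hab
    have hb : b ∈ Subgroup.center E := by rw [h]; trivial
    exact (Subgroup.mem_center_iff.1 hb a)
  -- the quotient by the centre is not cyclic
  have hncyc : ¬ IsCyclic (E ⧸ Subgroup.center E) := by
    intro hcyc
    obtain ⟨a, b, hab⟩ := hna
    apply hab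
    have := MonoidHom.isMulCommutative_of_isCyclic_of_ker_le_center (QuotientGroup.mk' (Subgroup.center E))
      (by rw [QuotientGroup.ker_mk'])
    exact this.is_comm.comm a b
  have hidx : Nat.card (E ⧸ Subgroup.center E) * Nat.card (Subgroup.center E) = p ^ 3 := by
    rw [← hc]; exact (Subgroup.card_eq_card_quotient_mul_card_subgroup _).symm
  obtain ⟨k, hk3, hk⟩ := (Nat.dvd_prime_pow hpp).1 (Dvd.intro_left _ hidx)
  have hk0 : k ≠ 0 := by
    rintro rfl
    rw [pow_zero] at hk
    have : Subsingleton (Subgroup.center E) := (Nat.card_eq_one_iff_unique.1 hk).1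
    exact not_subsingleton _ this
  have hk3' : k ≠ 3 := by
    rintro rfl
    apply hZne
    exact (Subgroup.card_eq_iff_eq_top _).1 (by rw [hk, hc])
  have hk2 : k ≠ 2 := by
    rintro rfl
    rw [hk] at hidx
    have h1 : Nat.card (E ⧸ Subgroup.center E) = p := by
      have h2 : Nat.card (E ⧸ Subgroup.center E) * p ^ 2 = p * p ^ 2 := by rw [hidx]; ring
      exact Nat.eq_of_mul_eq_mul_right (pow_pos hpp.pos 2) h2
    exact hncyc (isCyclic_of_prime_card h1)
  have hk1 : k = 1 := by omega
  subst hk1
  rw [pow_one] at hk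
  have hq : Nat.card (E ⧸ Subgroup.center E) = p ^ 2 := by
    rw [hk] at hidx
    have h2 : Nat.card (E ⧸ Subgroup.center E) * p = p ^ 2 * p := by rw [hidx]; ring
    exact Nat.eq_of_mul_eq_mul_right hpp.pos h2
  -- commutators lie in the centre
  have hcomm : ∀ a b : E, ⁅a, b⁆ ∈ Subgroup.center E := by
    intro a b
    have hcq := IsPGroup.isMulCommutative_of_card_eq_prime_sq hq
    rw [← QuotientGroup.eq_one_iff, commutatorElement_def]
    simp only [QuotientGroup.mk_mul, QuotientGroup.mk_inv]
    rw [hcq.is_comm.comm (a : E ⧸ Subgroup.center E) (b : E ⧸ Subgroup.center E)]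
    simp
  have hcle : commutator E ≤ Subgroup.center E := by
    rw [commutator_def, Subgroup.commutator_le]
    intro a _ b _
    exact hcomm a b
  have hcne : commutator E ≠ ⊥ := by
    intro h
    obtain ⟨a, b, hab⟩ := hna
    apply hab
    have h1 : ⁅a, b⁆ ∈ commutator E := by
      rw [commutator_def]
      exact Subgroup.commutator_mem_commutator (Subgroup.mem_top a) (Subgroup.mem_top b)
    rw [h, Subgroup.mem_bot, commutatorElement_eq_one_iff_mul_comm] at h1
    exact h1
  have hceq : commutator E = Subgroup.center E := by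
    have hdvd : Nat.card (commutator E) ∣ p := by
      rw [← hk]; exact Subgroup.card_dvd_of_le hcle
    rcases (Nat.dvd_prime hpp).1 hdvd with h | h
    · exact absurd (Subgroup.card_eq_one.1 h) hcne
    · exact Subgroup.eq_of_le_of_card_ge hcle (by rw [h, hk])
  -- p-th powers lie in the centre
  have hpow : ∀ x : E, x ^ p ∈ Subgroup.center E := by
    intro x
    rw [← QuotientGroup.eq_one_iff, QuotientGroup.mk_pow]
    have ho : orderOf (x : E ⧸ Subgroup.center E) ∣ p ^ 2 := by
      rw [← hq]; exact orderOf_dvd_natCard _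
    obtain ⟨j, hj2, hj⟩ := (Nat.dvd_prime_pow hpp).1 ho
    have hj2' : j ≠ 2 := by
      rintro rfl
      exact hncyc (isCyclic_of_orderOf_eq_card (x : E ⧸ Subgroup.center E) (by rw [hj, hq]))
    have hj1 : j ≤ 1 := by omega
    have : orderOf (x : E ⧸ Subgroup.center E) ∣ p := by
      rw [hj]
      exact pow_dvd_pow p hj1 |>.trans (by rw [pow_one])
    exact orderOf_dvd_iff_pow_eq_one.1 this
  have hfle : frattini E ≤ Subgroup.center E :=
    Cfsg.Agent.H52.frattini_le_of_comm_pow (Subgroup.center E) hcomm hpow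
  have hfge : Subgroup.center E ≤ frattini E := by
    rw [← hceq]; exact Cfsg.Agent.H3.commutator_le_frattini hG
  exact ⟨⟨hG, le_antisymm hfle hfge, hceq⟩, hk⟩

end Cfsg.Agent.H89
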