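import Cfsg.Agent.H89.Transv

set_option autoImplicit false

/-!
A variant of the transvection lemma, in terms of centralizers.
-/

namespace Cfsg.Agent.H89

open Cfsg Cfsg.FusionSystem Cfsg.Agent.H86

variable {Ω : Type*} [Group Ω] {S : Subgroup Ω}

/-- Variant of the transvection lemma: let `E` be essential and `γ` separating. If `b ∈ N_S(E)`
commutes with the images under `γ` of the commutators `[s, y]` (`s ∈ N_S(E)`, `y ∈ E`) and with
the commutators `[y⁻¹, b]` (`y ∈ E`), then `b ∈ E`. -/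
theorem tl_c [Finite S] {p : ℕ} [Fact p.Prime] (hS : IsPGroup p S) {F : FusionSystem S}
    (hF : F.IsSaturated p) {E : Subgroup Ω} (hE : F.IsEssential p E) {γ : MulAut E}
    (hγ : γ ∈ F.autGroup E) (hsep : Sep S E γ) {b : Ω} (hbN : b ∈ normalizerIn S E)
    (h1 : ∀ s ∈ normalizerIn S E, ∀ y ∈ E,
      b * autFun E γ (s * y * s⁻¹ * y⁻¹) = autFun E γ (s * y * s⁻¹ * y⁻¹) * b)
    (h2 : ∀ y ∈ E, b * (y⁻¹ * b * y * b⁻¹) = (y⁻¹ * b * y * b⁻¹) * b) : b ∈ E := by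
  have hES : E ≤ S := hE.1.1
  have : Finite E := finite_of_le hES
  have hcen : centralizerIn S E ≤ E := hE.1.2 E (Cfsg.Agent.H86.isConj_refl F hES)
  have ha := (saturated_fullyNormalized hS hF hE.2.1).2
  obtain ⟨hbS, hbNn⟩ := mem_normalizerIn_iff.1 hbN
  obtain ⟨β, hβ⟩ := exists_conjAut hbNn
  have hβT : β ∈ autInducedBy S E := (mem_autInducedBy_iff S E β).2 ⟨b, hbS, hβ⟩
  have hβG : β ∈ F.autGroup E := autInducedBy_le_autGroup F hES hβT
  have hκ : γ⁻¹ * β * γ ∈ F.autGroup E := mul_mem (mul_mem (inv_mem hγ) hβG) hγ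
  obtain ⟨D, hD⟩ : ∃ D : Subgroup ↥E, ∀ d : ↥E, d ∈ D ↔
      b * ((γ d : ↥E) : Ω) = ((γ d : ↥E) : Ω) * b := by
    refine ⟨{ carrier := {d | b * ((γ d : ↥E) : Ω) = ((γ d : ↥E) : Ω) * b}
              mul_mem' := ?_
              one_mem' := ?_
              inv_mem' := ?_ }, fun d => Iff.rfl⟩
    · intro x y hx hy
      have hx' : b * ((γ x : ↥E) : Ω) = ((γ x : ↥E) : Ω) * b := hx
      have hy' : b * ((γ y : ↥E) : Ω) = ((γ y : ↥E) : Ω) * b := hy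
      show b * ((γ (x * y) : ↥E) : Ω) = ((γ (x * y) : ↥E) : Ω) * b
      rw [map_mul, Subgroup.coe_mul, ← mul_assoc, hx', mul_assoc, hy', mul_assoc]
    · show b * ((γ 1 : ↥E) : Ω) = ((γ 1 : ↥E) : Ω) * b
      rw [map_one]
      simp
    · intro x hx
      have hx' : b * ((γ x : ↥E) : Ω) = ((γ x : ↥E) : Ω) * b := hx
      show b * ((γ x⁻¹ : ↥E) : Ω) = ((γ x⁻¹ : ↥E) : Ω) * b
      rw [map_inv, Subgroup.coe_inv]
      calc b * ((γ x : ↥E) : Ω)⁻¹
          = ((γ x : ↥E) : Ω)⁻¹ * (((γ x : ↥E) : Ω) * b) * ((γ x : ↥E) : Ω)⁻¹ := by group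
        _ = ((γ x : ↥E) : Ω)⁻¹ * (b * ((γ x : ↥E) : Ω)) * ((γ x : ↥E) : Ω)⁻¹ := by rw [hx']
        _ = _ := by group
  have hDT : ∀ t ∈ autInducedBy S E, ∀ u ∈ D, t u ∈ D := by
    intro t ht u hu
    obtain ⟨s, hs, hts⟩ := (mem_autInducedBy_iff S E t).1 ht
    have hsN : s ∈ normalizerIn S E := mem_normalizerIn_iff.2 ⟨hs, mem_normalizer_of_induces hts⟩
    rw [hD] at hu ⊢
    have hc : s * (u : Ω) * s⁻¹ * (u : Ω)⁻¹ ∈ E := by
      have := (t u * u⁻¹).2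
      rw [Subgroup.coe_mul, Subgroup.coe_inv, hts] at this
      exact this
    have e1 : t u = ⟨s * (u : Ω) * s⁻¹ * (u : Ω)⁻¹, hc⟩ * u := by
      apply Subtype.ext
      rw [hts, Subgroup.coe_mul, inv_mul_cancel_right]
    rw [e1, map_mul, Subgroup.coe_mul]
    have h3 := h1 s hsN u u.2
    rw [autFun_of_mem γ hc] at h3
    rw [← mul_assoc, h3, mul_assoc, hu]
    exact (mul_assoc _ _ _).symm
  have hκ1 : ∀ u : ↥E, u⁻¹ * (γ⁻¹ * β * γ) u ∈ D := by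
    intro u
    rw [hD]
    have e1 : γ (u⁻¹ * (γ⁻¹ * β * γ) u) = (γ u)⁻¹ * β (γ u) := by
      rw [map_mul, map_inv, MulAut.mul_apply, MulAut.mul_apply, MulAut.apply_inv_self]
    rw [e1, Subgroup.coe_mul, Subgroup.coe_inv, hβ]
    have h3 := h2 _ (γ u).2
    have e2 : ((γ u : ↥E) : Ω)⁻¹ * (b * ((γ u : ↥E) : Ω) * b⁻¹) =
        ((γ u : ↥E) : Ω)⁻¹ * b * ((γ u : ↥E) : Ω) * b⁻¹ := by group
    rw [e2]
    exact h3
  have hκ2 : ∀ u ∈ D, (γ⁻¹ * β * γ) u = u := by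
    intro u hu
    rw [hD] at hu
    rw [MulAut.mul_apply, MulAut.mul_apply]
    have h3 : β (γ u) = γ u := by
      apply Subtype.ext
      rw [hβ, hu, mul_inv_cancel_right]
    rw [h3, MulAut.inv_apply_self]
  have hκT : γ⁻¹ * β * γ ∈ autInducedBy S E := mem_autInducedBy_of_stab hS ha D hDT hκ hκ1 hκ2
  have hinn := hsep.inv β hβT (by rw [inv_inv]; exact hκT)
  exact mem_of_induces_inner hES hcen hbS hβ hinn

end Cfsg.Agent.H89
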