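import Cfsg.Agent.H89.CenterIdxOdd
import Cfsg.Agent.H89.TransvC

set_option autoImplicit false

/-!
A `p`-group `S` (`p` odd) with an extraspecial subgroup `Q` of index `p` and a core-free saturated
fusion system: `Z(S) = Z(Q)`.
-/

namespace Cfsg.Agent.H89

open Cfsg Cfsg.FusionSystem Cfsg.Agent.H86
open scoped commutatorElement

section extraidx

variable {Ω : Type*} [Group Ω] {S : Subgroup Ω}

/-- If the commutators of `S` lie in a central subgroup `N` of order `p`, `E` is an essential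
subgroup and `γ ∈ Aut_F(E)` is separating, then `γ` moves some element of `N` out of `N`. -/
theorem sep_moves_central [Finite S] {p : ℕ} [Fact p.Prime] (hS : IsPGroup p S)
    {F : FusionSystem S} (hF : F.IsSaturated p) {E : Subgroup Ω} (hE : F.IsEssential p E)
    {γ : MulAut E} (hγ : γ ∈ F.autGroup E) (hsep : Sep S E γ) {N : Subgroup Ω}
    (hNZ : N ≤ S ⊓ Subgroup.centralizer (S : Set Ω))
    (hcomm : ∀ g ∈ S, ∀ k ∈ S, g * k * g⁻¹ * k⁻¹ ∈ N) :
    ∃ z ∈ N, autFun E γ z ∉ N := by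
  have hES : E ≤ S := hE.1.1
  have hcen : centralizerIn S E ≤ E := hE.1.2 E (Cfsg.Agent.H86.isConj_refl F hES)
  have ha := (saturated_fullyNormalized hS hF hE.2.1).2
  have hlt := Cfsg.Agent.H88.essential_lt ha hE
  obtain ⟨b, hbS, hbE⟩ := SetLike.exists_of_lt hlt
  have hZE : S ⊓ Subgroup.centralizer (S : Set Ω) ≤ E := by
    intro z hz
    apply hcen
    rw [mem_centralizerIn_iff]
    obtain ⟨hzS, hzc⟩ := mem_center_inf_iff.1 hz
    exact ⟨hzS, fun y hy => hzc y (hES hy)⟩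
  have hEn : ∀ s ∈ S, ∀ y ∈ E, s * y * s⁻¹ ∈ E := by
    intro s hs y hy
    have h1 : s * y * s⁻¹ = (s * y * s⁻¹ * y⁻¹) * y := by group
    rw [h1]
    exact E.mul_mem (hZE (hNZ (hcomm s hs y (hES hy)))) hy
  have hN : ∀ s ∈ S, s ∈ normalizerIn S E := by
    intro s hs
    refine mem_normalizerIn_iff.2 ⟨hs, mem_normalizer_of_forall_conj_mem (hEn s hs) ?_⟩
    intro y hy
    have := hEn s⁻¹ (S.inv_mem hs) y hy
    rwa [inv_inv] at this
  by_contra hcon
  push Not at hcon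
  apply hbE
  refine tl_b hS hF hE hγ hsep N S ?_ ?_ ?_ hbS (hN b hbS) ?_ ?_
  · intro y hy e he
    rw [(mem_center_inf_iff.1 (hNZ he)).2 y (hES hy), mul_inv_cancel_right]
    exact he
  · intro s hs
    exact ⟨s, (mem_normalizerIn_iff.1 hs).1, 1, E.one_mem, (mul_one s).symm⟩
  · intro s hs e he
    exact (mem_center_inf_iff.1 (hNZ he)).2 s hs
  · intro y hy
    exact hcomm b hbS y (hES hy)
  · intro y hy
    exact hcon _ (hcomm b hbS y (hES hy))

/-- If the commutators of `S` lie in a central subgroup `N` of order `p` and some saturated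
fusion system over `S` is core-free, then the centre of `S` has index at most `p ^ 2`. -/
theorem center_index_of_comm_prime [Finite S] {p : ℕ} [hp : Fact p.Prime] (hS : IsPGroup p S)
    {F : FusionSystem S} (hF : F.IsSaturated p) (hO : F.core = ⊥)
    (hna : ∃ g ∈ S, ∃ k ∈ S, g * k ≠ k * g) {N : Subgroup Ω}
    (hNZ : N ≤ S ⊓ Subgroup.centralizer (S : Set Ω)) (hNcard : Nat.card ↥N = p)
    (hcomm : ∀ g ∈ S, ∀ k ∈ S, g * k * g⁻¹ * k⁻¹ ∈ N) :
    (Subgroup.center ↥S).index ≤ p ^ 2 := by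
  have hNS : N ≤ S := hNZ.trans inf_le_left
  have hNc : ∀ n ∈ N, ∀ s ∈ S, s * n = n * s := fun n hn =>
    (mem_center_inf_iff.1 (hNZ hn)).2
  have hS1 : S ≠ ⊥ := by
    rintro hbot
    obtain ⟨g, hg, k, hk, hgk⟩ := hna
    rw [hbot, Subgroup.mem_bot] at hg
    apply hgk
    rw [hg, one_mul, mul_one]
  obtain ⟨E, hE⟩ := exists_essential_of_core hS hF hS1 hO
  have hES : E ≤ S := hE.1.1
  have : Finite E := finite_of_le hES
  have hcen : centralizerIn S E ≤ E := hE.1.2 E (Cfsg.Agent.H86.isConj_refl F hES)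
  have ha := (saturated_fullyNormalized hS hF hE.2.1).2
  have hlt := Cfsg.Agent.H88.essential_lt ha hE
  obtain ⟨b, hbS, hbE⟩ := SetLike.exists_of_lt hlt
  have hZE : S ⊓ Subgroup.centralizer (S : Set Ω) ≤ E := by
    intro z hz
    apply hcen
    rw [mem_centralizerIn_iff]
    obtain ⟨hzS, hzc⟩ := mem_center_inf_iff.1 hz
    exact ⟨hzS, fun y hy => hzc y (hES hy)⟩
  have hNE : N ≤ E := hNZ.trans hZE
  have hEn : ∀ s ∈ S, ∀ y ∈ E, s * y * s⁻¹ ∈ E := by
    intro s hs y hy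
    have h1 : s * y * s⁻¹ = (s * y * s⁻¹ * y⁻¹) * y := by group
    rw [h1]
    exact E.mul_mem (hNE (hcomm s hs y (hES hy))) hy
  have hN : ∀ s ∈ S, s ∈ normalizerIn S E := by
    intro s hs
    refine mem_normalizerIn_iff.2 ⟨hs, mem_normalizer_of_forall_conj_mem (hEn s hs) ?_⟩
    intro y hy
    have := hEn s⁻¹ (S.inv_mem hs) y hy
    rwa [inv_inv] at this
  obtain ⟨γ, hγ, hsep⟩ := exists_sep ha hE
  have hγM : Mor F E (autFun E γ) := (Cfsg.Agent.H86.mem_autGroup_iff hES γ).1 hγ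
  obtain ⟨z₁, hz₁N, hz₁γ⟩ := sep_moves_central hS hF hE hγ hsep hNZ hcomm
  have hz₁E : z₁ ∈ E := hNE hz₁N
  have hz₁1 : z₁ ≠ 1 := by
    rintro rfl
    apply hz₁γ
    rw [hγM.map_one]
    exact N.one_mem
  -- every element of `N` is a power of a given nontrivial element
  have hNgen : ∀ c ∈ N, c ≠ 1 → ∀ n ∈ N, ∃ j : ℤ, n = c ^ j := by
    intro c hc hc1 n hn
    have h1 : (⟨c, hc⟩ : ↥N) ≠ 1 := fun h => hc1 (congrArg Subtype.val h)
    have h2 := mem_zpowers_of_prime_card hNcard (g' := (⟨n, hn⟩ : ↥N)) h1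
    obtain ⟨j, hj⟩ := Subgroup.mem_zpowers_iff.1 h2
    refine ⟨j, ?_⟩
    have := congrArg Subtype.val hj
    rw [Subgroup.coe_zpow] at this
    exact this.symm
  -- `E` is abelian
  have hab : ∀ g ∈ E, ∀ k ∈ E, g * k = k * g := by
    by_contra hcon
    push Not at hcon
    obtain ⟨g, hg, k, hk, hgk⟩ := hcon
    have hcN : g * k * g⁻¹ * k⁻¹ ∈ N := hcomm g (hES hg) k (hES hk)
    have hc1 : g * k * g⁻¹ * k⁻¹ ≠ 1 := by
      intro h1
      apply hgk
      have := congrArg (fun y => y * k * g) h1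
      simpa [mul_assoc] using this
    obtain ⟨j, hj⟩ := hNgen _ hcN hc1 z₁ hz₁N
    apply hz₁γ
    have hcE : g * k * g⁻¹ * k⁻¹ ∈ E := hNE hcN
    rw [hj, mor_map_zpow hγM hcE]
    apply N.zpow_mem
    rw [hγM.map_mul (E.mul_mem (E.mul_mem hg hk) (E.inv_mem hg)) (E.inv_mem hk),
      hγM.map_mul (E.mul_mem hg hk) (E.inv_mem hg), hγM.map_mul hg hk, hγM.map_inv hg,
      hγM.map_inv hk]
    exact hcomm _ (hγM.mem hg) _ (hγM.mem hk)
  -- the centralizer of `ℓ = γ(z₁)` lies in `E`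
  obtain ⟨ℓ, hℓ⟩ : ∃ ℓ : Ω, ℓ = autFun E γ z₁ := ⟨_, rfl⟩
  have hℓE : ℓ ∈ E := by rw [hℓ]; exact autFun_mem γ hz₁E
  have hℓS : ℓ ∈ S := hES hℓE
  have hcent : ∀ s ∈ S, s * ℓ = ℓ * s → s ∈ E := by
    intro s hs hsℓ
    refine tl_c hS hF hE hγ hsep (hN s hs) ?_ ?_
    · intro s' hs' y hy
      obtain ⟨j, hj⟩ := hNgen _ hz₁N hz₁1 _ (hcomm s' (mem_normalizerIn_iff.1 hs').1 y (hES hy))
      rw [hj, mor_map_zpow hγM hz₁E, ← hℓ]
      have h1 : Commute s ℓ := hsℓ
      exact (h1.zpow_right j).eq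
    · intro y hy
      have h1 : y⁻¹ * s * y * s⁻¹ ∈ N := by
        have := hcomm y⁻¹ (S.inv_mem (hES hy)) s hs
        rwa [inv_inv] at this
      exact hNc _ h1 s hs
  -- the index of `E` is `p`
  have hc : commutator ↥S ≤ Subgroup.center ↥S := by
    rw [commutator_def, Subgroup.commutator_le]
    intro g _ k _
    rw [center_eq_subgroupOf, Subgroup.mem_subgroupOf]
    exact hNZ (hcomm g g.2 k k.2)
  have hcN : commutator ↥S ≤ N.subgroupOf S := by
    rw [commutator_def, Subgroup.commutator_le]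
    intro g _ k _
    rw [Subgroup.mem_subgroupOf]
    exact hcomm g g.2 k k.2
  have hNScard : Nat.card ↥(N.subgroupOf S) = p := by
    rw [← hNcard]
    exact Nat.card_congr (Subgroup.subgroupOfEquivOfLe hNS).toEquiv
  have hcardc : Nat.card ↥(commutator ↥S) ≤ p := by
    rw [← hNScard]
    exact Subgroup.card_le_of_le hcN
  have hker : (commHom hc ⟨ℓ, hℓS⟩).ker ≤ E.subgroupOf S := by
    intro g hg
    rw [MonoidHom.mem_ker, commHom_eq_one_iff] at hg
    rw [Subgroup.mem_subgroupOf]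
    exact hcent g g.2 (congrArg Subtype.val hg)
  have hkidx : (commHom hc ⟨ℓ, hℓS⟩).ker.index ≤ p := by
    rw [Subgroup.index_ker]
    exact (Subgroup.card_le_card_group _).trans hcardc
  have hEidx_le : (E.subgroupOf S).index ≤ p :=
    (Nat.le_of_dvd (Nat.pos_of_ne_zero Subgroup.index_ne_zero_of_finite)
      (Subgroup.index_dvd_of_le hker)).trans hkidx
  have hEidx : (E.subgroupOf S).index = p := by
    obtain ⟨a, ha'⟩ := hS.index (E.subgroupOf S)
    have ha0 : a ≠ 0 := by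
      rintro rfl
      rw [pow_zero, Subgroup.index_eq_one, Subgroup.subgroupOf_eq_top] at ha'
      exact hbE (ha' hbS)
    rw [ha'] at hEidx_le ⊢
    have h1 : a ≤ 1 := by
      by_contra h2
      push Not at h2
      have h3 : p ^ 2 ≤ p ^ a := Nat.pow_le_pow_right hp.out.pos h2
      have h4 : p * p ≤ p := by
        rw [← pow_two]
        exact h3.trans hEidx_le
      have h5 := hp.out.one_lt
      nlinarith
    have h2 : a = 1 := by omega
    rw [h2, pow_one]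
  have hAE : AbIdx p S E := AbIdx.of_index hS
    ⟨hES, isMulCommutative_iff.2 (fun a b => Subtype.ext (hab a a.2 b b.2)), hEidx⟩
  -- the index of the centre in `E` is at most `p`
  have hZidx : (S ⊓ Subgroup.centralizer (S : Set Ω)).relIndex E ≤ p := by
    have h1 : (S ⊓ Subgroup.centralizer (S : Set Ω)).relIndex E = (hAE.psi hbS).ker.index := by
      rw [hAE.psi_ker hbS hbE]
      rfl
    rw [h1, Subgroup.index_ker, hAE.psi_range hbS hbE]
    have h2 : (⁅S, S⁆ : Subgroup Ω).subgroupOf E ≤ N.subgroupOf E := by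
      intro x hx
      rw [Subgroup.mem_subgroupOf] at hx ⊢
      have h3 : (⁅S, S⁆ : Subgroup Ω) ≤ N := by
        rw [Subgroup.commutator_le]
        intro g hg k hk
        rw [commutatorElement_def]
        exact hcomm g hg k hk
      exact h3 hx
    have h3 : Nat.card ↥(N.subgroupOf E) = p := by
      rw [← hNcard]
      exact Nat.card_congr (Subgroup.subgroupOfEquivOfLe hNE).toEquiv
    rw [← h3]
    exact Subgroup.card_le_of_le h2
  have h1 := Subgroup.relIndex_mul_relIndex _ _ _ hZE hES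
  have h2 : E.relIndex S = p := hEidx
  rw [center_eq_subgroupOf]
  show (S ⊓ Subgroup.centralizer (S : Set Ω)).relIndex S ≤ p ^ 2
  rw [← h1, h2, pow_two]
  exact Nat.mul_le_mul_right p hZidx

/-- A `p`-group `S` (`p` odd) with an extraspecial subgroup `Q` of index `p` and a core-free
saturated fusion system: `Z(S) = Z(Q)`. -/
theorem extra_index_center [Finite S] {p : ℕ} [hp : Fact p.Prime] (hp2 : p ≠ 2)
    (hS : IsPGroup p S) {Q : Subgroup Ω} (hQS : Q ≤ S) (hQ : Cfsg.IsExtraspecial p ↥Q)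
    (hQi : (Q.subgroupOf S).index = p) {F : FusionSystem S} (hF : F.IsSaturated p)
    (hO : F.core = ⊥) :
    S ⊓ Subgroup.centralizer (S : Set Ω) = Q ⊓ Subgroup.centralizer (Q : Set Ω) := by
  have : Finite Q := finite_of_le hQS
  have hZQQ : Q ⊓ Subgroup.centralizer (Q : Set Ω) ≤ Q := inf_le_left
  have hZQS : Q ⊓ Subgroup.centralizer (Q : Set Ω) ≤ S := hZQQ.trans hQS
  have hZQcard : Nat.card ↥(Q ⊓ Subgroup.centralizer (Q : Set Ω)) = p := by
    have h1 := hQ.2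
    rw [center_eq_subgroupOf] at h1
    rw [← h1]
    exact (Nat.card_congr (Subgroup.subgroupOfEquivOfLe hZQQ).toEquiv).symm
  have hQcomm : ∀ a ∈ Q, ∀ b ∈ Q, a * b * a⁻¹ * b⁻¹ ∈ Q ⊓ Subgroup.centralizer (Q : Set Ω) := by
    intro a ha b hb
    have h1 : ⁅(⟨a, ha⟩ : ↥Q), ⟨b, hb⟩⁆ ∈ commutator ↥Q := by
      rw [commutator_def]
      exact Subgroup.commutator_mem_commutator (Subgroup.mem_top _) (Subgroup.mem_top _)
    rw [hQ.1.2.2, center_eq_subgroupOf, Subgroup.mem_subgroupOf] at h1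
    exact h1
  have hQna : ∃ a ∈ Q, ∃ b ∈ Q, a * b ≠ b * a := by
    by_contra hcon
    push Not at hcon
    have h1 : Subgroup.center ↥Q = ⊤ := by
      rw [eq_top_iff]
      intro x _
      rw [Subgroup.mem_center_iff]
      intro g
      exact Subtype.ext (hcon g g.2 x x.2)
    have h2 : commutator ↥Q = ⊥ := (commutator_eq_bot_iff_center_eq_top ↥Q).2 h1
    have h3 := hQ.2
    rw [← hQ.1.2.2, h2, Subgroup.card_bot] at h3
    exact hp.out.one_lt.ne h3
  -- `Q` is normal in `S`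
  have hQN : (Q.subgroupOf S).Normal := by
    apply Subgroup.normal_of_index_eq_minFac_card
    obtain ⟨n, hn⟩ := (IsPGroup.iff_card).1 hS
    have hn0 : n ≠ 0 := by
      rintro rfl
      rw [pow_zero] at hn
      have h1 : (Q.subgroupOf S).index ∣ Nat.card S := Subgroup.index_dvd_card _
      rw [hQi, hn] at h1
      exact hp.out.one_lt.ne' (Nat.dvd_one.1 h1)
    rw [hQi, hn, hp.out.pow_minFac hn0]
  have hQn : ∀ s ∈ S, ∀ q ∈ Q, s * q * s⁻¹ ∈ Q := by
    intro s hs q hq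
    have := hQN.conj_mem ⟨q, hQS hq⟩ (Subgroup.mem_subgroupOf.2 hq) ⟨s, hs⟩
    rw [Subgroup.mem_subgroupOf] at this
    exact this
  -- `Z(Q) ≤ Z(S)`
  have hZQn : ((Q ⊓ Subgroup.centralizer (Q : Set Ω)).subgroupOf S).Normal := by
    constructor
    intro n hn g
    rw [Subgroup.mem_subgroupOf] at hn ⊢
    obtain ⟨hnQ, hnc⟩ := mem_center_inf_iff.1 hn
    rw [mem_center_inf_iff]
    refine ⟨hQn g g.2 n hnQ, fun q hq => ?_⟩
    have hq' : (g : Ω)⁻¹ * q * (g : Ω) ∈ Q := by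
      have := hQn (g : Ω)⁻¹ (S.inv_mem g.2) q hq
      rwa [inv_inv] at this
    have h1 := hnc _ hq'
    show q * ((g : Ω) * (n : Ω) * (g : Ω)⁻¹) = (g : Ω) * (n : Ω) * (g : Ω)⁻¹ * q
    calc q * ((g : Ω) * (n : Ω) * (g : Ω)⁻¹)
        = (g : Ω) * ((g : Ω)⁻¹ * q * (g : Ω) * (n : Ω)) * (g : Ω)⁻¹ := by group
      _ = (g : Ω) * ((n : Ω) * ((g : Ω)⁻¹ * q * (g : Ω))) * (g : Ω)⁻¹ := by rw [h1]
      _ = _ := by group
  have hZQle : Q ⊓ Subgroup.centralizer (Q : Set Ω) ≤ S ⊓ Subgroup.centralizer (S : Set Ω) := by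
    have h1 : Nat.card ↥((Q ⊓ Subgroup.centralizer (Q : Set Ω)).subgroupOf S) = p := by
      rw [← hZQcard]
      exact Nat.card_congr (Subgroup.subgroupOfEquivOfLe hZQS).toEquiv
    have h2 := Cfsg.Agent.H67.le_center_of_normal_of_card_eq_prime hS _ h1
    intro z hz
    have h3 : (⟨z, hZQS hz⟩ : ↥S) ∈ Subgroup.center ↥S := h2 (Subgroup.mem_subgroupOf.2 hz)
    rw [center_eq_subgroupOf, Subgroup.mem_subgroupOf] at h3
    exact h3
  by_contra hne
  -- a central element outside `Q`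
  obtain ⟨c, hcZ, hcQ⟩ : ∃ c ∈ S ⊓ Subgroup.centralizer (S : Set Ω), c ∉ Q := by
    by_contra hcon
    push Not at hcon
    apply hne
    apply le_antisymm _ hZQle
    intro z hz
    rw [mem_center_inf_iff]
    exact ⟨hcon z hz, fun q hq => (mem_center_inf_iff.1 hz).2 q (hQS hq)⟩
  obtain ⟨hcS, hcc⟩ := mem_center_inf_iff.1 hcZ
  have hgen := (exists_mul_pow_of_index_prime hQn hQi hcS hcQ).2
  have hckc : ∀ k : ℕ, ∀ s ∈ S, s * c ^ k = c ^ k * s := by
    intro k s hs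
    have h1 : Commute s c := hcc s hs
    exact (h1.pow_right k).eq
  have hcomm : ∀ g ∈ S, ∀ k ∈ S, g * k * g⁻¹ * k⁻¹ ∈ Q ⊓ Subgroup.centralizer (Q : Set Ω) := by
    intro g hg k hk
    obtain ⟨i, a, ha, rfl⟩ := hgen g hg
    obtain ⟨j, a', ha', rfl⟩ := hgen k hk
    have e : a * c ^ i * (a' * c ^ j) * (a * c ^ i)⁻¹ * (a' * c ^ j)⁻¹ = a * a' * a⁻¹ * a'⁻¹ := by
      have h1 := hckc i (a' * c ^ j) hk
      have h2 := hckc j a⁻¹ (S.inv_mem (hQS ha))
      calc a * c ^ i * (a' * c ^ j) * (a * c ^ i)⁻¹ * (a' * c ^ j)⁻¹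
          = a * (c ^ i * (a' * c ^ j)) * (c ^ i)⁻¹ * a⁻¹ * (a' * c ^ j)⁻¹ := by group
        _ = a * ((a' * c ^ j) * c ^ i) * (c ^ i)⁻¹ * a⁻¹ * (a' * c ^ j)⁻¹ := by rw [h1]
        _ = a * a' * (c ^ j * a⁻¹) * (c ^ j)⁻¹ * a'⁻¹ := by group
        _ = a * a' * (a⁻¹ * c ^ j) * (c ^ j)⁻¹ * a'⁻¹ := by rw [h2]
        _ = _ := by group
    rw [e]
    exact hQcomm a ha a' ha'
  have hna : ∃ g ∈ S, ∃ k ∈ S, g * k ≠ k * g := by
    obtain ⟨a, ha, b, hb, hab⟩ := hQna
    exact ⟨a, hQS ha, b, hQS hb, hab⟩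
  have hidx := center_index_of_comm_prime hS hF hO hna hZQle hZQcard hcomm
  have hci := CIdx.of_index hS hna hidx
  obtain ⟨hZle, -⟩ := ci_odd_core hp2 hS hF hci hO
  apply hcQ
  have h3 : (⁅S, S⁆ : Subgroup Ω) ≤ Q ⊓ Subgroup.centralizer (Q : Set Ω) := by
    rw [Subgroup.commutator_le]
    intro g hg k hk
    rw [commutatorElement_def]
    exact hcomm g hg k hk
  exact hZQQ (h3 (hZle hcZ))

end extraidx

end Cfsg.Agent.H89
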