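import Mathlib
import Cfsg.Prelude.Def_Transfer
import Cfsg.Agent.H3.PGroup
import Cfsg.Agent.H3.Class2
import Cfsg.Agent.H3.Dihedral
import Cfsg.Agent.H52.Frattini
import Cfsg.Agent.H67.PGroup
import Cfsg.Agent.H89.Extra3

set_option autoImplicit false

namespace Cfsg.Agent.H89

open scoped commutatorElement

section CommHom

variable {G : Type*} [Group G]

/-- In a group whose commutator subgroup is central, `g ↦ ⁅g, u⁆` is a homomorphism into the
commutator subgroup. -/
def commHom (hc : commutator G ≤ Subgroup.center G) (u : G) : G →* commutator G where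
  toFun g := ⟨g * u * g⁻¹ * u⁻¹, by
    have : g * u * g⁻¹ * u⁻¹ = ⁅g, u⁆ := rfl
    rw [this, commutator_def]
    exact Subgroup.commutator_mem_commutator (Subgroup.mem_top g) (Subgroup.mem_top u)⟩
  map_one' := by
    apply Subtype.ext
    simp
  map_mul' g h := by
    apply Subtype.ext
    have hh : h * u * h⁻¹ * u⁻¹ ∈ Subgroup.center G := by
      apply hc
      have : h * u * h⁻¹ * u⁻¹ = ⁅h, u⁆ := rfl
      rw [this, commutator_def]
      exact Subgroup.commutator_mem_commutator (Subgroup.mem_top h) (Subgroup.mem_top u)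
    have hd : ∀ x, x * (h * u * h⁻¹ * u⁻¹) = (h * u * h⁻¹ * u⁻¹) * x :=
      fun x => Subgroup.mem_center_iff.1 hh x
    show g * h * u * (g * h)⁻¹ * u⁻¹ = (g * u * g⁻¹ * u⁻¹) * (h * u * h⁻¹ * u⁻¹)
    calc g * h * u * (g * h)⁻¹ * u⁻¹ = g * (h * u * h⁻¹ * u⁻¹) * (u * g⁻¹ * u⁻¹) := by group
      _ = (h * u * h⁻¹ * u⁻¹) * g * (u * g⁻¹ * u⁻¹) := by rw [hd g]
      _ = (h * u * h⁻¹ * u⁻¹) * (g * u * g⁻¹ * u⁻¹) := by group
      _ = (g * u * g⁻¹ * u⁻¹) * (h * u * h⁻¹ * u⁻¹) := (hd _).symm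

lemma commHom_apply (hc : commutator G ≤ Subgroup.center G) (u g : G) :
    ((commHom hc u g : commutator G) : G) = g * u * g⁻¹ * u⁻¹ := rfl

lemma commHom_eq_one_iff (hc : commutator G ≤ Subgroup.center G) (u g : G) :
    commHom hc u g = 1 ↔ g * u = u * g := by
  rw [Subtype.ext_iff, commHom_apply]
  constructor
  · intro h
    have h1 : g * u * g⁻¹ = u := by
      have := congrArg (· * u) h
      simpa using this
    calc g * u = g * u * g⁻¹ * g := by group
      _ = u * g := by rw [h1]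
  · intro h
    rw [h]
    simp

/-- Conjugation in terms of `commHom`. -/
lemma conj_eq_commHom_mul (hc : commutator G ≤ Subgroup.center G) (u g : G) :
    g * u * g⁻¹ = (commHom hc u g : G) * u := by
  rw [commHom_apply]; group

end CommHom

/-- The hypotheses force `G` to be a `p`-group. -/
theorem genExtra_isPGroup {G : Type*} [Group G] [Finite G] {p : ℕ} [Fact p.Prime]
    (hcard : Nat.card (commutator G) = p) (hpow : ∀ g : G, g ^ p ∈ commutator G) : IsPGroup p G := by
  intro g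
  refine ⟨2, ?_⟩
  have h2 : (⟨g ^ p, hpow g⟩ : commutator G) ^ Nat.card (commutator G) = 1 := pow_card_eq_one'
  rw [hcard] at h2
  have h3 := congrArg Subtype.val h2
  simpa [pow_two, pow_mul] using h3

theorem genExtra_le_center {G : Type*} [Group G] [Finite G] {p : ℕ} [hp : Fact p.Prime]
    (hcard : Nat.card (commutator G) = p) (hpow : ∀ g : G, g ^ p ∈ commutator G) :
    commutator G ≤ Subgroup.center G :=
  Cfsg.Agent.H67.le_center_of_normal_of_card_eq_prime (genExtra_isPGroup hcard hpow) (commutator G) hcard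

lemma heis_mul_aux {G : Type*} [Group G] (A u v B c c' d : G) (hc : ∀ g, g * c = c * g)
    (hd : ∀ g, g * d = d * g) (huv : u * v = v * u * d) :
    A * u * c * (v * B * c') = A * v * (u * B) * (d * c * c') := by
  calc A * u * c * (v * B * c') = A * u * (c * (v * B * c')) := by group
    _ = A * u * ((v * B * c') * c) := by rw [← hc]
    _ = A * (u * v) * B * (c' * c) := by group
    _ = A * (v * u * d) * B * (c' * c) := by rw [huv]
    _ = A * v * u * (d * B) * (c' * c) := by group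
    _ = A * v * u * (B * d) * (c' * c) := by rw [← hd B]
    _ = A * v * (u * B) * (d * (c' * c)) := by group
    _ = A * v * (u * B) * (d * c * c') := by rw [hc c']; simp only [mul_assoc]

/-- The subgroup `{y ^ j * b ^ k * c}` (with `c` a commutator) of a group with central commutator
subgroup. -/
def heis {G : Type*} [Group G] (hcen : commutator G ≤ Subgroup.center G) (y b : G) : Subgroup G where
  carrier := {g | ∃ (j k : ℤ) (c : G), c ∈ commutator G ∧ g = y ^ j * b ^ k * c}
  one_mem' := ⟨0, 0, 1, one_mem _, by simp⟩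
  mul_mem' := by
    rintro _ _ ⟨j, k, c, hc, rfl⟩ ⟨j', k', c', hc', rfl⟩
    have hd : (b ^ k)⁻¹ * (y ^ j')⁻¹ * b ^ k * y ^ j' ∈ commutator G :=
      Cfsg.Agent.H3.basic_rel_mem_commutator (y ^ j') (b ^ k)
    refine ⟨j + j', k + k', (b ^ k)⁻¹ * (y ^ j')⁻¹ * b ^ k * y ^ j' * c * c',
      mul_mem (mul_mem hd hc) hc', ?_⟩
    rw [zpow_add, zpow_add]
    exact heis_mul_aux (y ^ j) (b ^ k) (y ^ j') (b ^ k') c c' _
      (fun g => Subgroup.mem_center_iff.1 (hcen hc) g) (fun g => Subgroup.mem_center_iff.1 (hcen hd) g)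
      (Cfsg.Agent.H3.basic_rel (y ^ j') (b ^ k))
  inv_mem' := by
    rintro _ ⟨j, k, c, hc, rfl⟩
    have hd : (b ^ (-k))⁻¹ * (y ^ (-j))⁻¹ * b ^ (-k) * y ^ (-j) ∈ commutator G :=
      Cfsg.Agent.H3.basic_rel_mem_commutator (y ^ (-j)) (b ^ (-k))
    refine ⟨-j, -k, (b ^ (-k))⁻¹ * (y ^ (-j))⁻¹ * b ^ (-k) * y ^ (-j) * c⁻¹,
      mul_mem hd (inv_mem hc), ?_⟩
    have hci : ∀ g, g * c⁻¹ = c⁻¹ * g := fun g => Subgroup.mem_center_iff.1 (hcen (inv_mem hc)) g
    have hrel := Cfsg.Agent.H3.basic_rel (y ^ (-j)) (b ^ (-k))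
    calc (y ^ j * b ^ k * c)⁻¹ = c⁻¹ * (b ^ (-k) * y ^ (-j)) := by
          rw [mul_inv_rev, mul_inv_rev, zpow_neg, zpow_neg]
      _ = c⁻¹ * (y ^ (-j) * b ^ (-k) * ((b ^ (-k))⁻¹ * (y ^ (-j))⁻¹ * b ^ (-k) * y ^ (-j))) := by
          rw [hrel]
      _ = y ^ (-j) * b ^ (-k) * ((b ^ (-k))⁻¹ * (y ^ (-j))⁻¹ * b ^ (-k) * y ^ (-j)) * c⁻¹ := by
          rw [← hci]
      _ = y ^ (-j) * b ^ (-k) * ((b ^ (-k))⁻¹ * (y ^ (-j))⁻¹ * b ^ (-k) * y ^ (-j) * c⁻¹) := by
          rw [mul_assoc]

lemma mem_heis {G : Type*} [Group G] (hcen : commutator G ≤ Subgroup.center G) (y b g : G) :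
    g ∈ heis hcen y b ↔ ∃ (j k : ℤ) (c : G), c ∈ commutator G ∧ g = y ^ j * b ^ k * c := Iff.rfl

open scoped IsMulCommutative in
/-- Structure of a generalized extraspecial group with an element `y` whose centralizer is
elementary abelian and an element `b` of order `p` outside this centralizer: an internal direct
decomposition `E × A` with `E` of order `p ^ 3` containing `y` and `b` and `A` central elementary
abelian. -/
theorem genExtra_decomp {G : Type*} [Group G] [Finite G] {p : ℕ} [hp : Fact p.Prime]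
    (hcard : Nat.card (commutator G) = p) (hpow : ∀ g : G, g ^ p ∈ commutator G)
    (y b : G) (hab : ∀ a c : G, a * y = y * a → c * y = y * c → a * c = c * a)
    (hexp : ∀ a : G, a * y = y * a → a ^ p = 1) (hb : b * y ≠ y * b) (hbp : b ^ p = 1) :
    ∃ E A : Subgroup G, Nat.card E = p ^ 3 ∧ y ∈ E ∧ b ∈ E ∧ (∀ a ∈ A, ∀ g : G, g * a = a * g) ∧
      (∀ a ∈ A, a ^ p = 1) ∧ E ⊓ A = ⊥ ∧ E ⊔ A = ⊤ ∧ (p ≠ 2 → ∀ x ∈ E, x ^ p = 1) := by
  have hpp : p.Prime := hp.out
  have hcen : commutator G ≤ Subgroup.center G := genExtra_le_center hcard hpow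
  have hz : commHom hcen y b ≠ 1 := by rw [Ne, commHom_eq_one_iff]; exact hb
  have hw : commHom hcen b y ≠ 1 := by rw [Ne, commHom_eq_one_iff]; exact fun h => hb h.symm
  have hyy : commHom hcen y y = 1 := (commHom_eq_one_iff hcen y y).2 rfl
  have hbb : commHom hcen b b = 1 := (commHom_eq_one_iff hcen b b).2 rfl
  have hgen : ∀ c : commutator G, c ≠ 1 → ∀ d : commutator G, ∃ k : ℤ, d = c ^ k := by
    intro c hc d
    have h1 := zpowers_eq_top_of_prime_card hcard hc
    have hd : d ∈ Subgroup.zpowers c := by rw [h1]; trivial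
    obtain ⟨k, hk⟩ := Subgroup.mem_zpowers_iff.1 hd
    exact ⟨k, hk.symm⟩
  have hord : ∀ c : commutator G, c ≠ 1 → ∀ k : ℤ, c ^ k = 1 → (p : ℤ) ∣ k := by
    intro c hc k hk
    have ho : orderOf c = p := by
      have h1 : orderOf c ∣ p := by rw [← hcard]; exact orderOf_dvd_natCard c
      rcases (Nat.dvd_prime hpp).1 h1 with h | h
      · exact absurd (orderOf_eq_one_iff.1 h) hc
      · exact h
    rw [← ho]; exact orderOf_dvd_iff_zpow_eq_one.2 hk
  have hpz : ∀ x : G, x ^ p = 1 → ∀ k : ℤ, (p : ℤ) ∣ k → x ^ k = 1 := by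
    rintro x hx k ⟨m, rfl⟩
    rw [zpow_mul, zpow_natCast, hx, one_zpow]
  have hyp : y ^ p = 1 := hexp y rfl
  have hcp : ∀ c ∈ commutator G, c ^ p = 1 := by
    intro c hc
    have h2 : (⟨c, hc⟩ : commutator G) ^ Nat.card (commutator G) = 1 := pow_card_eq_one'
    rw [hcard] at h2
    exact congrArg Subtype.val h2
  have hkc : ∀ (u : G) (c : G), c ∈ Subgroup.center G → commHom hcen u c = 1 := by
    intro u c hc
    rw [commHom_eq_one_iff]
    exact (Subgroup.mem_center_iff.1 hc u).symm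
  -- central criterion
  have hcentral : ∀ x : G, x * y = y * x → x * b = b * x → x ∈ Subgroup.center G := by
    intro x hxy hxb
    rw [Subgroup.mem_center_iff]
    intro g
    obtain ⟨k, hk⟩ := hgen _ hz (commHom hcen y g)
    have h1 : commHom hcen y (g * b ^ (-k)) = 1 := by
      rw [map_mul, map_zpow, hk, ← zpow_add]; simp
    rw [commHom_eq_one_iff] at h1
    have h2 : (g * b ^ (-k)) * x = x * (g * b ^ (-k)) := hab _ _ h1 hxy
    have h3 : Commute x (b ^ k) := (show Commute x b from hxb).zpow_right k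
    calc g * x = (g * b ^ (-k)) * (b ^ k * x) := by group
      _ = (g * b ^ (-k)) * (x * b ^ k) := by rw [h3.eq]
      _ = (g * b ^ (-k)) * x * b ^ k := by simp only [mul_assoc]
      _ = x * (g * b ^ (-k)) * b ^ k := by rw [h2]
      _ = x * g := by group
  -- decomposition of arbitrary elements
  have hdec : ∀ g : G, ∃ (j k : ℤ) (c : G), c ∈ Subgroup.center G ∧ g = c * y ^ j * b ^ k := by
    intro g
    obtain ⟨k, hk⟩ := hgen _ hz (commHom hcen y g)
    have h1 : commHom hcen y (g * b ^ (-k)) = 1 := by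
      rw [map_mul, map_zpow, hk, ← zpow_add]; simp
    obtain ⟨j, hj⟩ := hgen _ hw (commHom hcen b (g * b ^ (-k)))
    have h2 : commHom hcen b (g * b ^ (-k) * y ^ (-j)) = 1 := by
      rw [map_mul, map_zpow, hj, ← zpow_add]; simp
    have h3 : commHom hcen y (g * b ^ (-k) * y ^ (-j)) = 1 := by
      rw [map_mul, map_zpow, h1, hyy]; simp
    rw [commHom_eq_one_iff] at h2 h3
    exact ⟨j, k, g * b ^ (-k) * y ^ (-j), hcentral _ h3 h2, by group⟩
  -- a complement of the commutator subgroup in the centre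
  have hZexp : ∀ a : Subgroup.center G, a ^ p = 1 := by
    intro a
    apply Subtype.ext
    rw [Subgroup.coe_pow, Subgroup.coe_one]
    exact hexp a (Subgroup.mem_center_iff.1 a.2 y).symm
  have hfr : frattini (Subgroup.center G) = ⊥ := Cfsg.Agent.H52.frattini_eq_bot_of_elementary (E := Subgroup.center G) hZexp
  obtain ⟨z', hz'⟩ : ∃ z' : Subgroup.center G, (z' : G) = (commHom hcen y b : G) :=
    ⟨⟨(commHom hcen y b : G), hcen (commHom hcen y b).2⟩, rfl⟩
  have hz'ne : z' ≠ 1 := by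
    intro h
    apply hz
    apply Subtype.ext
    rw [← hz', h]; rfl
  obtain ⟨H, hH, hzH⟩ : ∃ H : Subgroup (Subgroup.center G), IsCoatom H ∧ z' ∉ H := by
    by_contra hcon
    push Not at hcon
    apply hz'ne
    rw [← Subgroup.mem_bot, ← hfr]
    show z' ∈ ⨅ a ∈ {H : Subgroup (Subgroup.center G) | IsCoatom H}, a
    simp only [Subgroup.mem_iInf]
    intro M hM
    exact hcon M hM
  let A : Subgroup G := H.map (Subgroup.center G).subtype
  have hAcen : ∀ a ∈ A, a ∈ Subgroup.center G := by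
    rintro _ ⟨h, -, rfl⟩; exact h.2
  have hAC : ∀ x ∈ A, x ∈ commutator G → x = 1 := by
    rintro _ ⟨h, hh, rfl⟩ hxc
    by_contra hne
    have hne' : (⟨(h : G), hxc⟩ : commutator G) ≠ 1 := fun e => hne (congrArg Subtype.val e)
    obtain ⟨k, hk⟩ := hgen _ hne' (commHom hcen y b)
    apply hzH
    have : z' = h ^ k := by
      apply Subtype.ext
      have := congrArg Subtype.val hk
      rw [hz', this]
      simp
    rw [this]; exact H.zpow_mem hh k
  have hZdec : ∀ c ∈ Subgroup.center G, ∃ a ∈ A, ∃ i : ℤ, c = a * (commHom hcen y b : G) ^ i := by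
    intro c hc
    have htop : H ⊔ Subgroup.zpowers z' = ⊤ := by
      apply hH.2
      refine lt_of_le_of_ne le_sup_left ?_
      intro h
      apply hzH
      rw [h]
      exact Subgroup.mem_sup_right (Subgroup.mem_zpowers z')
    have hmem : (⟨c, hc⟩ : Subgroup.center G) ∈ H ⊔ Subgroup.zpowers z' := by rw [htop]; trivial
    obtain ⟨h, hh, t, ht, hht⟩ := Subgroup.mem_sup.1 hmem
    obtain ⟨i, rfl⟩ := Subgroup.mem_zpowers_iff.1 ht
    refine ⟨h, ⟨h, hh, rfl⟩, i, ?_⟩
    have := congrArg Subtype.val hht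
    rw [← hz']
    simpa using this.symm
  -- the factor `E`
  let E : Subgroup G := heis hcen y b
  have hyE : y ∈ E := ⟨1, 0, 1, one_mem _, by simp⟩
  have hbE : b ∈ E := ⟨0, 1, 1, one_mem _, by simp⟩
  have hCE : ∀ c ∈ commutator G, c ∈ E := fun c hc => ⟨0, 0, c, hc, by simp⟩
  have hEcen : ∀ x ∈ E, x ∈ Subgroup.center G → x ∈ commutator G := by
    rintro _ ⟨j, k, c, hc, rfl⟩ hx
    have h1 : commHom hcen y (y ^ j * b ^ k * c) = 1 := hkc _ _ hx
    have h2 : commHom hcen b (y ^ j * b ^ k * c) = 1 := hkc _ _ hx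
    rw [map_mul, map_mul, map_zpow, map_zpow, hyy, hkc _ _ (hcen hc)] at h1
    rw [map_mul, map_mul, map_zpow, map_zpow, hbb, hkc _ _ (hcen hc)] at h2
    simp only [one_zpow, one_mul, mul_one] at h1 h2
    have hk0 : b ^ k = 1 := hpz b hbp k (hord _ hz k h1)
    have hj0 : y ^ j = 1 := hpz y hyp j (hord _ hw j h2)
    rw [hk0, hj0]; simpa using hc
  have hinf : E ⊓ A = ⊥ := by
    rw [eq_bot_iff]
    rintro x ⟨hxE, hxA⟩
    rw [Subgroup.mem_bot]
    exact hAC x hxA (hEcen x hxE (hAcen x hxA))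
  have hsup : E ⊔ A = ⊤ := by
    rw [eq_top_iff]
    intro g _
    obtain ⟨j, k, c, hc, rfl⟩ := hdec g
    obtain ⟨a, ha, i, rfl⟩ := hZdec c hc
    have h1 : (commHom hcen y b : G) ^ i * y ^ j * b ^ k ∈ E :=
      E.mul_mem (E.mul_mem (E.zpow_mem (hCE _ (commHom hcen y b).2) i) (E.zpow_mem hyE j))
        (E.zpow_mem hbE k)
    have h2 : a * (commHom hcen y b : G) ^ i * y ^ j * b ^ k =
        a * ((commHom hcen y b : G) ^ i * y ^ j * b ^ k) := by group
    rw [h2, sup_comm]
    exact Subgroup.mul_mem_sup ha h1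
  have hcardE : Nat.card E = p ^ 3 := by
    let θ : G →* commutator G × commutator G := (commHom hcen y).prod (commHom hcen b)
    have hmap : E.map θ = ⊤ := by
      rw [eq_top_iff]
      rintro ⟨c₁, c₂⟩ _
      obtain ⟨k, hk⟩ := hgen _ hz c₁
      obtain ⟨j, hj⟩ := hgen _ hw c₂
      refine ⟨y ^ j * b ^ k, E.mul_mem (E.zpow_mem hyE j) (E.zpow_mem hbE k), ?_⟩
      show ((commHom hcen y) (y ^ j * b ^ k), (commHom hcen b) (y ^ j * b ^ k)) = (c₁, c₂)
      rw [map_mul, map_mul, map_zpow, map_zpow, map_zpow, map_zpow, hyy, hbb, hk, hj]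
      simp
    have hker : θ.ker ⊓ E = commutator G := by
      ext x
      constructor
      · rintro ⟨hx1, hx2⟩
        have hx1' : θ x = 1 := hx1
        have ha : commHom hcen y x = 1 := congrArg Prod.fst hx1'
        have hb' : commHom hcen b x = 1 := congrArg Prod.snd hx1'
        rw [commHom_eq_one_iff] at ha hb'
        exact hEcen x hx2 (hcentral x ha hb')
      · intro hx
        refine ⟨?_, hCE x hx⟩
        show ((commHom hcen y) x, (commHom hcen b) x) = 1
        rw [hkc _ _ (hcen hx), hkc _ _ (hcen hx)]; rfl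
    have h1 := Cfsg.Agent.H3.relIndex_mul_card_inf θ.ker E
    rw [Subgroup.relIndex_ker, hmap, hker, Subgroup.card_top, Nat.card_prod, hcard] at h1
    rw [← h1]; ring
  refine ⟨E, A, hcardE, hyE, hbE, fun a ha g => Subgroup.mem_center_iff.1 (hAcen a ha) g, ?_, hinf,
    hsup, ?_⟩
  · intro a ha
    exact hexp a (Subgroup.mem_center_iff.1 (hAcen a ha) y).symm
  · rintro hp2 _ ⟨j, k, c, hc, rfl⟩
    apply Cfsg.Agent.H3.omega_exponent_of_class_two hpp hp2 hcen
    have hy1 : y ∈ Subgroup.closure {x : G | x ^ p = 1} := Subgroup.subset_closure hyp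
    have hb1 : b ∈ Subgroup.closure {x : G | x ^ p = 1} := Subgroup.subset_closure hbp
    have hc1 : c ∈ Subgroup.closure {x : G | x ^ p = 1} := Subgroup.subset_closure (hcp c hc)
    exact mul_mem (mul_mem (zpow_mem hy1 j) (zpow_mem hb1 k)) hc1

/-- An internal direct product decomposition gives an isomorphism. -/
theorem mulEquiv_prod_of_decomp {G : Type*} [Group G] (E A : Subgroup G)
    (hA : ∀ a ∈ A, ∀ g : G, g * a = a * g) (hinf : E ⊓ A = ⊥) (hsup : E ⊔ A = ⊤) :
    Nonempty (G ≃* E × A) := by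
  have comm : ∀ (e : E) (a : A), Commute (E.subtype e) (A.subtype a) := fun e a => hA a a.2 e
  have hinj : Function.Injective (MonoidHom.noncommCoprod E.subtype A.subtype comm) := by
    rw [MonoidHom.noncommCoprod_injective]
    refine ⟨E.subtype_injective, A.subtype_injective, ?_⟩
    rw [Subgroup.range_subtype, Subgroup.range_subtype, disjoint_iff, hinf]
  have hsurj : Function.Surjective (MonoidHom.noncommCoprod E.subtype A.subtype comm) := by
    rw [← MonoidHom.range_eq_top, MonoidHom.noncommCoprod_range, Subgroup.range_subtype,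
      Subgroup.range_subtype, hsup]
  exact ⟨(MulEquiv.ofBijective (MonoidHom.noncommCoprod E.subtype A.subtype comm) ⟨hinj, hsurj⟩).symm⟩

/-- The case `p = 2`: the group is `D₈ × A` with `A` elementary abelian. -/
theorem genExtra_two {G : Type*} [Group G] [Finite G]
    (hcard : Nat.card (commutator G) = 2) (hpow : ∀ g : G, g ^ 2 ∈ commutator G)
    (y b₀ : G) (hab : ∀ a c : G, a * y = y * a → c * y = y * c → a * c = c * a)
    (hexp : ∀ a : G, a * y = y * a → a ^ 2 = 1) (hb₀ : b₀ * y ≠ y * b₀) :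
    ∃ (A : Type) (_ : CommGroup A), (∀ a : A, a ^ 2 = 1) ∧ Nonempty (G ≃* DihedralGroup 4 × A) := by
  have : Fact (Nat.Prime 2) := ⟨Nat.prime_two⟩
  have hcen := genExtra_le_center hcard hpow
  have hy2 : y ^ 2 = 1 := hexp y rfl
  have hyinv : y⁻¹ = y := inv_eq_of_mul_eq_one_left (by rw [← pow_two]; exact hy2)
  -- an involution outside the centralizer of `y`
  obtain ⟨b, hb, hb2⟩ : ∃ b : G, b * y ≠ y * b ∧ b ^ 2 = 1 := by
    by_cases h : b₀ ^ 2 = 1
    · exact ⟨b₀, hb₀, h⟩
    · refine ⟨y * b₀, ?_, ?_⟩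
      · intro h'
        apply hb₀
        have : y * (b₀ * y) = y * (y * b₀) := by rw [← mul_assoc, h']
        exact mul_left_cancel this
      · have huniq : ∀ c d : commutator G, c ≠ 1 → d ≠ 1 → c = d := by
          intro c d hc hd
          obtain ⟨x, -, hx'⟩ := (Nat.card_eq_two_iff' (1 : commutator G)).1 hcard
          rw [hx' c hc, hx' d hd]
        have h1 : (⟨b₀ ^ 2, hpow b₀⟩ : commutator G) ≠ 1 := fun e => h (congrArg Subtype.val e)
        have h2 : commHom hcen y b₀ ≠ 1 := by rw [Ne, commHom_eq_one_iff]; exact hb₀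
        have h3 : b₀ ^ 2 = b₀ * y * b₀⁻¹ * y⁻¹ := congrArg Subtype.val (huniq _ _ h1 h2)
        have h4 : b₀ = y * b₀⁻¹ * y⁻¹ := by
          have : b₀ * b₀ = b₀ * (y * b₀⁻¹ * y⁻¹) := by rw [← pow_two, h3]; group
          exact mul_left_cancel this
        have h5 : b₀ * y * b₀ = y := by
          calc b₀ * y * b₀ = (y * b₀⁻¹ * y⁻¹) * y * b₀ := by rw [← h4]
            _ = y := by group
        calc (y * b₀) ^ 2 = y * (b₀ * y * b₀) := by rw [pow_two]; group
          _ = y * y := by rw [h5]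
          _ = 1 := by rw [← pow_two, hy2]
  have hbinv : b⁻¹ = b := inv_eq_of_mul_eq_one_left (by rw [← pow_two]; exact hb2)
  obtain ⟨E, A, hcE, hyE, hbE, hAc, hAe, hinf, hsup, -⟩ :=
    genExtra_decomp hcard hpow y b hab hexp hb hb2
  obtain ⟨e⟩ := mulEquiv_prod_of_decomp E A hAc hinf hsup
  have hsq : (y * b) ^ 2 = y * b * y⁻¹ * b⁻¹ := by rw [hyinv, hbinv, pow_two]; group
  have hD : Nonempty (E ≃* DihedralGroup 4) := by
    refine Cfsg.Agent.H3.dihedral_of_gens 4 (by rw [hcE]; norm_num) ⟨y * b, E.mul_mem hyE hbE⟩ ⟨b, hbE⟩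
      ?_ ?_ ?_ ?_
    · have h1 : ¬ (⟨y * b, E.mul_mem hyE hbE⟩ : E) ^ 2 ^ 1 = 1 := by
        intro h
        have h' : (y * b) ^ 2 = 1 := by
          have := congrArg Subtype.val h
          simpa using this
        rw [hsq] at h'
        apply hb
        have h'' : commHom hcen b y = 1 := Subtype.ext h'
        rw [commHom_eq_one_iff] at h''
        exact h''.symm
      have h2 : (⟨y * b, E.mul_mem hyE hbE⟩ : E) ^ 2 ^ (1 + 1) = 1 := by
        apply Subtype.ext
        have h3 : (commHom hcen b y) ^ Nat.card (commutator G) = 1 := pow_card_eq_one'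
        rw [hcard] at h3
        have h4 := congrArg Subtype.val h3
        rw [Subgroup.coe_pow, commHom_apply, ← hsq, Subgroup.coe_one] at h4
        rw [Subgroup.coe_pow, Subgroup.coe_one]
        show (y * b) ^ 2 ^ (1 + 1) = 1
        rw [show (2 : ℕ) ^ (1 + 1) = 2 * 2 by norm_num, pow_mul]
        exact h4
      exact orderOf_eq_prime_pow h1 h2
    · intro h
      obtain ⟨k, hk⟩ := Subgroup.mem_zpowers_iff.1 h
      have hc : Commute (⟨y * b, E.mul_mem hyE hbE⟩ : E) ⟨b, hbE⟩ := by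
        rw [← hk]
        exact (Commute.refl _).zpow_right k
      have hc' : (y * b) * b = b * (y * b) := congrArg Subtype.val hc.eq
      apply hb
      have : b * y * b = y * b * b := by rw [hc', mul_assoc]
      exact mul_right_cancel this
    · apply Subtype.ext
      show b * b = 1
      rw [← pow_two, hb2]
    · apply Subtype.ext
      show b * (y * b) * b⁻¹ = (y * b)⁻¹
      calc b * (y * b) * b⁻¹ = b * y := by group
        _ = b⁻¹ * y⁻¹ := by rw [hbinv, hyinv]
        _ = (y * b)⁻¹ := by rw [mul_inv_rev]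
  obtain ⟨eD⟩ := hD
  let _ : CommGroup A :=
    { (inferInstance : Group A) with mul_comm := fun a c => Subtype.ext (hAc c c.2 a) }
  refine ⟨Shrink.{0} A, inferInstance, ?_,
    ⟨e.trans (MulEquiv.prodCongr eD (Shrink.mulEquiv.{0} (α := A)).symm)⟩⟩
  intro a
  apply (Shrink.mulEquiv.{0} (α := A)).injective
  rw [map_pow, map_one]
  exact Subtype.ext (hAe _ (Shrink.mulEquiv.{0} a).2)

/-- The case `p` odd with an element of order `p` outside the centralizer of `y`: the group is
`E × A` with `E` extraspecial of order `p ^ 3` and exponent `p` and `A` elementary abelian. -/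
theorem genExtra_odd {G : Type*} [Group G] [Finite G] {p : ℕ} [hp : Fact p.Prime] (hp2 : p ≠ 2)
    (hcard : Nat.card (commutator G) = p) (hpow : ∀ g : G, g ^ p ∈ commutator G)
    (y b : G) (hab : ∀ a c : G, a * y = y * a → c * y = y * c → a * c = c * a)
    (hexp : ∀ a : G, a * y = y * a → a ^ p = 1) (hb : b * y ≠ y * b) (hbp : b ^ p = 1) :
    ∃ (E : Type) (_ : Group E) (A : Type) (_ : CommGroup A), Cfsg.IsExtraspecial p E ∧
      Nat.card E = p ^ 3 ∧ Monoid.exponent E = p ∧ (∀ a : A, a ^ p = 1) ∧ Nonempty (G ≃* E × A) := by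
  obtain ⟨E, A, hcE, hyE, hbE, hAc, hAe, hinf, hsup, hEe⟩ :=
    genExtra_decomp hcard hpow y b hab hexp hb hbp
  obtain ⟨e⟩ := mulEquiv_prod_of_decomp E A hAc hinf hsup
  let _ : CommGroup A :=
    { (inferInstance : Group A) with mul_comm := fun a c => Subtype.ext (hAc c c.2 a) }
  have hcE' : Nat.card (Shrink.{0} E) = p ^ 3 := by
    rw [← hcE]; exact Nat.card_congr (equivShrink.{0} E).symm
  have hfin : Finite (Shrink.{0} E) := Finite.of_equiv E (equivShrink.{0} E)
  have hna : ∃ a c : Shrink.{0} E, a * c ≠ c * a := by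
    refine ⟨(Shrink.mulEquiv.{0} (α := E)).symm ⟨y, hyE⟩, (Shrink.mulEquiv.{0} (α := E)).symm ⟨b, hbE⟩, ?_⟩
    intro h
    rw [← map_mul, ← map_mul] at h
    have h' := (Shrink.mulEquiv.{0} (α := E)).symm.injective h
    exact hb (congrArg Subtype.val h').symm
  have hexpE : ∀ x : Shrink.{0} E, x ^ p = 1 := by
    intro x
    apply (Shrink.mulEquiv.{0} (α := E)).injective
    rw [map_pow, map_one]
    exact Subtype.ext (hEe hp2 _ (Shrink.mulEquiv.{0} x).2)
  refine ⟨Shrink.{0} E, inferInstance, Shrink.{0} A, inferInstance, extraspecial_of_card_cube hcE' hna,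
    hcE', ?_, ?_, ⟨e.trans (MulEquiv.prodCongr (Shrink.mulEquiv.{0} (α := E)).symm
      (Shrink.mulEquiv.{0} (α := A)).symm)⟩⟩
  · have h1 : Monoid.exponent (Shrink.{0} E) ∣ p := Monoid.exponent_dvd_of_forall_pow_eq_one hexpE
    rcases (Nat.dvd_prime hp.out).1 h1 with h | h
    · exfalso
      have hss : Subsingleton (Shrink.{0} E) := Monoid.exp_eq_one_iff.1 h
      obtain ⟨a, c, hac⟩ := hna
      exact hac (Subsingleton.elim _ _)
    · exact h
  · intro a
    apply (Shrink.mulEquiv.{0} (α := A)).injective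
    rw [map_pow, map_one]
    exact Subtype.ext (hAe _ (Shrink.mulEquiv.{0} a).2)

end Cfsg.Agent.H89
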