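import Cfsg.Agent.H89.IndexP

set_option autoImplicit false

/-!
Counting in a `p`-group with an abelian subgroup of index `p`, via the commutator map `a ↦ [a, x]`.
-/

namespace Cfsg.Agent.H89

open scoped commutatorElement

section count

variable {Ω : Type*} [Group Ω] {p : ℕ} {S A : Subgroup Ω}

/-- The commutator map `a ↦ [a, x]` on `A`. -/
noncomputable def AbIdx.psi (h : AbIdx p S A) {x : Ω} (hx : x ∈ S) : ↥A →* ↥A where
  toFun a := ⟨a * x * (a : Ω)⁻¹ * x⁻¹, h.comm_mem a.2 hx⟩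
  map_one' := Subtype.ext (by simp)
  map_mul' a b := Subtype.ext (h.comm_mul a.2 b.2 hx)

theorem AbIdx.psi_apply (h : AbIdx p S A) {x : Ω} (hx : x ∈ S) (a : ↥A) :
    ((h.psi hx a : ↥A) : Ω) = a * x * (a : Ω)⁻¹ * x⁻¹ := rfl

theorem AbIdx.psi_ker (h : AbIdx p S A) {x : Ω} (hx : x ∈ S) (hxA : x ∉ A) :
    (h.psi hx).ker = (S ⊓ Subgroup.centralizer (S : Set Ω)).subgroupOf A := by
  ext a
  rw [MonoidHom.mem_ker, Subgroup.mem_subgroupOf, mem_center_inf_iff]
  constructor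
  · intro ha
    have h1 : (a : Ω) * x * (a : Ω)⁻¹ * x⁻¹ = 1 := by
      rw [← h.psi_apply hx a, ha]; rfl
    have h2 : (a : Ω) * x = x * a := by
      have := congrArg (fun y => y * x * (a : Ω)) h1
      simpa [mul_assoc] using this
    exact ⟨h.le a.2, h.central_of_comm hx hxA a.2 h2⟩
  · rintro ⟨-, hc⟩
    apply Subtype.ext
    rw [h.psi_apply hx a, ← hc x hx]
    simp

theorem AbIdx.psi_range (h : AbIdx p S A) {x : Ω} (hx : x ∈ S) (hxA : x ∉ A) :
    (h.psi hx).range = (⁅S, S⁆ : Subgroup Ω).subgroupOf A := by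
  ext b
  rw [MonoidHom.mem_range, Subgroup.mem_subgroupOf]
  constructor
  · rintro ⟨a, rfl⟩
    rw [h.psi_apply, ← commutatorElement_def]
    exact Subgroup.commutator_mem_commutator (h.le a.2) hx
  · intro hb
    obtain ⟨a, ha, e⟩ := h.exists_of_mem_commutator hx hxA hb
    exact ⟨⟨a, ha⟩, Subtype.ext e.symm⟩

theorem AbIdx.commutator_le (h : AbIdx p S A) {x : Ω} (hx : x ∈ S) (hxA : x ∉ A) :
    (⁅S, S⁆ : Subgroup Ω) ≤ A := by
  intro g hg
  obtain ⟨a, ha, rfl⟩ := h.exists_of_mem_commutator hx hxA hg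
  exact h.comm_mem ha hx

/-- `Z(S) ∩ [S, S]` has order `p` when `Z₂(S) = Z(S)⟨w⟩ ≤ A`. -/
theorem AbIdx.card_center_inf_commutator [hp : Fact p.Prime] (h : AbIdx p S A) {x : Ω}
    (hx : x ∈ S) (hxA : x ∉ A)
    (hZ2A : (Subgroup.upperCentralSeries ↥S 2).map S.subtype ≤ A) {w : Ω}
    (hw : w ∈ (Subgroup.upperCentralSeries ↥S 2).map S.subtype)
    (hwZ : w ∉ S ⊓ Subgroup.centralizer (S : Set Ω))
    (hwp : w ^ p ∈ S ⊓ Subgroup.centralizer (S : Set Ω))
    (hgen : ∀ g ∈ (Subgroup.upperCentralSeries ↥S 2).map S.subtype,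
      ∃ k : ℕ, g * (w ^ k)⁻¹ ∈ S ⊓ Subgroup.centralizer (S : Set Ω)) :
    Nat.card ↥((S ⊓ Subgroup.centralizer (S : Set Ω)) ⊓ ⁅S, S⁆) = p := by
  have hwA := hZ2A hw
  have hz₁Z : w * x * w⁻¹ * x⁻¹ ∈ S ⊓ Subgroup.centralizer (S : Set Ω) :=
    (mem_Z2_iff.1 hw).2 x hx
  have hz₁S' : w * x * w⁻¹ * x⁻¹ ∈ ⁅S, S⁆ := by
    rw [← commutatorElement_def]
    exact Subgroup.commutator_mem_commutator (h.le hwA) hx
  have hz₁1 : w * x * w⁻¹ * x⁻¹ ≠ 1 := by
    intro h1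
    apply hwZ
    rw [mem_center_inf_iff]
    refine ⟨h.le hwA, h.central_of_comm hx hxA hwA ?_⟩
    have := congrArg (fun y => y * x * w) h1
    simpa [mul_assoc] using this
  have hz₁p : (w * x * w⁻¹ * x⁻¹) ^ p = 1 := by
    rw [← h.comm_pow hwA hx, ← (mem_center_inf_iff.1 hwp).2 x hx]
    group
  have heq : (S ⊓ Subgroup.centralizer (S : Set Ω)) ⊓ ⁅S, S⁆ =
      Subgroup.zpowers (w * x * w⁻¹ * x⁻¹) := by
    apply le_antisymm
    · rintro g ⟨hgZ, hgS'⟩
      obtain ⟨a, ha, rfl⟩ := h.exists_of_mem_commutator hx hxA hgS'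
      have haZ2 := h.mem_Z2_of_comm hx hxA ha hgZ
      obtain ⟨k, hk⟩ := hgen a haZ2
      have hcA : a * (w ^ k)⁻¹ ∈ A := A.mul_mem ha (A.inv_mem (A.pow_mem hwA k))
      have e1 : a = (a * (w ^ k)⁻¹) * w ^ k := by group
      have e2 : (a * (w ^ k)⁻¹) * x * (a * (w ^ k)⁻¹)⁻¹ * x⁻¹ = 1 := by
        rw [← (mem_center_inf_iff.1 hk).2 x hx]
        group
      have e3 : a * x * a⁻¹ * x⁻¹ = (w * x * w⁻¹ * x⁻¹) ^ k := by
        calc a * x * a⁻¹ * x⁻¹
            = ((a * (w ^ k)⁻¹) * w ^ k) * x * ((a * (w ^ k)⁻¹) * w ^ k)⁻¹ * x⁻¹ := by rw [← e1]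
          _ = _ := by rw [h.comm_mul hcA (A.pow_mem hwA k) hx, e2, one_mul, h.comm_pow hwA hx]
      rw [e3]
      exact Subgroup.pow_mem _ (Subgroup.mem_zpowers _) k
    · rw [Subgroup.zpowers_le]
      exact ⟨hz₁Z, hz₁S'⟩
  rw [heq, Nat.card_zpowers]
  exact orderOf_eq_prime hz₁p hz₁1

theorem AbIdx.card_ker_inf_range [Finite S] (h : AbIdx p S A)
    (hna : ∃ g ∈ S, ∃ k ∈ S, g * k ≠ k * g) {x : Ω} (hx : x ∈ S) (hxA : x ∉ A) :
    Nat.card ↥((h.psi hx).ker ⊓ (h.psi hx).range) =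
      Nat.card ↥((S ⊓ Subgroup.centralizer (S : Set Ω)) ⊓ ⁅S, S⁆) := by
  have hZA : S ⊓ Subgroup.centralizer (S : Set Ω) ≤ A := fun z hz =>
    h.center_le hna (mem_center_inf_iff.1 hz).1 (mem_center_inf_iff.1 hz).2
  rw [h.psi_ker hx hxA, h.psi_range hx hxA]
  have e : (S ⊓ Subgroup.centralizer (S : Set Ω)).subgroupOf A ⊓ (⁅S, S⁆ : Subgroup Ω).subgroupOf A =
      ((S ⊓ Subgroup.centralizer (S : Set Ω)) ⊓ ⁅S, S⁆).subgroupOf A := by
    ext a
    simp only [Subgroup.mem_inf, Subgroup.mem_subgroupOf]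
  rw [e]
  exact Nat.card_congr (Subgroup.subgroupOfEquivOfLe (inf_le_left.trans hZA)).toEquiv

/-- `Z(S)[S, S]` has index `p` in `A` when `Z(S) ∩ [S, S]` has order `p`. -/
theorem AbIdx.index_center_sup_commutator [hp : Fact p.Prime] [Finite S] (h : AbIdx p S A)
    (hna : ∃ g ∈ S, ∃ k ∈ S, g * k ≠ k * g) {x : Ω} (hx : x ∈ S) (hxA : x ∉ A)
    (hcard : Nat.card ↥((S ⊓ Subgroup.centralizer (S : Set Ω)) ⊓ ⁅S, S⁆) = p) :
    (((S ⊓ Subgroup.centralizer (S : Set Ω)) ⊔ ⁅S, S⁆).subgroupOf A).index = p := by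
  have hZA : S ⊓ Subgroup.centralizer (S : Set Ω) ≤ A := fun z hz =>
    h.center_le hna (mem_center_inf_iff.1 hz).1 (mem_center_inf_iff.1 hz).2
  have hS'A := h.commutator_le hx hxA
  have : Finite A := Finite.of_injective (Subgroup.inclusion h.le) (Subgroup.inclusion_injective h.le)
  rw [Subgroup.subgroupOf_sup hZA hS'A, ← h.psi_ker hx hxA, ← h.psi_range hx hxA]
  have h1 : (h.psi hx).ker.index = Nat.card (h.psi hx).range := Subgroup.index_ker _
  have h2 := Subgroup.relIndex_mul_index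
    (le_sup_left : (h.psi hx).ker ≤ (h.psi hx).ker ⊔ (h.psi hx).range)
  have h3 : (h.psi hx).ker.relIndex ((h.psi hx).ker ⊔ (h.psi hx).range) =
      (h.psi hx).ker.relIndex (h.psi hx).range := Subgroup.relIndex_sup_left _ _
  have h4 : ((h.psi hx).ker ⊓ (h.psi hx).range).relIndex (h.psi hx).range =
      (h.psi hx).ker.relIndex (h.psi hx).range := Subgroup.inf_relIndex_right _ _
  have h5 := Subgroup.relIndex_mul_relIndex _ _ _
    (bot_le : (⊥ : Subgroup ↥A) ≤ (h.psi hx).ker ⊓ (h.psi hx).range)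
    (inf_le_right : (h.psi hx).ker ⊓ (h.psi hx).range ≤ (h.psi hx).range)
  rw [Subgroup.relIndex_bot_left, Subgroup.relIndex_bot_left, h4,
    h.card_ker_inf_range hna hx hxA, hcard] at h5
  rw [h3, h1, ← h5] at h2
  have hr : (h.psi hx).ker.relIndex (h.psi hx).range ≠ 0 := by
    intro h0
    rw [h0, mul_zero] at h5
    exact (Nat.card_pos (α := ↥(h.psi hx).range)).ne h5
  exact Nat.eq_of_mul_eq_mul_left (Nat.pos_of_ne_zero hr) (by rw [h2, mul_comm])

/-- Maximal class of `S / Z(S)`. -/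
theorem AbIdx.maxclass [hp : Fact p.Prime] [Finite S] (h : AbIdx p S A)
    (hna : ∃ g ∈ S, ∃ k ∈ S, g * k ≠ k * g) (hidxA : (A.subgroupOf S).index = p) {x : Ω}
    (hx : x ∈ S) (hxA : x ∉ A)
    (hcard : Nat.card ↥((S ⊓ Subgroup.centralizer (S : Set Ω)) ⊓ ⁅S, S⁆) = p) :
    ∀ m : ℕ, ((S ⊓ Subgroup.centralizer (S : Set Ω)).subgroupOf S).index = p ^ m → 3 ≤ m →
      ¬ Subgroup.lowerCentralSeries S (m - 2) ≤ S ⊓ Subgroup.centralizer (S : Set Ω) := by
  intro m hm hm3 hle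
  have hZA : S ⊓ Subgroup.centralizer (S : Set Ω) ≤ A := fun z hz =>
    h.center_le hna (mem_center_inf_iff.1 hz).1 (mem_center_inf_iff.1 hz).2
  have : Finite A := Finite.of_injective (Subgroup.inclusion h.le) (Subgroup.inclusion_injective h.le)
  obtain ⟨ψ, hψ⟩ : ∃ ψ : ↥A →* ↥A, ψ = h.psi hx := ⟨_, rfl⟩
  have hker : ψ.ker = (S ⊓ Subgroup.centralizer (S : Set Ω)).subgroupOf A := by
    rw [hψ]; exact h.psi_ker hx hxA
  have hψa : ∀ a : ↥A, ((ψ a : ↥A) : Ω) = a * x * (a : Ω)⁻¹ * x⁻¹ := by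
    intro a; rw [hψ]; rfl
  have hcard2 : Nat.card ↥(ψ.range ⊓ ψ.ker) = p := by
    rw [inf_comm, hψ, h.card_ker_inf_range hna hx hxA, hcard]
  obtain ⟨Kc, hK0, hKs⟩ : ∃ Kc : ℕ → Subgroup ↥A,
      Kc 0 = ψ.ker ∧ ∀ i, Kc (i + 1) = (Kc i).comap ψ :=
    ⟨fun i => Nat.rec ψ.ker (fun _ K => K.comap ψ) i, rfl, fun i => rfl⟩
  have hmono : ∀ i, Kc i ≤ Kc (i + 1) := by
    intro i
    induction i with
    | zero =>
      rw [hKs 0, hK0]
      intro a ha
      rw [MonoidHom.mem_ker] at ha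
      rw [Subgroup.mem_comap, MonoidHom.mem_ker, ha, map_one]
    | succ i ih =>
      rw [hKs (i + 1)]
      conv_lhs => rw [hKs i]
      exact Subgroup.comap_mono ih
  have hmono' : Monotone Kc := monotone_nat_of_le_succ hmono
  have hne : ∀ H K : Subgroup ↥A, H.relIndex K ≠ 0 := fun H K => Subgroup.index_ne_zero_of_finite
  have hbase : (Kc 0).relIndex (Kc 1) = p := by
    have e1 : Kc 0 = (⊥ : Subgroup ↥A).comap ψ := by rw [hK0, MonoidHom.comap_bot]
    have e2 : Kc 1 = ψ.ker.comap ψ := by rw [hKs 0, hK0]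
    rw [e1, Subgroup.relIndex_comap, Subgroup.relIndex_bot_left, e2, Subgroup.map_comap_eq]
    exact hcard2
  have hstep : ∀ i, (Kc (i + 1)).relIndex (Kc (i + 2)) ≤ (Kc i).relIndex (Kc (i + 1)) := by
    intro i
    have e1 : (Kc (i + 1)).relIndex (Kc (i + 2)) = (Kc i).relIndex ((Kc (i + 2)).map ψ) := by
      conv_lhs => rw [hKs i]
      rw [Subgroup.relIndex_comap]
    rw [e1]
    apply Subgroup.relIndex_le_of_le_right _ (hne _ _)
    rw [hKs (i + 1)]
    exact Subgroup.map_comap_le _ _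
  have hle1 : ∀ i, (Kc i).relIndex (Kc (i + 1)) ≤ p := by
    intro i
    induction i with
    | zero => exact hbase.le
    | succ i ih => exact (hstep i).trans ih
  have hpow : ∀ j, (Kc 0).relIndex (Kc j) ≤ p ^ j := by
    intro j
    induction j with
    | zero => rw [Subgroup.relIndex_self, pow_zero]
    | succ j ih =>
      rw [← Subgroup.relIndex_mul_relIndex _ _ _ (hmono' (Nat.zero_le j)) (hmono j), pow_succ]
      exact Nat.mul_le_mul ih (hle1 j)
  have hmem : ∀ i (a : ↥A), a ∈ Kc i ↔ ψ^[i] a ∈ ψ.ker := by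
    intro i
    induction i with
    | zero => intro a; rw [hK0]; rfl
    | succ i ih => intro a; rw [hKs i, Subgroup.mem_comap, ih, Function.iterate_succ_apply]
  have hlcs : ∀ i (a : ↥A), ((ψ^[i] a : ↥A) : Ω) ∈ Subgroup.lowerCentralSeries S i := by
    intro i
    induction i with
    | zero => intro a; exact h.le a.2
    | succ i ih =>
      intro a
      rw [Function.iterate_succ_apply', hψa, ← commutatorElement_def,
        Subgroup.lowerCentralSeries_succ]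
      exact Subgroup.commutator_mem_commutator (ih a) hx
  have htop : Kc (m - 2) = ⊤ := by
    rw [eq_top_iff]
    intro a _
    rw [hmem, hker, Subgroup.mem_subgroupOf]
    exact hle (hlcs _ a)
  have h1 : (Kc 0).index ≤ p ^ (m - 2) := by
    have := hpow (m - 2)
    rwa [htop, Subgroup.relIndex_top_right] at this
  have h2 : (Kc 0).index * p = p ^ m := by
    rw [hK0, hker, ← hm]
    have e1 : (S ⊓ Subgroup.centralizer (S : Set Ω)).relIndex A * A.relIndex S =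
        (S ⊓ Subgroup.centralizer (S : Set Ω)).relIndex S :=
      Subgroup.relIndex_mul_relIndex _ _ _ hZA h.le
    have e2 : A.relIndex S = p := hidxA
    rw [e2] at e1
    exact e1
  have h3 : p ^ m ≤ p ^ (m - 2) * p := by
    rw [← h2]
    exact Nat.mul_le_mul_right p h1
  have h4 : p ^ (m - 2) * p < p ^ m := by
    rw [← pow_succ]
    exact Nat.pow_lt_pow_right hp.out.one_lt (by omega)
  omega

end count

end Cfsg.Agent.H89
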