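import Cfsg.Agent.H89.Conn
import Cfsg.Agent.H89.ExtraIdxCenter
import Cfsg.Agent.H89.IndexPCount
import Cfsg.Agent.H89.GenExtra

set_option autoImplicit false

/-!
Fusion systems on a `p`-group `S` with an extraspecial subgroup `Q` of index `p`, `|S| ≥ p⁶`:
an essential subgroup contained in `Q` equals `Q`.
-/

namespace Cfsg.Agent.H89

open Cfsg Cfsg.FusionSystem Cfsg.Agent.H86
open scoped commutatorElement

variable {Ω : Type*} [Group Ω] {S : Subgroup Ω}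

/-- Basic facts on an extraspecial subgroup `Q` of index `p` in `S`. -/
structure XQ (p : ℕ) (S Q : Subgroup Ω) : Prop where
  le : Q ≤ S
  zcard : Nat.card ↥(Q ⊓ Subgroup.centralizer (Q : Set Ω)) = p
  comm : ∀ a ∈ Q, ∀ b ∈ Q, a * b * a⁻¹ * b⁻¹ ∈ Q ⊓ Subgroup.centralizer (Q : Set Ω)
  norm : ∀ s ∈ S, ∀ q ∈ Q, s * q * s⁻¹ ∈ Q
  zle : Q ⊓ Subgroup.centralizer (Q : Set Ω) ≤ S ⊓ Subgroup.centralizer (S : Set Ω)

theorem XQ.of_extraspecial [Finite S] {p : ℕ} [hp : Fact p.Prime] (hS : IsPGroup p S)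
    {Q : Subgroup Ω} (hQS : Q ≤ S) (hQ : Cfsg.IsExtraspecial p ↥Q)
    (hQi : (Q.subgroupOf S).index = p) : XQ p S Q := by
  have : Finite Q := finite_of_le hQS
  have hZQQ : Q ⊓ Subgroup.centralizer (Q : Set Ω) ≤ Q := inf_le_left
  have hZQS : Q ⊓ Subgroup.centralizer (Q : Set Ω) ≤ S := hZQQ.trans hQS
  have hZQcard : Nat.card ↥(Q ⊓ Subgroup.centralizer (Q : Set Ω)) = p := by
    have h1 := hQ.2
    rw [center_eq_subgroupOf] at h1
    rw [← h1]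
    exact (Nat.card_congr (Subgroup.subgroupOfEquivOfLe hZQQ).toEquiv).symm
  have hQcomm : ∀ a ∈ Q, ∀ b ∈ Q, a * b * a⁻¹ * b⁻¹ ∈ Q ⊓ Subgroup.centralizer (Q : Set Ω) := by
    intro a ha b hb
    have h1 : ⁅(⟨a, ha⟩ : ↥Q), ⟨b, hb⟩⁆ ∈ commutator ↥Q := by
      rw [commutator_def]
      exact Subgroup.commutator_mem_commutator (Subgroup.mem_top _) (Subgroup.mem_top _)
    rw [hQ.1.2.2, center_eq_subgroupOf, Subgroup.mem_subgroupOf] at h1
    exact h1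
  have hQN : (Q.subgroupOf S).Normal := by
    apply Subgroup.normal_of_index_eq_minFac_card
    obtain ⟨n, hn⟩ := (IsPGroup.iff_card).1 hS
    have hn0 : n ≠ 0 := by
      rintro rfl
      rw [pow_zero] at hn
      have h1 : (Q.subgroupOf S).index ∣ Nat.card S := Subgroup.index_dvd_card _
      rw [hQi, hn] at h1
      exact hp.out.one_lt.ne' (Nat.dvd_one.1 h1)
    rw [hQi, hn, hp.out.pow_minFac hn0]
  have hQn : ∀ s ∈ S, ∀ q ∈ Q, s * q * s⁻¹ ∈ Q := by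
    intro s hs q hq
    have := hQN.conj_mem ⟨q, hQS hq⟩ (Subgroup.mem_subgroupOf.2 hq) ⟨s, hs⟩
    rw [Subgroup.mem_subgroupOf] at this
    exact this
  have hZQn : ((Q ⊓ Subgroup.centralizer (Q : Set Ω)).subgroupOf S).Normal := by
    constructor
    intro n hn g
    rw [Subgroup.mem_subgroupOf] at hn ⊢
    obtain ⟨hnQ, hnc⟩ := mem_center_inf_iff.1 hn
    rw [mem_center_inf_iff]
    refine ⟨hQn g g.2 n hnQ, fun q hq => ?_⟩
    have hq' : (g : Ω)⁻¹ * q * (g : Ω) ∈ Q := by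
      have := hQn (g : Ω)⁻¹ (S.inv_mem g.2) q hq
      rwa [inv_inv] at this
    have h1 := hnc _ hq'
    show q * ((g : Ω) * (n : Ω) * (g : Ω)⁻¹) = (g : Ω) * (n : Ω) * (g : Ω)⁻¹ * q
    calc q * ((g : Ω) * (n : Ω) * (g : Ω)⁻¹)
        = (g : Ω) * ((g : Ω)⁻¹ * q * (g : Ω) * (n : Ω)) * (g : Ω)⁻¹ := by group
      _ = (g : Ω) * ((n : Ω) * ((g : Ω)⁻¹ * q * (g : Ω))) * (g : Ω)⁻¹ := by rw [h1]
      _ = _ := by group
  have hZQle : Q ⊓ Subgroup.centralizer (Q : Set Ω) ≤ S ⊓ Subgroup.centralizer (S : Set Ω) := by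
    have h1 : Nat.card ↥((Q ⊓ Subgroup.centralizer (Q : Set Ω)).subgroupOf S) = p := by
      rw [← hZQcard]
      exact Nat.card_congr (Subgroup.subgroupOfEquivOfLe hZQS).toEquiv
    have h2 := Cfsg.Agent.H67.le_center_of_normal_of_card_eq_prime hS _ h1
    intro z hz
    have h3 : (⟨z, hZQS hz⟩ : ↥S) ∈ Subgroup.center ↥S := h2 (Subgroup.mem_subgroupOf.2 hz)
    rw [center_eq_subgroupOf, Subgroup.mem_subgroupOf] at h3
    exact h3
  exact ⟨hQS, hZQcard, hQcomm, hQn, hZQle⟩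

/-- For an abelian proper subgroup `E ≥ Z(Q)` of `Q` and `w ∈ E`, some element of `Q ∖ E`
centralizes `w` (when `|S| ≥ p⁶`). -/
theorem exists_centralizing_outside [Finite S] {p : ℕ} [hp : Fact p.Prime] (hS : IsPGroup p S)
    {Q : Subgroup Ω} (hQS : Q ≤ S) (hQ : Cfsg.IsExtraspecial p ↥Q)
    (hQi : (Q.subgroupOf S).index = p) (h6 : p ^ 6 ≤ Nat.card S) {E : Subgroup Ω} (hEQ : E ≤ Q)
    (hne : E ≠ Q) (hZE : Q ⊓ Subgroup.centralizer (Q : Set Ω) ≤ E)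
    (hEab : ∀ x ∈ E, ∀ y ∈ E, x * y = y * x) {w : Ω} (hw : w ∈ E) :
    ∃ b ∈ Q, b ∉ E ∧ b * w = w * b := by
  by_contra hcon
  push Not at hcon
  have : Finite Q := finite_of_le hQS
  have : Finite E := finite_of_le (hEQ.trans hQS)
  have hx := XQ.of_extraspecial hS hQS hQ hQi
  have hQp : IsPGroup p Q := hS.to_le hQS
  have hc : commutator ↥Q ≤ Subgroup.center ↥Q := hQ.1.2.2.le
  have hker : (commHom hc ⟨w, hEQ hw⟩).ker ≤ E.subgroupOf Q := by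
    intro q hq
    rw [MonoidHom.mem_ker, commHom_eq_one_iff] at hq
    rw [Subgroup.mem_subgroupOf]
    by_contra hqE
    exact hcon q q.2 hqE (congrArg Subtype.val hq)
  have hidx_dvd : (E.subgroupOf Q).index ∣ p := by
    have h1 := Subgroup.index_dvd_of_le hker
    have h2 : (commHom hc ⟨w, hEQ hw⟩).ker.index = Nat.card (commHom hc ⟨w, hEQ hw⟩).range :=
      Subgroup.index_ker _
    have h3 : Nat.card (commHom hc ⟨w, hEQ hw⟩).range ∣ Nat.card (commutator ↥Q) :=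
      Subgroup.card_subgroup_dvd_card _
    have h4 : Nat.card ↥(commutator ↥Q) = p := by
      rw [hQ.1.2.2]
      exact hQ.2
    rw [h4] at h3
    rw [h2] at h1
    exact h1.trans h3
  have hidx : (E.subgroupOf Q).index = p := by
    rcases (Nat.dvd_prime hp.out).1 hidx_dvd with h | h
    · exfalso
      apply hne
      apply le_antisymm hEQ
      rw [Subgroup.index_eq_one] at h
      intro q hq
      have : (⟨q, hq⟩ : ↥Q) ∈ E.subgroupOf Q := by rw [h]; exact Subgroup.mem_top _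
      exact Subgroup.mem_subgroupOf.1 this
    · exact h
  have hab : AbIdx p Q E := AbIdx.of_index hQp
    ⟨hEQ, isMulCommutative_iff.2 (fun a b => Subtype.ext (hEab a a.2 b b.2)), hidx⟩
  obtain ⟨b₀, hb₀Q, hb₀E⟩ : ∃ b ∈ Q, b ∉ E := by
    by_contra h
    push Not at h
    exact hne (le_antisymm hEQ h)
  have hk := hab.psi_ker hb₀Q hb₀E
  have hr := hab.psi_range hb₀Q hb₀E
  have h1 := Subgroup.card_mul_index (hab.psi hb₀Q).ker
  rw [Subgroup.index_ker, hk, hr] at h1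
  have hkc : Nat.card ↥((Q ⊓ Subgroup.centralizer (Q : Set Ω)).subgroupOf E) = p := by
    rw [← hx.zcard]
    exact Nat.card_congr (Subgroup.subgroupOfEquivOfLe hZE).toEquiv
  have hrc : Nat.card ↥((⁅Q, Q⁆ : Subgroup Ω).subgroupOf E) ≤ p := by
    have hle : (⁅Q, Q⁆ : Subgroup Ω) ≤ Q ⊓ Subgroup.centralizer (Q : Set Ω) := by
      rw [Subgroup.commutator_le]
      intro a ha b hb
      exact hx.comm a ha b hb
    have h2 : (⁅Q, Q⁆ : Subgroup Ω).subgroupOf E ≤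
        (Q ⊓ Subgroup.centralizer (Q : Set Ω)).subgroupOf E := fun x hx' => hle hx'
    calc Nat.card ↥((⁅Q, Q⁆ : Subgroup Ω).subgroupOf E)
        ≤ Nat.card ↥((Q ⊓ Subgroup.centralizer (Q : Set Ω)).subgroupOf E) :=
          Subgroup.card_le_of_le h2
      _ = p := hkc
  have hEcard : Nat.card E ≤ p * p := by
    rw [← h1, hkc]
    exact Nat.mul_le_mul_left p hrc
  have hQcard : Nat.card Q ≤ p * p * p := by
    have h3 := Subgroup.card_mul_index (E.subgroupOf Q)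
    rw [hidx, Nat.card_congr (Subgroup.subgroupOfEquivOfLe hEQ).toEquiv] at h3
    rw [← h3]
    exact Nat.mul_le_mul_right p hEcard
  have hScard : Nat.card S ≤ p * p * p * p := by
    have h3 := Subgroup.card_mul_index (Q.subgroupOf S)
    rw [hQi, Nat.card_congr (Subgroup.subgroupOfEquivOfLe hQS).toEquiv] at h3
    rw [← h3]
    exact Nat.mul_le_mul_right p hQcard
  have hp2 := hp.out.two_le
  have hlt : p * p * p * p < p ^ 6 := by
    have e : p ^ 6 = p * p * p * p * (p * p) := by ring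
    rw [e]
    have h4 : 0 < p * p * p * p := by positivity
    nlinarith [Nat.mul_le_mul hp2 hp2]
  omega

/-- An essential subgroup contained in `Q` (extraspecial of index `p` in `S`, `|S| ≥ p⁶`) is
`Q`. -/
theorem extra_ess_eq [Finite S] {p : ℕ} [hp : Fact p.Prime] (hS : IsPGroup p S)
    {Q : Subgroup Ω} (hQS : Q ≤ S) (hQ : Cfsg.IsExtraspecial p ↥Q)
    (hQi : (Q.subgroupOf S).index = p) (h6 : p ^ 6 ≤ Nat.card S) {F : FusionSystem S}
    (hF : F.IsSaturated p) {E : Subgroup Ω} (hEQ : E ≤ Q) (hE : F.IsEssential p E) : E = Q := by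
  by_contra hne
  have hx := XQ.of_extraspecial hS hQS hQ hQi
  have hES : E ≤ S := hE.1.1
  have : Finite E := finite_of_le hES
  have hcen : centralizerIn S E ≤ E := hE.1.2 E (Cfsg.Agent.H86.isConj_refl F hES)
  have ha := (saturated_fullyNormalized hS hF hE.2.1).2
  obtain ⟨Z, hZdef⟩ : ∃ Z : Subgroup Ω, Z = Q ⊓ Subgroup.centralizer (Q : Set Ω) := ⟨_, rfl⟩
  have hZcard : Nat.card ↥Z = p := by rw [hZdef]; exact hx.zcard
  have hZQ : Z ≤ Q := by rw [hZdef]; exact inf_le_left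
  have hQcomm : ∀ a ∈ Q, ∀ b ∈ Q, a * b * a⁻¹ * b⁻¹ ∈ Z := by rw [hZdef]; exact hx.comm
  have hZc : ∀ z ∈ Z, ∀ s ∈ S, s * z = z * s := by
    intro z hz s hs
    rw [hZdef] at hz
    exact (mem_center_inf_iff.1 (hx.zle hz)).2 s hs
  have hZE : Z ≤ E := fun z hz =>
    hcen (mem_centralizerIn_iff.2 ⟨hQS (hZQ hz), fun y hy => hZc z hz y (hES hy)⟩)
  have hQE : ∀ q ∈ Q, ∀ e ∈ E, q * e * q⁻¹ ∈ E := by
    intro q hq e he
    have h1 := hZE (hQcomm q hq e (hEQ he))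
    have e1 : q * e * q⁻¹ = (q * e * q⁻¹ * e⁻¹) * e := by group
    rw [e1]
    exact E.mul_mem h1 he
  have hQNE : ∀ q ∈ Q, q ∈ Subgroup.normalizer (E : Set Ω) := fun q hq =>
    mem_normalizer_of_forall_conj_mem (hQE q hq) (fun y hy => by
      have := hQE q⁻¹ (Q.inv_mem hq) y hy
      rwa [inv_inv] at this)
  have conjaut : ∀ b ∈ Q, ∃ β : MulAut E, (∀ y : E, ((β y : E) : Ω) = b * y * b⁻¹) ∧
      β ∈ autInducedBy S E ∧ (b ∉ E → β ∉ Inn E) := by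
    intro b hb
    obtain ⟨β, hβ⟩ := exists_conjAut (hQNE b hb)
    exact ⟨β, hβ, (mem_autInducedBy_iff S E β).2 ⟨b, hQS hb, hβ⟩, fun hbE hinn =>
      hbE (mem_of_induces_inner hES hcen (hQS hb) hβ hinn)⟩
  obtain ⟨b₀, hb₀Q, hb₀E⟩ : ∃ b ∈ Q, b ∉ E := by
    by_contra h
    push Not at h
    exact hne (le_antisymm hEQ h)
  obtain ⟨z, hzZ, hz1⟩ : ∃ z ∈ Z, z ≠ 1 := by
    have : Finite ↥Z := finite_of_le (hZQ.trans hQS)
    have hnt : Nontrivial ↥Z := by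
      rw [← Finite.one_lt_card_iff_nontrivial, hZcard]
      exact hp.out.one_lt
    obtain ⟨⟨z, hz⟩, hz1⟩ := exists_ne (1 : ↥Z)
    exact ⟨z, hz, fun h => hz1 (Subtype.ext h)⟩
  obtain ⟨γ, hγ, hbad⟩ := essential_connect' ha hE
  have hβZ : ∀ b ∈ Q, ∀ β : MulAut E, (∀ y : E, ((β y : E) : Ω) = b * y * b⁻¹) →
      ∀ u : E, ((u⁻¹ * β u : E) : Ω) ∈ Z := by
    intro b hb β hβ u
    have h1 := hQcomm (u : Ω)⁻¹ (Q.inv_mem (hEQ u.2)) b hb
    have e : ((u⁻¹ * β u : E) : Ω) = (u : Ω)⁻¹ * b * ((u : Ω)⁻¹)⁻¹ * b⁻¹ := by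
      rw [Subgroup.coe_mul, Subgroup.coe_inv, hβ, inv_inv]
      simp only [mul_assoc]
    rw [e]
    exact h1
  have hβfix : ∀ b ∈ Q, ∀ β : MulAut E, (∀ y : E, ((β y : E) : Ω) = b * y * b⁻¹) →
      ∀ u : E, (u : Ω) ∈ Z → β u = u := by
    intro b hb β hβ u hu
    apply Subtype.ext
    rw [hβ, hZc _ hu b (hQS hb), mul_inv_cancel_right]
  have hDpow : ∀ d : E, (d : Ω) ∈ Z → ∃ k : ℤ, d = (⟨z, hZE hzZ⟩ : E) ^ k := by
    intro d hd
    obtain ⟨k, hk⟩ := exists_zpow_of_card_prime hZcard hzZ hz1 hd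
    exact ⟨k, Subtype.ext (by rw [hk, Subgroup.coe_zpow])⟩
  by_cases hgz : ((γ ⟨z, hZE hzZ⟩ : E) : Ω) ∈ Z
  · obtain ⟨β, hβ, hβA, hβI⟩ := conjaut b₀ hb₀Q
    have hγZ : ∀ u : E, (u : Ω) ∈ Z → ((γ u : E) : Ω) ∈ Z := by
      intro u hu
      obtain ⟨k, rfl⟩ := hDpow u hu
      rw [map_zpow, Subgroup.coe_zpow]
      exact Z.zpow_mem hgz k
    have hγZ' : ∀ u : E, (u : Ω) ∈ Z → ((γ⁻¹ u : E) : Ω) ∈ Z := by
      have hle : (Z.subgroupOf E).map γ.toMonoidHom ≤ Z.subgroupOf E := by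
        rintro _ ⟨u, hu, rfl⟩
        exact Subgroup.mem_subgroupOf.2 (hγZ u (Subgroup.mem_subgroupOf.1 hu))
      have heq : (Z.subgroupOf E).map γ.toMonoidHom = Z.subgroupOf E := by
        apply Subgroup.eq_of_le_of_card_ge hle
        rw [Subgroup.card_map_of_injective γ.injective]
      intro u hu
      have hmem : u ∈ (Z.subgroupOf E).map γ.toMonoidHom := by
        rw [heq]
        exact Subgroup.mem_subgroupOf.2 hu
      obtain ⟨v, hv, hvu⟩ := hmem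
      have e : γ⁻¹ u = v := by
        rw [← hvu]
        exact γ.symm_apply_apply v
      rw [e]
      exact Subgroup.mem_subgroupOf.1 hv
    have hκ : γ * β * γ⁻¹ ∈ F.autGroup E :=
      mul_mem (mul_mem hγ (autInducedBy_le_autGroup F hES hβA)) (inv_mem hγ)
    have hκA : γ * β * γ⁻¹ ∈ autInducedBy S E := by
      refine mem_autInducedBy_of_stab hS ha (Z.subgroupOf E) ?_ hκ ?_ ?_
      · intro t ht u hu
        obtain ⟨s, hs, hts⟩ := (mem_autInducedBy_iff S E t).1 ht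
        rw [Subgroup.mem_subgroupOf] at hu ⊢
        rw [hts, hZc _ hu s hs, mul_inv_cancel_right]
        exact hu
      · intro u
        rw [Subgroup.mem_subgroupOf]
        have e1 : u⁻¹ * (γ * β * γ⁻¹) u = γ ((γ⁻¹ u)⁻¹ * β (γ⁻¹ u)) := by
          rw [MulAut.mul_apply, MulAut.mul_apply, map_mul, map_inv, MulAut.apply_inv_self]
        rw [e1]
        exact hγZ _ (hβZ b₀ hb₀Q β hβ _)
      · intro u hu
        rw [Subgroup.mem_subgroupOf] at hu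
        rw [MulAut.mul_apply, MulAut.mul_apply, hβfix b₀ hb₀Q β hβ _ (hγZ' u hu),
          MulAut.apply_inv_self]
    exact hbad β hβA (hβI hb₀E) β hβA (hβI hb₀E) (Or.inl hκA)
  · have hEab : ∀ x ∈ E, ∀ y ∈ E, x * y = y * x := by
      by_contra hcon
      push Not at hcon
      obtain ⟨x, hx', y, hy, hxy⟩ := hcon
      apply hgz
      have hcZ := hQcomm x (hEQ hx') y (hEQ hy)
      have hc1 : x * y * x⁻¹ * y⁻¹ ≠ 1 := by
        intro h
        apply hxy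
        have := congrArg (fun t => t * y * x) h
        simpa [mul_assoc] using this
      obtain ⟨k, hk⟩ := exists_zpow_of_card_prime hZcard hcZ hc1 hzZ
      have e : (⟨z, hZE hzZ⟩ : E) =
          ((⟨x, hx'⟩ : E) * ⟨y, hy⟩ * (⟨x, hx'⟩ : E)⁻¹ * (⟨y, hy⟩ : E)⁻¹) ^ k :=
        Subtype.ext (by
          show z = _
          rw [hk, Subgroup.coe_zpow]
          rfl)
      rw [e, map_zpow, Subgroup.coe_zpow]
      apply Z.zpow_mem
      have e2 : γ ((⟨x, hx'⟩ : E) * ⟨y, hy⟩ * (⟨x, hx'⟩ : E)⁻¹ * (⟨y, hy⟩ : E)⁻¹) =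
          γ ⟨x, hx'⟩ * γ ⟨y, hy⟩ * (γ ⟨x, hx'⟩)⁻¹ * (γ ⟨y, hy⟩)⁻¹ := by
        simp only [map_mul, map_inv]
      rw [e2]
      exact hQcomm _ (hEQ (γ ⟨x, hx'⟩).2) _ (hEQ (γ ⟨y, hy⟩).2)
    have hEab' : ∀ u v : E, u * v = v * u := fun u v => Subtype.ext (hEab u u.2 v v.2)
    have hZE' : Q ⊓ Subgroup.centralizer (Q : Set Ω) ≤ E := by rw [← hZdef]; exact hZE
    obtain ⟨b, hbQ, hbE, hbc⟩ := exists_centralizing_outside hS hQS hQ hQi h6 hEQ hne hZE' hEab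
      (γ ⟨z, hZE hzZ⟩).2
    obtain ⟨b', hb'Q, hb'E, hb'c⟩ := exists_centralizing_outside hS hQS hQ hQi h6 hEQ hne hZE'
      hEab (γ⁻¹ ⟨z, hZE hzZ⟩).2
    obtain ⟨β, hβ, hβA, hβI⟩ := conjaut b hbQ
    obtain ⟨β', hβ', hβ'A, hβ'I⟩ := conjaut b' hb'Q
    have h1 : β (γ ⟨z, hZE hzZ⟩) = γ ⟨z, hZE hzZ⟩ :=
      Subtype.ext (by rw [hβ, hbc, mul_inv_cancel_right])
    have h2 : β' (γ⁻¹ ⟨z, hZE hzZ⟩) = γ⁻¹ ⟨z, hZE hzZ⟩ :=
      Subtype.ext (by rw [hβ', hb'c, mul_inv_cancel_right])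
    have h3 : ∀ d : E, (d : Ω) ∈ Z → β (γ d) = γ d := by
      intro d hd
      obtain ⟨k, rfl⟩ := hDpow d hd
      rw [map_zpow, map_zpow, h1]
    have h4 : ∀ d : E, (d : Ω) ∈ Z → (γ * β' * γ⁻¹) d = d := by
      intro d hd
      obtain ⟨k, rfl⟩ := hDpow d hd
      have e1 : (γ * β' * γ⁻¹) ((⟨z, hZE hzZ⟩ : E) ^ k) =
          γ (β' (γ⁻¹ ((⟨z, hZE hzZ⟩ : E) ^ k))) := rfl
      rw [e1, map_zpow, map_zpow, h2, ← map_zpow, MulAut.apply_inv_self]
    have hκe : ∀ e : E, ∃ ζ : E, (ζ : Ω) ∈ Z ∧ (γ * β' * γ⁻¹) e = e * γ ζ := by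
      intro e
      refine ⟨(γ⁻¹ e)⁻¹ * β' (γ⁻¹ e), hβZ b' hb'Q β' hβ' _, ?_⟩
      rw [map_mul, map_inv, MulAut.apply_inv_self, mul_inv_cancel_left]
      rfl
    have hβe : ∀ e : E, ∃ d : E, (d : Ω) ∈ Z ∧ β e = e * d := fun e =>
      ⟨e⁻¹ * β e, hβZ b hbQ β hβ e, by rw [mul_inv_cancel_left]⟩
    refine hbad β hβA (hβI hbE) β' hβ'A (hβ'I hb'E) (Or.inr ?_)
    apply MulEquiv.ext
    intro e
    obtain ⟨ζ, hζ, hκ1⟩ := hκe e
    obtain ⟨d, hd, hβ1⟩ := hβe e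
    have L : (β * (γ * β' * γ⁻¹)) e = β ((γ * β' * γ⁻¹) e) := rfl
    have R : ((γ * β' * γ⁻¹) * β) e = (γ * β' * γ⁻¹) (β e) := rfl
    rw [L, R, hκ1, map_mul, h3 ζ hζ, hβ1, map_mul, hκ1, h4 d hd]
    rw [mul_assoc, mul_assoc, hEab' d (γ ζ)]

end Cfsg.Agent.H89
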