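import Cfsg.Agent.H89.Chain

set_option autoImplicit false

namespace Cfsg.Agent.H89

open Cfsg

section class2

variable {G : Type*} [Group G]

/-- If `y * x = c * x * y` with `c` commuting with `y`, then `y ^ n * x = c ^ n * x * y ^ n`. -/
theorem pow_mul_of_comm (x y c : G) (hc : y * x = c * x * y) (hcy : Commute c y) (n : ℕ) :
    y ^ n * x = c ^ n * x * y ^ n := by
  induction n with
  | zero => simp
  | succ n ih =>
    have h1 : Commute (y ^ n) c := (hcy.pow_right n).symm
    calc y ^ (n + 1) * x = y ^ n * (y * x) := by rw [pow_succ, mul_assoc]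
      _ = y ^ n * (c * x * y) := by rw [hc]
      _ = (y ^ n * c) * x * y := by simp only [mul_assoc]
      _ = (c * y ^ n) * x * y := by rw [h1.eq]
      _ = c * (y ^ n * x) * y := by simp only [mul_assoc]
      _ = c * (c ^ n * x * y ^ n) * y := by rw [ih]
      _ = c ^ (n + 1) * x * y ^ (n + 1) := by rw [pow_succ', pow_succ]; simp only [mul_assoc]

/-- The power formula in class two: `(x y)^n = x^n y^n c^(n choose 2)` when `y x = c x y` and `c`
commutes with `x` and `y`. -/
theorem mul_pow_of_comm (x y c : G) (hc : y * x = c * x * y) (hcx : Commute c x) (hcy : Commute c y)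
    (n : ℕ) : (x * y) ^ n = x ^ n * y ^ n * c ^ (n.choose 2) := by
  induction n with
  | zero => simp
  | succ n ih =>
    have h1 : Commute (c ^ n.choose 2) x := hcx.pow_left _
    have h2 : Commute (c ^ n.choose 2) y := hcy.pow_left _
    have h3 : Commute (c ^ n) x := hcx.pow_left _
    have h4 : Commute (c ^ n) (x ^ n) := (hcx.pow_left n).pow_right n
    have h5 : Commute (c ^ (n + n.choose 2)) y := hcy.pow_left _
    have hch : (n + 1).choose 2 = n + n.choose 2 := by
      rw [Nat.choose_succ_succ, Nat.choose_one_right]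
    calc (x * y) ^ (n + 1) = (x * y) ^ n * (x * y) := pow_succ _ _
      _ = x ^ n * y ^ n * c ^ n.choose 2 * (x * y) := by rw [ih]
      _ = x ^ n * y ^ n * ((c ^ n.choose 2 * x) * y) := by simp only [mul_assoc]
      _ = x ^ n * y ^ n * ((x * c ^ n.choose 2) * y) := by rw [h1.eq]
      _ = x ^ n * y ^ n * (x * (c ^ n.choose 2 * y)) := by simp only [mul_assoc]
      _ = x ^ n * y ^ n * (x * (y * c ^ n.choose 2)) := by rw [h2.eq]
      _ = x ^ n * (y ^ n * x) * y * c ^ n.choose 2 := by simp only [mul_assoc]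
      _ = x ^ n * (c ^ n * x * y ^ n) * y * c ^ n.choose 2 := by rw [pow_mul_of_comm x y c hc hcy n]
      _ = (x ^ n * c ^ n) * x * y ^ n * y * c ^ n.choose 2 := by simp only [mul_assoc]
      _ = (c ^ n * x ^ n) * x * y ^ n * y * c ^ n.choose 2 := by rw [h4.eq]
      _ = c ^ n * (x ^ n * x) * (y ^ n * y) * c ^ n.choose 2 := by simp only [mul_assoc]
      _ = c ^ n * x ^ (n + 1) * y ^ (n + 1) * c ^ n.choose 2 := by rw [← pow_succ, ← pow_succ]
      _ = (c ^ n * x ^ (n + 1)) * y ^ (n + 1) * c ^ n.choose 2 := by simp only [mul_assoc]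
      _ = (x ^ (n + 1) * c ^ n) * y ^ (n + 1) * c ^ n.choose 2 := by
          rw [((hcx.pow_left n).pow_right (n + 1)).eq]
      _ = x ^ (n + 1) * (c ^ n * y ^ (n + 1)) * c ^ n.choose 2 := by simp only [mul_assoc]
      _ = x ^ (n + 1) * (y ^ (n + 1) * c ^ n) * c ^ n.choose 2 := by
          rw [((hcy.pow_left n).pow_right (n + 1)).eq]
      _ = x ^ (n + 1) * y ^ (n + 1) * (c ^ n * c ^ n.choose 2) := by simp only [mul_assoc]
      _ = x ^ (n + 1) * y ^ (n + 1) * c ^ (n + 1).choose 2 := by rw [hch, ← pow_add]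

end class2

/-- An automorphism `α` with `α ^ m = 1`, acting on a subgroup `V` without `m`-torsion so that every
`v⁻¹ α(v)` (`v ∈ V`) is a fixed point in `V`, fixes `V` pointwise. -/
theorem fix_of_fix_comm {G : Type*} [Group G] (α : MulAut G) (m : ℕ) (hm : α ^ m = 1) (V : Subgroup G)
    (hcop : ∀ v ∈ V, v ^ m = 1 → v = 1)
    (h : ∀ v ∈ V, v⁻¹ * α v ∈ V ∧ α (v⁻¹ * α v) = v⁻¹ * α v) : ∀ v ∈ V, α v = v := by
  intro v hv
  obtain ⟨hcV, hfix⟩ := h v hv
  have hpow : ∀ j : ℕ, (α ^ j) v = v * (v⁻¹ * α v) ^ j := by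
    intro j
    induction j with
    | zero => simp
    | succ j ihj =>
      rw [pow_succ', MulAut.mul_apply, ihj, map_mul, map_pow, hfix, pow_succ', ← mul_assoc,
        mul_inv_cancel_left]
  have h1 := hpow m
  rw [hm, MulAut.one_apply] at h1
  have h2 : (v⁻¹ * α v) ^ m = 1 := by
    have := congrArg (fun z => v⁻¹ * z) h1
    simpa using this.symm
  have h3 := hcop _ hcV h2
  calc α v = v * (v⁻¹ * α v) := by group
    _ = v := by rw [h3, mul_one]

/-- A nontrivial finite `p`-subgroup `V` has a proper subgroup containing all `p`-th powers and all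
commutators of elements of `V`. -/
theorem exists_proper_pow_comm {G : Type*} [Group G] {p : ℕ} [hp : Fact p.Prime] (V : Subgroup G)
    [Finite V] (hV : IsPGroup p V) (hne : V ≠ ⊥) :
    ∃ M : Subgroup G, M ≤ V ∧ M ≠ V ∧ (∀ v ∈ V, v ^ p ∈ M) ∧
      ∀ v ∈ V, ∀ w ∈ V, v * w * v⁻¹ * w⁻¹ ∈ M := by
  obtain ⟨k, hk⟩ := IsPGroup.iff_card.1 hV
  have hk0 : k ≠ 0 := by
    rintro rfl
    rw [pow_zero] at hk
    exact hne (Subgroup.card_eq_one.1 hk)
  obtain ⟨K, hK⟩ := Sylow.exists_subgroup_card_pow_prime (G := V) p (n := k - 1)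
    (by rw [hk]; exact pow_dvd_pow p (Nat.sub_le k 1))
  have hidx : K.index = p := by
    have h1 := Subgroup.index_mul_card K
    rw [hK, hk] at h1
    have h2 : p ^ k = p * p ^ (k - 1) := by
      rw [← pow_succ']
      congr 1
      omega
    rw [h2] at h1
    exact Nat.eq_of_mul_eq_mul_right (pow_pos hp.out.pos _) h1
  have hnormal : K.Normal := by
    apply Subgroup.normal_of_index_eq_minFac_card
    rw [hidx, hk, Nat.pow_minFac hk0, Nat.Prime.minFac_eq hp.out]
  have hcyc : IsCyclic (V ⧸ K) := isCyclic_of_prime_card (p := p) (by rw [← Subgroup.index_eq_card]; exact hidx)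
  refine ⟨K.map V.subtype, Subgroup.map_subtype_le K, ?_, ?_, ?_⟩
  · intro h
    have h1 : Nat.card (K.map V.subtype) = Nat.card K :=
      Nat.card_congr (K.equivMapOfInjective V.subtype V.subtype_injective).symm.toEquiv
    rw [h, hK, hk] at h1
    have h2 : k = k - 1 := Nat.pow_right_injective hp.out.two_le h1
    omega
  · intro v hv
    have h1 : (⟨v, hv⟩ : V) ^ K.index ∈ K := K.pow_index_mem _
    rw [hidx] at h1
    exact ⟨_, h1, rfl⟩
  · intro v hv w hw
    let _ := IsCyclic.commGroup (α := V ⧸ K)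
    have h1 : ((⟨v, hv⟩ * ⟨w, hw⟩ * ⟨v, hv⟩⁻¹ * ⟨w, hw⟩⁻¹ : V) : V ⧸ K) = 1 := by
      rw [QuotientGroup.mk_mul, QuotientGroup.mk_mul, QuotientGroup.mk_mul, QuotientGroup.mk_inv,
        QuotientGroup.mk_inv]
      rw [mul_comm ((⟨v, hv⟩ : V) : V ⧸ K) _, mul_inv_cancel_right, mul_inv_cancel]
    exact ⟨_, (QuotientGroup.eq_one_iff _).1 h1, rfl⟩

/-- **Key lemma** (`p` odd): an automorphism `α` with `α ^ m = 1`, `m` prime to `p`, that fixes
every element `v` with `v ^ p = 1` of an `α`-invariant finite `p`-subgroup `V`, fixes `V` pointwise. -/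
theorem fix_of_fix_omega {G : Type*} [Group G] (α : MulAut G) (m : ℕ) (hm : α ^ m = 1) {p : ℕ}
    [hp : Fact p.Prime] (hp2 : p ≠ 2) (hmp : m.Coprime p) :
    ∀ (N : ℕ) (V : Subgroup G), Nat.card V ≤ N → Finite V → IsPGroup p V → (∀ v ∈ V, α v ∈ V) →
      (∀ v ∈ V, v ^ p = 1 → α v = v) → ∀ v ∈ V, α v = v := by
  intro N
  induction N with
  | zero =>
    intro V hcard hfin _ _ _ v hv
    have : 0 < Nat.card V := Nat.card_pos
    omega
  | succ N ih =>
    intro V hcard hfin hV hinv hfix
    have hcop : ∀ v ∈ V, v ^ m = 1 → v = 1 := by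
      intro v hv hvm
      have := eq_one_of_pow_coprime hV hmp (⟨v, hv⟩ : V) (Subtype.ext hvm)
      exact congrArg Subtype.val this
    -- smaller invariant subgroups are fixed pointwise
    have hsmall : ∀ W : Subgroup G, W ≤ V → W ≠ V → (∀ w ∈ W, α w ∈ W) → ∀ w ∈ W, α w = w := by
      intro W hWV hWne hWinv
      have hfinW : Finite W := Finite.of_injective (fun w : W => (⟨w, hWV w.2⟩ : V))
        (fun a b hab => Subtype.ext (congrArg (fun z : V => (z : G)) hab))
      have hlt : Nat.card W < Nat.card V := by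
        by_contra hge
        exact hWne (Subgroup.eq_of_le_of_card_ge hWV (not_lt.1 hge))
      exact ih W (by omega) hfinW (hV.to_le hWV) hWinv (fun w hw hwp => hfix w (hWV hw) hwp)
    -- H = [V, α]
    let H : Subgroup G := Subgroup.closure {u | ∃ v ∈ V, u = v⁻¹ * α v}
    have hHV : H ≤ V := by
      rw [Subgroup.closure_le]
      rintro _ ⟨v, hv, rfl⟩
      exact V.mul_mem (V.inv_mem hv) (hinv v hv)
    have hHinv : ∀ h ∈ H, α h ∈ H := by
      intro h hh
      induction hh using Subgroup.closure_induction with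
      | mem u hu =>
        obtain ⟨v, hv, rfl⟩ := hu
        apply Subgroup.subset_closure
        exact ⟨α v, hinv v hv, by rw [map_mul, map_inv]⟩
      | one => rw [map_one]; exact Subgroup.one_mem _
      | mul a b _ _ iha ihb => rw [map_mul]; exact Subgroup.mul_mem _ iha ihb
      | inv a _ iha => rw [map_inv]; exact Subgroup.inv_mem _ iha
    have hgenH : ∀ v ∈ V, v⁻¹ * α v ∈ H := fun v hv => Subgroup.subset_closure ⟨v, hv, rfl⟩
    by_cases hH : H = V
    · -- the critical case V = [V, α]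
      by_cases hbot : V = ⊥
      · intro v hv
        rw [hbot, Subgroup.mem_bot] at hv
        rw [hv, map_one]
      obtain ⟨M, hMV, hMne, hMpow, hMcomm⟩ := exists_proper_pow_comm V hV hbot
      let Nn : Subgroup G := Subgroup.closure ({u | ∃ v ∈ V, u = v ^ p} ∪
        {u | ∃ v ∈ V, ∃ w ∈ V, u = v * w * v⁻¹ * w⁻¹})
      have hNM : Nn ≤ M := by
        rw [Subgroup.closure_le]
        rintro _ (⟨v, hv, rfl⟩ | ⟨v, hv, w, hw, rfl⟩)
        · exact hMpow v hv
        · exact hMcomm v hv w hw
      have hNV : Nn ≤ V := hNM.trans hMV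
      have hNne : Nn ≠ V := fun h => hMne (le_antisymm hMV (h ▸ hNM))
      have hNinv : ∀ z ∈ Nn, α z ∈ Nn := by
        intro z hz
        induction hz using Subgroup.closure_induction with
        | mem u hu =>
          apply Subgroup.subset_closure
          rcases hu with ⟨v, hv, rfl⟩ | ⟨v, hv, w, hw, rfl⟩
          · exact Or.inl ⟨α v, hinv v hv, by rw [map_pow]⟩
          · exact Or.inr ⟨α v, hinv v hv, α w, hinv w hw, by simp only [map_mul, map_inv]⟩
        | one => rw [map_one]; exact Subgroup.one_mem _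
        | mul a b _ _ iha ihb => rw [map_mul]; exact Subgroup.mul_mem _ iha ihb
        | inv a _ iha => rw [map_inv]; exact Subgroup.inv_mem _ iha
      have hNconj : ∀ x ∈ V, ∀ z ∈ Nn, x * z * x⁻¹ ∈ Nn := by
        intro x hx z hz
        induction hz using Subgroup.closure_induction with
        | mem u hu =>
          apply Subgroup.subset_closure
          rcases hu with ⟨v, hv, rfl⟩ | ⟨v, hv, w, hw, rfl⟩
          · refine Or.inl ⟨x * v * x⁻¹, V.mul_mem (V.mul_mem hx hv) (V.inv_mem hx), ?_⟩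
            rw [conj_pow]
          · refine Or.inr ⟨x * v * x⁻¹, V.mul_mem (V.mul_mem hx hv) (V.inv_mem hx),
              x * w * x⁻¹, V.mul_mem (V.mul_mem hx hw) (V.inv_mem hx), ?_⟩
            group
        | one => simp
        | mul a b _ _ iha ihb =>
          have : x * (a * b) * x⁻¹ = (x * a * x⁻¹) * (x * b * x⁻¹) := by group
          rw [this]; exact Subgroup.mul_mem _ iha ihb
        | inv a _ iha =>
          have : x * a⁻¹ * x⁻¹ = (x * a * x⁻¹)⁻¹ := by group
          rw [this]; exact Subgroup.inv_mem _ iha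
      have hNfix : ∀ z ∈ Nn, α z = z := hsmall Nn hNV hNne hNinv
      -- Nn is central in V
      have hcentral : ∀ z ∈ Nn, ∀ v ∈ V, v * z = z * v := by
        intro z hz
        have hle : H ≤ Subgroup.centralizer {z} := by
          rw [Subgroup.closure_le]
          rintro _ ⟨x, hx, rfl⟩
          rw [SetLike.mem_coe, Subgroup.mem_centralizer_iff]
          intro y hy
          rw [Set.mem_singleton_iff] at hy
          subst hy
          have h1 := hNfix _ (hNconj x hx y hz)
          rw [map_mul, map_mul, map_inv, hNfix y hz] at h1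
          -- h1 : α x * y * (α x)⁻¹ = x * y * x⁻¹
          calc y * (x⁻¹ * α x) = x⁻¹ * (x * y * x⁻¹) * α x := by group
            _ = x⁻¹ * (α x * y * (α x)⁻¹) * α x := by rw [h1]
            _ = x⁻¹ * α x * y := by group
        intro v hv
        have hvH : v ∈ H := hH ▸ hv
        have := Subgroup.mem_centralizer_iff.1 (hle hvH) z (Set.mem_singleton z)
        exact this.symm
      -- every v⁻¹ α(v) has p-th power 1, hence is fixed
      apply fix_of_fix_comm α m hm V hcop
      intro v hv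
      have hαv : α v ∈ V := hinv v hv
      have hu : v⁻¹ * α v ∈ V := V.mul_mem (V.inv_mem hv) hαv
      refine ⟨hu, hfix _ hu ?_⟩
      -- c = [α v, v⁻¹]
      set c : G := α v * v⁻¹ * (α v)⁻¹ * v⁻¹⁻¹ with hc
      have hcN : c ∈ Nn := Subgroup.subset_closure (Or.inr ⟨α v, hαv, v⁻¹, V.inv_mem hv, rfl⟩)
      have hrel : α v * v⁻¹ = c * v⁻¹ * α v := by rw [hc]; group
      have hcx : Commute c v⁻¹ := (hcentral c hcN v⁻¹ (V.inv_mem hv)).symm
      have hcy : Commute c (α v) := (hcentral c hcN (α v) hαv).symm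
      have hpowN : (α v) ^ p ∈ Nn := Subgroup.subset_closure (Or.inl ⟨α v, hαv, rfl⟩)
      have hcp : c ^ p = 1 := by
        have h1 := pow_mul_of_comm v⁻¹ (α v) c hrel hcy p
        have h2 : (α v) ^ p * v⁻¹ = v⁻¹ * (α v) ^ p := (hcentral _ hpowN v⁻¹ (V.inv_mem hv)).symm
        rw [h2] at h1
        have h3 : c ^ p * (v⁻¹ * α v ^ p) = v⁻¹ * α v ^ p := by rw [← mul_assoc]; exact h1.symm
        exact mul_eq_right.1 h3
      have hchoose : c ^ (p.choose 2) = 1 := by
        have h2lt : 2 < p := lt_of_le_of_ne hp.out.two_le (Ne.symm hp2)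
        obtain ⟨t, ht⟩ := Nat.Prime.dvd_choose_self hp.out (by norm_num : (2 : ℕ) ≠ 0) h2lt
        rw [ht, pow_mul, hcp, one_pow]
      rw [mul_pow_of_comm v⁻¹ (α v) c hrel hcx hcy p, hchoose, mul_one, inv_pow, ← map_pow,
        hNfix _ (Subgroup.subset_closure (Or.inl ⟨v, hv, rfl⟩)), inv_mul_cancel]
    · -- H < V: α fixes H by induction, then V by the quadratic argument
      have hHfix : ∀ h ∈ H, α h = h := hsmall H hHV hH hHinv
      apply fix_of_fix_comm α m hm V hcop
      intro v hv
      exact ⟨hHV (hgenH v hv), hHfix _ (hgenH v hv)⟩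

end Cfsg.Agent.H89
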