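import Cfsg.Agent.H89.Series
import Cfsg.Agent.H89.GenExtra
import Cfsg.Agent.H89.Braid
import Cfsg.Agent.H89.OmegaFix
import Cfsg.Agent.H86.FusExt
import Cfsg.Agent.H86.FusSat
import Cfsg.Agent.H86.FusChain
import Cfsg.Agent.H67.PGroup

set_option autoImplicit false

namespace Cfsg.Agent.H89

open Cfsg Cfsg.FusionSystem Cfsg.Agent.H86
open scoped commutatorElement

variable {Ω : Type*} [Group Ω] {S : Subgroup Ω}

lemma mor_map_pow {F : FusionSystem S} {P : Subgroup Ω} {f : Ω → Ω} (h : Mor F P f) {x : Ω}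
    (hx : x ∈ P) (n : ℕ) : f (x ^ n) = f x ^ n := by
  obtain ⟨φ, -, hφ⟩ := h
  have h1 := map_pow φ ⟨x, hx⟩ n
  rw [hφ, hφ] at h1
  simpa using h1

lemma mor_map_zpow {F : FusionSystem S} {P : Subgroup Ω} {f : Ω → Ω} (h : Mor F P f) {x : Ω}
    (hx : x ∈ P) (n : ℤ) : f (x ^ n) = f x ^ n := by
  obtain ⟨φ, -, hφ⟩ := h
  have h1 := map_zpow φ ⟨x, hx⟩ n
  rw [hφ, hφ] at h1
  simpa using h1

/-- The commutator subgroup of `↥P`, viewed in the ambient group. -/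
lemma commutator_map_subtype (P : Subgroup Ω) : (commutator ↥P).map P.subtype = ⁅P, P⁆ := by
  rw [commutator_def, Subgroup.map_commutator, ← MonoidHom.range_eq_map, Subgroup.range_subtype]

lemma mem_commutator_subtype_iff (P : Subgroup Ω) (x : ↥P) :
    x ∈ commutator ↥P ↔ (x : Ω) ∈ ⁅P, P⁆ := by
  rw [← commutator_map_subtype]
  constructor
  · intro h
    exact ⟨x, h, rfl⟩
  · rintro ⟨y, hy, hyx⟩
    have : y = x := Subtype.ext hyx
    rwa [← this]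

lemma card_commutator_subtype (P : Subgroup Ω) :
    Nat.card (⁅P, P⁆ : Subgroup Ω) = Nat.card (commutator ↥P) := by
  rw [← commutator_map_subtype]
  exact Subgroup.card_map_of_injective P.subtype_injective

lemma commutator_self_le (P : Subgroup Ω) : ⁅P, P⁆ ≤ P := by
  rw [Subgroup.commutator_le]
  intro a ha b hb
  rw [commutatorElement_def]
  exact P.mul_mem (P.mul_mem (P.mul_mem ha hb) (P.inv_mem ha)) (P.inv_mem hb)

/-- A generator of a subgroup of prime order. -/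
lemma exists_zpow_of_card_prime {p : ℕ} [Fact p.Prime] {Z : Subgroup Ω} (hcard : Nat.card Z = p)
    {z : Ω} (hz : z ∈ Z) (hz1 : z ≠ 1) {x : Ω} (hx : x ∈ Z) : ∃ k : ℤ, x = z ^ k := by
  have hne : (⟨z, hz⟩ : Z) ≠ 1 := fun e => hz1 (congrArg Subtype.val e)
  have h1 := zpowers_eq_top_of_prime_card hcard hne
  have hd : (⟨x, hx⟩ : Z) ∈ Subgroup.zpowers (⟨z, hz⟩ : Z) := by rw [h1]; trivial
  obtain ⟨k, hk⟩ := Subgroup.mem_zpowers_iff.1 hd
  refine ⟨k, ?_⟩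
  have := congrArg Subtype.val hk
  simpa using this.symm

lemma pow_eq_one_of_card_prime {p : ℕ} {Z : Subgroup Ω} (hcard : Nat.card Z = p)
    {z : Ω} (hz : z ∈ Z) : z ^ p = 1 := by
  have h2 : (⟨z, hz⟩ : Z) ^ Nat.card Z = 1 := pow_card_eq_one'
  rw [hcard] at h2
  exact congrArg Subtype.val h2

/-- The commutator subgroup of a strongly closed subgroup is normalized by `S`. -/
lemma commutator_conj_mem {F : FusionSystem S} {P : Subgroup Ω} (hP : F.StronglyClosed P)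
    {s : Ω} (hs : s ∈ S) {x : Ω} (hx : x ∈ ⁅P, P⁆) : s * x * s⁻¹ ∈ ⁅P, P⁆ := by
  have hmapP : P.map (MulAut.conj s).toMonoidHom ≤ P := by
    rintro _ ⟨u, hu, rfl⟩
    exact stronglyClosed_conj_mem hP hs hu
  have h1 : (⁅P, P⁆ : Subgroup Ω).map (MulAut.conj s).toMonoidHom ≤ ⁅P, P⁆ := by
    rw [Subgroup.map_commutator]
    exact Subgroup.commutator_mono hmapP hmapP
  exact h1 ⟨x, hx, rfl⟩

/-- The commutator subgroup of a strongly closed subgroup, if of order `p`, is central in `S`. -/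
lemma commutator_central [Finite S] {p : ℕ} [Fact p.Prime] (hS : IsPGroup p S) {F : FusionSystem S}
    {P : Subgroup Ω} (hP : F.StronglyClosed P) (hcard : Nat.card (⁅P, P⁆ : Subgroup Ω) = p) :
    ∀ z ∈ ⁅P, P⁆, ∀ s ∈ S, s * z = z * s := by
  have hZS : ⁅P, P⁆ ≤ S := (commutator_self_le P).trans hP.1
  have hN : ((⁅P, P⁆ : Subgroup Ω).subgroupOf S).Normal := by
    refine ⟨fun n hn g => ?_⟩
    rw [Subgroup.mem_subgroupOf] at hn ⊢
    exact commutator_conj_mem hP g.2 hn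
  have hc : Nat.card ((⁅P, P⁆ : Subgroup Ω).subgroupOf S) = p := by
    rw [← hcard]
    exact Nat.card_congr (Subgroup.subgroupOfEquivOfLe hZS).toEquiv
  have hle := Cfsg.Agent.H67.le_center_of_normal_of_card_eq_prime hS _ hc
  intro z hz s hs
  have h1 : (⟨z, hZS hz⟩ : S) ∈ (⁅P, P⁆ : Subgroup Ω).subgroupOf S := Subgroup.mem_subgroupOf.2 hz
  have h2 := Subgroup.mem_center_iff.1 (hle h1) ⟨s, hs⟩
  exact congrArg Subtype.val h2

/-- The commutator subgroup of a strongly closed subgroup, if of order `p`, is receptive. -/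
lemma commutator_receptive [Finite S] {p : ℕ} [Fact p.Prime] (hS : IsPGroup p S) {F : FusionSystem S}
    (hF : F.IsSaturated p) {P : Subgroup Ω} (hP : F.StronglyClosed P)
    (hcard : Nat.card (⁅P, P⁆ : Subgroup Ω) = p) : F.IsReceptive ⁅P, P⁆ := by
  have hZS : ⁅P, P⁆ ≤ S := (commutator_self_le P).trans hP.1
  have hcen := commutator_central hS hP hcard
  have hC : centralizerIn S ⁅P, P⁆ = S := by
    apply le_antisymm inf_le_left
    intro s hs
    refine ⟨hs, ?_⟩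
    show s ∈ Subgroup.centralizer ((⁅P, P⁆ : Subgroup Ω) : Set Ω)
    rw [Subgroup.mem_centralizer_iff]
    intro z hz
    exact (hcen z hz s hs).symm
  apply saturated_receptive_of_fullyCentralized hS hF
  refine ⟨hZS, fun Q _ => ?_⟩
  rw [hC]
  exact Subgroup.card_le_of_le (inf_le_left : centralizerIn S Q ≤ S)

/-- Key lemma: if an `F`-map `f` moves the commutator subgroup `Z₀ = ⁅P, P⁆` (of order `p`) of a
strongly closed generalized extraspecial subgroup `P` off itself, then the inverse of `f` extends to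
the centralizer of `f z` and the centralizer of `f z` in `P` is elementary abelian. -/
theorem genExtra_key [Finite S] {p : ℕ} [Fact p.Prime] (hS : IsPGroup p S) {F : FusionSystem S}
    (hF : F.IsSaturated p) {P : Subgroup Ω} (hP : F.StronglyClosed P)
    (hcard : Nat.card (⁅P, P⁆ : Subgroup Ω) = p) (hpow : ∀ g ∈ P, g ^ p ∈ ⁅P, P⁆)
    {f : Ω → Ω} (hf : Mor F ⁅P, P⁆ f) {z : Ω} (hz : z ∈ ⁅P, P⁆) (hz1 : z ≠ 1) (hy : f z ∉ ⁅P, P⁆) :
    (∃ g, Mor F (centralizerIn S (Subgroup.zpowers (f z))) g ∧ g (f z) = z ∧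
      ∀ z₁ ∈ ⁅P, P⁆, z₁ ≠ 1 → g z₁ ∉ ⁅P, P⁆) ∧
    (∀ a ∈ P, ∀ c ∈ P, a * f z = f z * a → c * f z = f z * c → a * c = c * a) ∧
    (∀ a ∈ P, a * f z = f z * a → a ^ p = 1) := by
  have hPS : P ≤ S := hP.1
  have hZP : ⁅P, P⁆ ≤ P := commutator_self_le P
  have hZS : ⁅P, P⁆ ≤ S := hZP.trans hPS
  have hcen := commutator_central hS hP hcard
  have hrec := commutator_receptive hS hF hP hcard
  have hyS : f z ∈ S := hf.mem hz
  have hyp : f z ^ p = 1 := by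
    rw [← mor_map_pow hf hz, pow_eq_one_of_card_prime hcard hz, hf.map_one]
  -- the image of f is generated by f z
  have himgle : imgS ⁅P, P⁆ f ≤ Subgroup.zpowers (f z) := by
    intro u hu
    obtain ⟨x, hx, rfl⟩ := hf.mem_imgS.1 hu
    obtain ⟨k, rfl⟩ := exists_zpow_of_card_prime hcard hz hz1 hx
    rw [mor_map_zpow hf hz]
    exact Subgroup.zpow_mem_zpowers _ k
  have hinv : Mor F (imgS ⁅P, P⁆ f) (invOn ⁅P, P⁆ f) := hf.inv
  obtain ⟨g, hg, hgY⟩ := receptive_extend' hrec hinv hf.imgS_inv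
  have hCle : centralizerIn S (Subgroup.zpowers (f z)) ≤
      extSub S (imgS ⁅P, P⁆ f) (invOn ⁅P, P⁆ f) := by
    refine le_trans ?_ (centralizerIn_le_extSub hinv)
    intro s hs
    exact ⟨hs.1, Subgroup.centralizer_le (fun u hu => himgle hu) hs.2⟩
  have hgC : Mor F (centralizerIn S (Subgroup.zpowers (f z))) g := hg.restrict hCle
  have hginv : ∀ x ∈ ⁅P, P⁆, g (f x) = x := by
    intro x hx
    rw [hgY _ (hf.mem_imgS_of_mem hx), invOn_apply hf.injOn hx]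
  -- membership in the centralizer
  have hmemC : ∀ a ∈ S, a * f z = f z * a → a ∈ centralizerIn S (Subgroup.zpowers (f z)) := by
    intro a ha hay
    refine ⟨ha, ?_⟩
    show a ∈ Subgroup.centralizer ((Subgroup.zpowers (f z) : Subgroup Ω) : Set Ω)
    rw [Subgroup.mem_centralizer_iff]
    intro u hu
    obtain ⟨k, rfl⟩ := Subgroup.mem_zpowers_iff.1 hu
    exact ((show Commute a (f z) from hay).zpow_right k).eq.symm
  have hZC : ∀ x ∈ ⁅P, P⁆, x ∈ centralizerIn S (Subgroup.zpowers (f z)) := by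
    intro x hx
    exact hmemC x (hZS hx) (hcen x hx (f z) hyS).symm
  have hyC : f z ∈ centralizerIn S (Subgroup.zpowers (f z)) := hmemC _ hyS rfl
  -- g maps P ∩ C into P
  have hgP : ∀ a ∈ P, a ∈ centralizerIn S (Subgroup.zpowers (f z)) → g a ∈ P := by
    intro a haP haC
    exact (stronglyClosed_iff.1 hP).2 (centralizerIn S (Subgroup.zpowers (f z)) ⊓ P) g inf_le_right
      (hgC.restrict inf_le_left) a ⟨haC, haP⟩
  have hkey : ∀ z₁ ∈ ⁅P, P⁆, z₁ ≠ 1 → g z₁ ∉ ⁅P, P⁆ := by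
    intro z₁ hz₁ hz₁1 hgz
    have h1 : g (f (g z₁)) = g z₁ := hginv _ hgz
    obtain ⟨k, hk⟩ := exists_zpow_of_card_prime hcard hz hz1 hgz
    have hfg : f (g z₁) ∈ centralizerIn S (Subgroup.zpowers (f z)) := by
      rw [hk, mor_map_zpow hf hz]
      exact (centralizerIn S _).zpow_mem hyC k
    have h2 : f (g z₁) = z₁ := hgC.injOn hfg (hZC z₁ hz₁) h1
    rw [hk, mor_map_zpow hf hz] at h2
    have hne : f z ^ k ≠ 1 := by rw [h2]; exact hz₁1
    obtain ⟨e, he⟩ := exists_zpow_eq_of_prime hyp hne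
    apply hy
    rw [← he, h2]
    exact Subgroup.zpow_mem _ hz₁ e
  refine ⟨⟨g, hgC, hginv z hz, hkey⟩, ?_, ?_⟩
  · intro a ha c hc hay hcy
    by_contra hac
    have haC := hmemC a (hPS ha) hay
    have hcC := hmemC c (hPS hc) hcy
    have hz₁ : a * c * a⁻¹ * c⁻¹ ∈ ⁅P, P⁆ := Subgroup.commutator_mem_commutator ha hc
    have hz₁1 : a * c * a⁻¹ * c⁻¹ ≠ 1 := by
      intro h
      apply hac
      have h' : ⁅a, c⁆ = 1 := h
      rw [commutatorElement_eq_one_iff_mul_comm] at h'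
      exact h'
    apply hkey _ hz₁ hz₁1
    rw [hgC.map_mul (mul_mem (mul_mem haC hcC) (inv_mem haC)) (inv_mem hcC),
      hgC.map_mul (mul_mem haC hcC) (inv_mem haC), hgC.map_mul haC hcC, hgC.map_inv haC,
      hgC.map_inv hcC]
    exact Subgroup.commutator_mem_commutator (hgP a ha haC) (hgP c hc hcC)
  · intro a ha hay
    by_contra hap
    have haC := hmemC a (hPS ha) hay
    apply hkey _ (hpow a ha) hap
    rw [mor_map_pow hgC haC]
    exact hpow _ (hgP a ha haC)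

/-- The final contradiction: `p` odd and every element of `P` outside the centralizer of `f z` has
order `p ^ 2`. -/
theorem genExtra_final [Finite S] {p : ℕ} [hp : Fact p.Prime] (hp2 : p ≠ 2) (hS : IsPGroup p S)
    {F : FusionSystem S} (hF : F.IsSaturated p) {P : Subgroup Ω} (hP : F.StronglyClosed P)
    (hcard : Nat.card (⁅P, P⁆ : Subgroup Ω) = p) (hpow : ∀ g ∈ P, g ^ p ∈ ⁅P, P⁆)
    {f : Ω → Ω} (hf : Mor F ⁅P, P⁆ f) {z : Ω} (hz : z ∈ ⁅P, P⁆) (hz1 : z ≠ 1) (hy : f z ∉ ⁅P, P⁆)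
    (hex : ∀ b ∈ P, b * f z ≠ f z * b → b ^ p ≠ 1) {b₀ : Ω} (hb₀P : b₀ ∈ P)
    (hb₀ : b₀ * f z ≠ f z * b₀) : False := by
  have hpp : p.Prime := hp.out
  have hPS : P ≤ S := hP.1
  have hZP : ⁅P, P⁆ ≤ P := commutator_self_le P
  have hZS : ⁅P, P⁆ ≤ S := hZP.trans hPS
  have hcen := commutator_central hS hP hcard
  obtain ⟨⟨g, hgC, hgy, hgkey⟩, hab, hexp⟩ := genExtra_key hS hF hP hcard hpow hf hz hz1 hy
  have hyP' : f z ∈ P := (stronglyClosed_iff.1 hP).2 _ f hZP hf z hz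
  obtain ⟨y, hydef⟩ : ∃ y, y = f z := ⟨_, rfl⟩
  rw [← hydef] at hgC hgy hab hexp hex hb₀ hyP'
  have hyP : y ∈ P := hyP'
  have hyS : y ∈ S := hPS hyP
  have hzp : z ^ p = 1 := pow_eq_one_of_card_prime hcard hz
  -- the subgroup `M = C_P(y)`
  obtain ⟨M, hmemM⟩ : ∃ M : Subgroup Ω, ∀ m, m ∈ M ↔ m ∈ P ∧ m * y = y * m := by
    refine ⟨P ⊓ Subgroup.centralizer ({y} : Set Ω), fun m => ?_⟩
    constructor
    · rintro ⟨h1, h2⟩
      exact ⟨h1, (Subgroup.mem_centralizer_iff.1 h2 y (Set.mem_singleton y)).symm⟩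
    · rintro ⟨h1, h2⟩
      refine ⟨h1, ?_⟩
      show m ∈ Subgroup.centralizer ({y} : Set Ω)
      rw [Subgroup.mem_centralizer_iff]
      intro u hu
      rw [Set.mem_singleton_iff] at hu
      rw [hu]; exact h2.symm
  have hMP : M ≤ P := fun m hm => ((hmemM m).1 hm).1
  have hMS : M ≤ S := hMP.trans hPS
  have hMcomm : ∀ a ∈ M, ∀ c ∈ M, a * c = c * a := fun a ha c hc =>
    hab a ((hmemM a).1 ha).1 c ((hmemM c).1 hc).1 ((hmemM a).1 ha).2 ((hmemM c).1 hc).2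
  have hMexp : ∀ a ∈ M, a ^ p = 1 := fun a ha => hexp a ((hmemM a).1 ha).1 ((hmemM a).1 ha).2
  have hMof : ∀ a ∈ P, a ^ p = 1 → a ∈ M := by
    intro a ha hap
    rw [hmemM]
    refine ⟨ha, ?_⟩
    by_contra h
    exact hex a ha h hap
  have hyM : y ∈ M := (hmemM y).2 ⟨hyP, rfl⟩
  have hZM : ⁅P, P⁆ ≤ M := fun x hx => (hmemM x).2 ⟨hZP hx, (hcen x hx y hyS).symm⟩
  have hzM : z ∈ M := hZM hz
  have hfinM : Finite M := finite_of_le hMS
  -- `M` is normal in `S`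
  have hMnorm : ∀ s ∈ S, ∀ m ∈ M, s * m * s⁻¹ ∈ M := by
    intro s hs m hm
    apply hMof _ (stronglyClosed_conj_mem hP hs (hMP hm))
    rw [conj_pow, hMexp m hm]; simp
  have hnormalizer : ∀ s ∈ S, s ∈ Subgroup.normalizer (M : Set Ω) := by
    intro s hs
    refine mem_normalizer_of_forall_conj_mem (hMnorm s hs) (fun m hm => ?_)
    have := hMnorm s⁻¹ (S.inv_mem hs) m hm
    rwa [inv_inv] at this
  -- `M` is receptive
  have hMfn : F.IsFullyNormalized M := by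
    refine ⟨hMS, fun Q _ => ?_⟩
    have hN : normalizerIn S M = S := le_antisymm inf_le_left (fun s hs => ⟨hs, hnormalizer s hs⟩)
    rw [hN]
    exact Subgroup.card_le_of_le (inf_le_left : normalizerIn S Q ≤ S)
  have hMrec : F.IsReceptive M :=
    saturated_receptive_of_fullyCentralized hS hF (saturated_fullyNormalized hS hF hMfn).1
  -- the map `g` on `M`
  have hMC : M ≤ centralizerIn S (Subgroup.zpowers y) := by
    intro m hm
    refine ⟨hMS hm, ?_⟩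
    show m ∈ Subgroup.centralizer ((Subgroup.zpowers y : Subgroup Ω) : Set Ω)
    rw [Subgroup.mem_centralizer_iff]
    intro u hu
    obtain ⟨k, rfl⟩ := Subgroup.mem_zpowers_iff.1 hu
    exact ((show Commute m y from ((hmemM m).1 hm).2).zpow_right k).eq.symm
  have hgM : Mor F M g := hgC.restrict hMC
  have hgMP : ∀ m ∈ M, g m ∈ P := fun m hm => (stronglyClosed_iff.1 hP).2 M g hMP hgM m hm
  have hgMM : ∀ m ∈ M, g m ∈ M := by
    intro m hm
    apply hMof _ (hgMP m hm)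
    rw [← mor_map_pow hgM hm, hMexp m hm, hgM.map_one]
  have himgM : imgS M g = M := imgS_eq_of_maps hgM hgMM
  obtain ⟨β, hβA, hβ⟩ : ∃ β : MulAut M, β ∈ F.autGroup M ∧ ∀ x : M, ((β x : M) : Ω) = g x :=
    ⟨mkAut hgM himgM, mkAut_mem hgM himgM, fun x => mkAut_apply hgM himgM x⟩
  -- `b₀` does not commute with `g z`
  have hgzZ : g z ∉ ⁅P, P⁆ := hgkey z hz hz1
  have hgZ : Mor F ⁅P, P⁆ g := hgM.restrict hZM
  obtain ⟨-, -, hexp'⟩ := genExtra_key hS hF hP hcard hpow hgZ hz hz1 hgzZ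
  have hb₀gz : b₀ * g z ≠ g z * b₀ := by
    intro h
    exact hex b₀ hb₀P hb₀ (hexp' b₀ hb₀P h)
  -- elements of `M`
  obtain ⟨zM, hzMval⟩ : ∃ zM : M, (zM : Ω) = z := ⟨⟨z, hzM⟩, rfl⟩
  obtain ⟨yM, hyMval⟩ : ∃ yM : M, (yM : Ω) = y := ⟨⟨y, hyM⟩, rfl⟩
  have hβy : β yM = zM := Subtype.ext (by rw [hβ, hyMval, hzMval]; exact hgy)
  have hyMp : yM ^ p = 1 := Subtype.ext (by rw [Subgroup.coe_pow, hyMval, Subgroup.coe_one]; exact hMexp y hyM)
  have hzMp : zM ^ p = 1 := Subtype.ext (by rw [Subgroup.coe_pow, hzMval, Subgroup.coe_one]; exact hzp)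
  have hzM1 : zM ≠ 1 := fun e => hz1 (by rw [← hzMval, e]; rfl)
  -- conjugation automorphisms of `M` by elements of `P`
  have hconjP : ∀ b ∈ P, ∃ τ : MulAut M, τ ∈ F.autGroup M ∧
      (∀ x : M, ((τ x : M) : Ω) = b * x * b⁻¹) ∧ τ zM = zM ∧ ∀ x : M, ∃ i : ℤ, τ x = x * zM ^ i := by
    intro b hb
    have hbS := hPS hb
    obtain ⟨τ, hτ⟩ := exists_conjAut (hnormalizer b hbS)
    refine ⟨τ, autInducedBy_le_autGroup F hMS ((mem_autInducedBy_iff S M τ).2 ⟨b, hbS, hτ⟩), hτ, ?_, ?_⟩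
    · apply Subtype.ext
      rw [hτ, hzMval, hcen z hz b hbS]; simp
    · intro x
      have hc : b * (x : Ω) * b⁻¹ * (x : Ω)⁻¹ ∈ ⁅P, P⁆ :=
        Subgroup.commutator_mem_commutator hb (hMP x.2)
      obtain ⟨i, hi⟩ := exists_zpow_of_card_prime hcard hz hz1 hc
      refine ⟨i, Subtype.ext ?_⟩
      rw [hτ, Subgroup.coe_mul, Subgroup.coe_zpow, hzMval]
      have h1 : b * (x : Ω) * b⁻¹ = z ^ i * x := by rw [← hi]; group
      rw [h1]
      exact hMcomm _ (M.zpow_mem hzM i) _ x.2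
  obtain ⟨τ₀, hτ₀A, hτ₀, hτ₀z, hτ₀form⟩ := hconjP b₀ hb₀P
  obtain ⟨τ₂, hτ₂def⟩ : ∃ τ₂ : MulAut M, τ₂ = β⁻¹ * τ₀ * β := ⟨_, rfl⟩
  have hτ₂A : τ₂ ∈ F.autGroup M := by
    rw [hτ₂def]; exact mul_mem (mul_mem (inv_mem hβA) hτ₀A) hβA
  have hτ₂app : ∀ x : M, τ₂ x = β⁻¹ (τ₀ (β x)) := fun x => by rw [hτ₂def]; rfl
  have hβinvz : β⁻¹ zM = yM := by
    rw [← hβy]; simp
  have hτ₂form : ∀ x : M, ∃ l : ℤ, τ₂ x = x * yM ^ l := by
    intro x
    obtain ⟨i, hi⟩ := hτ₀form (β x)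
    refine ⟨i, ?_⟩
    rw [hτ₂app, hi, map_mul, map_zpow, hβinvz]; simp
  have hτ₂y : τ₂ yM = yM := by
    rw [hτ₂app, hβy, hτ₀z, hβinvz]
  obtain ⟨c, hc⟩ := hτ₂form zM
  have hyc : yM ^ c ≠ 1 := by
    intro h
    rw [h, mul_one, hτ₂app] at hc
    have h1 : τ₀ (β zM) = β zM := by
      have h2 := congrArg β hc
      simpa using h2
    have h3 := congrArg Subtype.val h1
    rw [hτ₀, hβ, hzMval] at h3
    apply hb₀gz
    calc b₀ * g z = b₀ * g z * b₀⁻¹ * b₀ := by group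
      _ = g z * b₀ := by rw [h3]
  -- the element `y₁`
  obtain ⟨y₁, hy₁def⟩ : ∃ y₁ : M, y₁ = yM ^ (-c) := ⟨_, rfl⟩
  have hy₁inv : y₁⁻¹ = yM ^ c := by rw [hy₁def, zpow_neg, inv_inv]
  have hy₁ne : y₁ ≠ 1 := by
    intro h
    apply hyc
    rw [← hy₁inv, h, inv_one]
  obtain ⟨e, he⟩ : ∃ e : ℤ, y₁ ^ e = yM := by
    rw [hy₁def]
    exact exists_zpow_eq_of_prime hyMp (by rw [← hy₁def]; exact hy₁ne)
  have hσz : τ₂ zM = zM * y₁⁻¹ := by rw [hc, hy₁inv]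
  have hσy : τ₂ y₁ = y₁ := by rw [hy₁def, map_zpow, hτ₂y]
  have hσform : ∀ x : M, ∃ l : ℤ, τ₂ x = x * y₁ ^ l := by
    intro x
    obtain ⟨l, hl⟩ := hτ₂form x
    exact ⟨e * l, by rw [hl, zpow_mul, he]⟩
  -- the action of `b₀` on `y₁`
  obtain ⟨i₁, hi₁⟩ := hτ₀form y₁
  have hzi₁ : zM ^ i₁ ≠ 1 := by
    intro h
    rw [h, mul_one] at hi₁
    have h1 : τ₀ yM = yM := by rw [← he, map_zpow, hi₁]
    have h2 := congrArg Subtype.val h1
    rw [hτ₀, hyMval] at h2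
    apply hb₀
    calc b₀ * y = b₀ * y * b₀⁻¹ * b₀ := by group
      _ = y * b₀ := by rw [h2]
  obtain ⟨a, ha⟩ := exists_zpow_eq_of_prime hzMp hzi₁
  -- the element `b = b₀ ^ a`
  obtain ⟨b, hbdef⟩ : ∃ b, b = b₀ ^ a := ⟨_, rfl⟩
  have hbP : b ∈ P := by rw [hbdef]; exact P.zpow_mem hb₀P a
  have hbS : b ∈ S := hPS hbP
  obtain ⟨τ, hτA, hτ, hτz, hτform⟩ := hconjP b hbP
  have hby₁ : b * (y₁ : Ω) * b⁻¹ = (y₁ : Ω) * z := by
    have h1 : b₀ * (y₁ : Ω) * b₀⁻¹ = (y₁ : Ω) * z ^ i₁ := by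
      have := congrArg Subtype.val hi₁
      rw [hτ₀, Subgroup.coe_mul, Subgroup.coe_zpow, hzMval] at this
      exact this
    have h2 : b₀ * z ^ i₁ * b₀⁻¹ = z ^ i₁ := by
      rw [hcen _ (Subgroup.zpow_mem _ hz i₁) b₀ (hPS hb₀P)]; simp
    have h3 := conj_zpow_eq b₀ (y₁ : Ω) (z ^ i₁) h1 h2 a
    have h4 := congrArg Subtype.val ha
    rw [Subgroup.coe_zpow, Subgroup.coe_zpow, hzMval] at h4
    rw [hbdef, h3, h4]
  have hτy : τ y₁ = y₁ * zM := by
    apply Subtype.ext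
    rw [hτ, Subgroup.coe_mul, hzMval, hby₁]
  -- the element `ε`
  have hMcomm' : ∀ u v : M, u * v = v * u := fun u v => Subtype.ext (hMcomm u u.2 v v.2)
  obtain ⟨hεz, hεy, hετ⟩ := sl2_element hMcomm' τ τ₂ zM y₁ hτz hτy hσy hσz hτform hσform
  obtain ⟨ε, hεdef⟩ : ∃ ε : MulAut M, ε = (τ * τ₂ * τ) * (τ * τ₂ * τ) := ⟨_, rfl⟩
  rw [← hεdef] at hεz hεy hετ
  have hεA : ε ∈ F.autGroup M := by
    rw [hεdef]
    exact mul_mem (mul_mem (mul_mem hτA hτ₂A) hτA) (mul_mem (mul_mem hτA hτ₂A) hτA)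
  -- extension of `ε`
  have hεM : Mor F M (autFun M ε) := (Cfsg.Agent.H86.mem_autGroup_iff hMS ε).1 hεA
  have hεimg : imgS M (autFun M ε) = M := imgS_autFun hεM
  obtain ⟨f', hf', hf'M⟩ := receptive_extend' hMrec hεM hεimg
  have hbN : b ∈ extSub S M (autFun M ε) := by
    rw [mem_extSub_iff hεM]
    refine ⟨hbS, hnormalizer b hbS, b, hbS, fun x hx => ?_⟩
    have h1 : b * x * b⁻¹ = ((τ ⟨x, hx⟩ : M) : Ω) := (hτ ⟨x, hx⟩).symm
    rw [h1, autFun_apply, autFun_of_mem ε hx, ← hτ (ε ⟨x, hx⟩)]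
    have h2 : ε (τ ⟨x, hx⟩) = τ (ε ⟨x, hx⟩) := congrArg (fun φ : MulAut M => φ ⟨x, hx⟩) hετ
    rw [h2]
  have hMN : M ≤ extSub S M (autFun M ε) := le_extSub hεM
  have hf'val : ∀ x : M, f' x = ((ε x : M) : Ω) := fun x => by rw [hf'M x x.2, autFun_apply]
  have hf'bP : f' b ∈ P :=
    (stronglyClosed_iff.1 hP).2 (extSub S M (autFun M ε) ⊓ P) f' inf_le_right
      (hf'.restrict inf_le_left) b ⟨hbN, hbP⟩
  have hf'bS : f' b ∈ S := hPS hf'bP
  -- the action of elements of `P` on `y₁`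
  have hPform : ∀ u ∈ P, ∃ k : ℤ, u * (y₁ : Ω) * u⁻¹ = (y₁ : Ω) * z ^ k := by
    intro u hu
    obtain ⟨τu, -, hτu, -, hτuform⟩ := hconjP u hu
    obtain ⟨k, hk⟩ := hτuform y₁
    refine ⟨k, ?_⟩
    have := congrArg Subtype.val hk
    rw [hτu, Subgroup.coe_mul, Subgroup.coe_zpow, hzMval] at this
    exact this
  obtain ⟨k, hk⟩ := hPform (f' b) hf'bP
  have hbz : b * z * b⁻¹ = z := by rw [hcen z hz b hbS]; simp
  have hbk : b ^ (-k) * (y₁ : Ω) * (b ^ (-k))⁻¹ = (y₁ : Ω) * z ^ (-k) :=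
    conj_zpow_eq b (y₁ : Ω) z hby₁ hbz (-k)
  have hyy₁ : y = (y₁ : Ω) ^ e := by
    have := congrArg Subtype.val he
    rw [Subgroup.coe_zpow, hyMval] at this
    exact this.symm
  have hmM : f' b * b ^ (-k) ∈ M := by
    rw [hmemM]
    refine ⟨P.mul_mem hf'bP (P.zpow_mem hbP _), ?_⟩
    have hzc : f' b * z ^ (-k) * (f' b)⁻¹ = z ^ (-k) := by
      rw [hcen _ (Subgroup.zpow_mem _ hz (-k)) (f' b) hf'bS]; simp
    have h1 : (f' b * b ^ (-k)) * (y₁ : Ω) * (f' b * b ^ (-k))⁻¹ = (y₁ : Ω) := by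
      calc (f' b * b ^ (-k)) * (y₁ : Ω) * (f' b * b ^ (-k))⁻¹
          = f' b * (b ^ (-k) * (y₁ : Ω) * (b ^ (-k))⁻¹) * (f' b)⁻¹ := by group
        _ = f' b * ((y₁ : Ω) * z ^ (-k)) * (f' b)⁻¹ := by rw [hbk]
        _ = (f' b * (y₁ : Ω) * (f' b)⁻¹) * (f' b * z ^ (-k) * (f' b)⁻¹) := by group
        _ = ((y₁ : Ω) * z ^ k) * z ^ (-k) := by rw [hk, hzc]
        _ = (y₁ : Ω) := by rw [mul_assoc, ← zpow_add]; simp
    have h2 : Commute (f' b * b ^ (-k)) (y₁ : Ω) := by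
      show _ * _ = _ * _
      calc (f' b * b ^ (-k)) * (y₁ : Ω)
          = ((f' b * b ^ (-k)) * (y₁ : Ω) * (f' b * b ^ (-k))⁻¹) * (f' b * b ^ (-k)) := by group
        _ = (y₁ : Ω) * (f' b * b ^ (-k)) := by rw [h1]
    rw [hyy₁]
    exact (h2.zpow_right e).eq
  obtain ⟨m, hmdef⟩ : ∃ m, m = f' b * b ^ (-k) := ⟨_, rfl⟩
  rw [← hmdef] at hmM
  have hf'b : f' b = m * b ^ k := by rw [hmdef]; group
  have hy₁N : (y₁ : Ω) ∈ extSub S M (autFun M ε) := hMN y₁.2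
  -- first congruence
  have hC1 : (p : ℤ) ∣ k - 1 := by
    have h1 : f' (b * (y₁ : Ω) * b⁻¹) = f' b * f' (y₁ : Ω) * (f' b)⁻¹ := by
      rw [hf'.map_mul (mul_mem hbN hy₁N) (inv_mem hbN), hf'.map_mul hbN hy₁N, hf'.map_inv hbN]
    have h2 : f' (b * (y₁ : Ω) * b⁻¹) = (y₁ : Ω)⁻¹ * z⁻¹ := by
      rw [hby₁]
      have : (y₁ : Ω) * z = ((y₁ * zM : M) : Ω) := by rw [Subgroup.coe_mul, hzMval]
      rw [this, hf'val, map_mul, hεy, hεz, Subgroup.coe_mul, Subgroup.coe_inv, Subgroup.coe_inv,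
        hzMval]
    have h3 : f' (y₁ : Ω) = (y₁ : Ω)⁻¹ := by rw [hf'val, hεy, Subgroup.coe_inv]
    have h4 : f' b * f' (y₁ : Ω) * (f' b)⁻¹ = (y₁ : Ω)⁻¹ * z ^ (-k) := by
      rw [h3]
      calc f' b * (y₁ : Ω)⁻¹ * (f' b)⁻¹ = (f' b * (y₁ : Ω) * (f' b)⁻¹)⁻¹ := by group
        _ = ((y₁ : Ω) * z ^ k)⁻¹ := by rw [hk]
        _ = (z ^ k)⁻¹ * (y₁ : Ω)⁻¹ := by rw [mul_inv_rev]
        _ = (y₁ : Ω)⁻¹ * z ^ (-k) := by
          rw [zpow_neg]
          exact hMcomm _ (M.inv_mem (M.zpow_mem hzM k)) _ (M.inv_mem y₁.2)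
    rw [h2, h4] at h1
    have h5 : z⁻¹ = z ^ (-k) := mul_left_cancel h1
    have h6 : z ^ (k - 1) = 1 := by
      rw [zpow_sub_one, h5, ← zpow_add]; simp
    exact dvd_of_zpow_eq_one_of_prime hzp hz1 h6
  -- second congruence
  have hbnotM : b ∉ M := by
    intro hbM
    have h1 := hMcomm b hbM y₁ y₁.2
    have h2 : b * (y₁ : Ω) * b⁻¹ = (y₁ : Ω) := by rw [h1]; simp
    rw [hby₁] at h2
    exact hz1 (by simpa using h2)
  have hbp : b ^ p ≠ 1 := fun h => hbnotM (hMof b hbP h)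
  have hbpZ : b ^ p ∈ ⁅P, P⁆ := hpow b hbP
  have hC2 : (p : ℤ) ∣ k + 1 := by
    have h1 : f' (b ^ p) = f' b ^ p := mor_map_pow hf' hbN p
    have h2 : f' (b ^ p) = (b ^ p)⁻¹ := by
      obtain ⟨j, hj⟩ := exists_zpow_of_card_prime hcard hz hz1 hbpZ
      have h2a : z ^ j = ((zM ^ j : M) : Ω) := by rw [Subgroup.coe_zpow, hzMval]
      rw [hj, h2a, hf'val, map_zpow, hεz, Subgroup.coe_zpow, Subgroup.coe_zpow, Subgroup.coe_inv,
        hzMval, inv_zpow]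
    have h3 : f' b ^ p = (b ^ p) ^ k := by
      rw [hf'b]
      have hcZ : b ^ k * m * (b ^ k)⁻¹ * m⁻¹ ∈ ⁅P, P⁆ :=
        Subgroup.commutator_mem_commutator (P.zpow_mem hbP k) (hMP hmM)
      have hcm : Commute (b ^ k * m * (b ^ k)⁻¹ * m⁻¹) m := (hcen _ hcZ m (hMS hmM)).symm
      have hcb : Commute (b ^ k * m * (b ^ k)⁻¹ * m⁻¹) (b ^ k) :=
        (hcen _ hcZ (b ^ k) (S.zpow_mem hbS k)).symm
      have hrel : b ^ k * m = (b ^ k * m * (b ^ k)⁻¹ * m⁻¹) * m * b ^ k := by group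
      rw [mul_pow_of_comm m (b ^ k) _ hrel hcm hcb p, hMexp m hmM, one_mul]
      have hch : (b ^ k * m * (b ^ k)⁻¹ * m⁻¹) ^ (p.choose 2) = 1 := by
        obtain ⟨q, hq⟩ : p ∣ p.choose 2 :=
          hpp.dvd_choose_self (by norm_num) (lt_of_le_of_ne hpp.two_le (Ne.symm hp2))
        rw [hq, pow_mul, pow_eq_one_of_card_prime hcard hcZ, one_pow]
      rw [hch, mul_one, ← zpow_natCast (b ^ k) p, ← zpow_mul, mul_comm, zpow_mul, zpow_natCast]
    rw [h2, h3] at h1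
    have h4 : (b ^ p) ^ (k + 1) = 1 := by rw [zpow_add_one, ← h1]; simp
    exact dvd_of_zpow_eq_one_of_prime (pow_eq_one_of_card_prime hcard hbpZ) hbp h4
  have h2 : (p : ℤ) ∣ 2 := by
    have := Int.dvd_sub hC2 hC1
    simpa using this
  have h2' : p ∣ 2 := by exact_mod_cast h2
  exact hp2 ((Nat.prime_dvd_prime_iff_eq hpp Nat.prime_two).1 h2')

/-- The commutator subgroup of a strongly closed generalized extraspecial subgroup is weakly closed,
unless the subgroup is `D₈ × A` or `p^{1+2}_+ × A`. -/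
theorem genExtra_weaklyClosed [Finite S] {p : ℕ} [Fact p.Prime] (hS : IsPGroup p S)
    {F : FusionSystem S} (hF : F.IsSaturated p) {P : Subgroup Ω} (hP : F.StronglyClosed P)
    (hcardP : Nat.card (commutator ↥P) = p) (hpowP : ∀ g : ↥P, g ^ p ∈ commutator ↥P)
    (h2 : p = 2 → ¬ ∃ (A : Type) (_ : CommGroup A), (∀ a : A, a ^ 2 = 1) ∧
      Nonempty (↥P ≃* DihedralGroup 4 × A))
    (hodd : p ≠ 2 → ¬ ∃ (E : Type) (_ : Group E) (A : Type) (_ : CommGroup A),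
      Cfsg.IsExtraspecial p E ∧ Nat.card E = p ^ 3 ∧ Monoid.exponent E = p ∧ (∀ a : A, a ^ p = 1) ∧
      Nonempty (↥P ≃* E × A)) :
    F.WeaklyClosed ⁅P, P⁆ := by
  have hPS : P ≤ S := hP.1
  have hfinP : Finite P := finite_of_le hPS
  have hZP : ⁅P, P⁆ ≤ P := commutator_self_le P
  have hZS : ⁅P, P⁆ ≤ S := hZP.trans hPS
  have hcard : Nat.card (⁅P, P⁆ : Subgroup Ω) = p := by rw [card_commutator_subtype, hcardP]
  have hpow : ∀ g ∈ P, g ^ p ∈ ⁅P, P⁆ := by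
    intro g hg
    have := hpowP ⟨g, hg⟩
    rw [mem_commutator_subtype_iff] at this
    simpa using this
  have hfinZ : Finite (⁅P, P⁆ : Subgroup Ω) := finite_of_le hZS
  rw [weaklyClosed_iff]
  refine ⟨hZS, fun f hf => ?_⟩
  by_contra hne
  obtain ⟨z, hz, hz1⟩ : ∃ z ∈ (⁅P, P⁆ : Subgroup Ω), z ≠ 1 := by
    by_contra hcon
    push Not at hcon
    have : (⁅P, P⁆ : Subgroup Ω) = ⊥ := by
      rw [eq_bot_iff]; intro x hx; rw [Subgroup.mem_bot]; exact hcon x hx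
    rw [this, Subgroup.card_bot] at hcard
    exact (Fact.out : p.Prime).one_lt.ne hcard
  have hy : f z ∉ ⁅P, P⁆ := by
    intro hfz
    apply hne
    apply imgS_eq_of_maps hf
    intro x hx
    obtain ⟨k, rfl⟩ := exists_zpow_of_card_prime hcard hz hz1 hx
    rw [mor_map_zpow hf hz]
    exact Subgroup.zpow_mem _ hfz k
  obtain ⟨-, hab, hexp⟩ := genExtra_key hS hF hP hcard hpow hf hz hz1 hy
  have hyP : f z ∈ P := (stronglyClosed_iff.1 hP).2 _ f hZP hf z hz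
  obtain ⟨b₀, hb₀P, hb₀⟩ : ∃ b₀ ∈ P, b₀ * f z ≠ f z * b₀ := by
    by_contra hcon
    push Not at hcon
    have hab' : ∀ a ∈ P, ∀ c ∈ P, a * c = c * a :=
      fun a ha c hc => hab a ha c hc (hcon a ha) (hcon c hc)
    have : (⁅P, P⁆ : Subgroup Ω) = ⊥ := by
      rw [Subgroup.commutator_eq_bot_iff_le_centralizer]
      intro a ha
      show a ∈ Subgroup.centralizer (P : Set Ω)
      rw [Subgroup.mem_centralizer_iff]
      intro c hc
      exact hab' c hc a ha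
    rw [this, Subgroup.mem_bot] at hz
    exact hz1 hz
  have habP : ∀ a c : ↥P, a * (⟨f z, hyP⟩ : ↥P) = ⟨f z, hyP⟩ * a →
      c * (⟨f z, hyP⟩ : ↥P) = ⟨f z, hyP⟩ * c → a * c = c * a := by
    intro a c ha hc
    exact Subtype.ext (hab a a.2 c c.2 (congrArg Subtype.val ha) (congrArg Subtype.val hc))
  have hexpP : ∀ a : ↥P, a * (⟨f z, hyP⟩ : ↥P) = ⟨f z, hyP⟩ * a → a ^ p = 1 := by
    intro a ha
    exact Subtype.ext (by rw [Subgroup.coe_pow]; exact hexp a a.2 (congrArg Subtype.val ha))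
  by_cases hp2 : p = 2
  · subst hp2
    exact h2 rfl (genExtra_two hcardP hpowP ⟨f z, hyP⟩ ⟨b₀, hb₀P⟩ habP hexpP
      (fun h => hb₀ (congrArg Subtype.val h)))
  · by_cases hex : ∃ b ∈ P, b * f z ≠ f z * b ∧ b ^ p = 1
    · obtain ⟨b, hbP, hb, hbp⟩ := hex
      exact hodd hp2 (genExtra_odd hp2 hcardP hpowP ⟨f z, hyP⟩ ⟨b, hbP⟩ habP hexpP
        (fun h => hb (congrArg Subtype.val h)) (Subtype.ext (by rw [Subgroup.coe_pow]; exact hbp)))
    · push Not at hex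
      exact genExtra_final hp2 hS hF hP hcard hpow hf hz hz1 hy hex hb₀P hb₀

/-- A strongly closed generalized extraspecial subgroup of a saturated fusion system is normal,
unless it is `D₈ × A` or `p^{1+2}_+ × A`. -/
theorem genExtra_isNormal [Finite S] {p : ℕ} [Fact p.Prime] (hS : IsPGroup p S)
    {F : FusionSystem S} (hF : F.IsSaturated p) {P : Subgroup Ω} (hP : F.StronglyClosed P)
    (hcardP : Nat.card (commutator ↥P) = p) (hpowP : ∀ g : ↥P, g ^ p ∈ commutator ↥P)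
    (h2 : p = 2 → ¬ ∃ (A : Type) (_ : CommGroup A), (∀ a : A, a ^ 2 = 1) ∧
      Nonempty (↥P ≃* DihedralGroup 4 × A))
    (hodd : p ≠ 2 → ¬ ∃ (E : Type) (_ : Group E) (A : Type) (_ : CommGroup A),
      Cfsg.IsExtraspecial p E ∧ Nat.card E = p ^ 3 ∧ Monoid.exponent E = p ∧ (∀ a : A, a ^ p = 1) ∧
      Nonempty (↥P ≃* E × A)) :
    F.IsNormal P := by
  have hwc := genExtra_weaklyClosed hS hF hP hcardP hpowP h2 hodd
  have hPS : P ≤ S := hP.1
  have hZP : ⁅P, P⁆ ≤ P := commutator_self_le P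
  have hcard : Nat.card (⁅P, P⁆ : Subgroup Ω) = p := by rw [card_commutator_subtype, hcardP]
  have hcen := commutator_central hS hP hcard
  rw [isNormal_iff_stronglyClosed hS hF]
  refine ⟨hP, fun U hUc hUr => ?_⟩
  refine le_centric_radical_of_series hS hP
    (fun i => if i = 0 then ⊥ else if i = 1 then ⁅P, P⁆ else P) 2 (by simp) (by simp) ?_ ?_ ?_ hUc hUr
  · intro i hi
    interval_cases i
    · simp
    · simpa using hZP
  · intro i hi
    interval_cases i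
    · simp only [zero_add, one_ne_zero, if_false, if_true]
      rw [Subgroup.commutator_le]
      intro a ha b hb
      rw [Subgroup.mem_bot, commutatorElement_eq_one_iff_mul_comm]
      exact (hcen a ha b (hPS hb)).symm
    · simp
  · intro i hi
    interval_cases i
    · simpa using weaklyClosed_of_stronglyClosed (stronglyClosed_bot F)
    · simpa using hwc

end Cfsg.Agent.H89
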