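import Cfsg.Agent.H89.PStable
import Cfsg.Prelude.Def_LocalEven

set_option autoImplicit false

namespace Cfsg.Agent.H89

open Cfsg Cfsg.FusionSystem
open scoped commutatorElement

section bridge

variable {H G' : Type*} [Group H] [Group G']

/-- The `p`-core of a finite group, read through an injective homomorphism. -/
theorem mem_pCore_iff_of_injective {p : ℕ} [Fact p.Prime] [Finite H] (f : H →* G')
    (hf : Function.Injective f) (x : H) :
    x ∈ pCore p H ↔ f x ∈ (pCore p ↥f.range).map f.range.subtype := by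
  have : Finite f.range := Finite.of_surjective f.rangeRestrict f.rangeRestrict_surjective
  constructor
  · intro hx
    refine mem_pCore_map_of p (N := (pCore p H).map f) ?_ ?_ ((pCore_isPGroup (G := H)).map f)
      ⟨x, hx, rfl⟩
    · rintro _ ⟨y, -, rfl⟩
      exact ⟨y, rfl⟩
    · rintro _ ⟨h, rfl⟩ _ ⟨n, hn, rfl⟩
      have := pCore_normal p H
      exact ⟨h * n * h⁻¹, Subgroup.Normal.conj_mem inferInstance n hn h, by simp⟩
  · intro hx
    obtain ⟨M, -, hnorm, hM, hxM⟩ := exists_of_mem_pCore_map hx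
    have h1 : (M.comap f).Normal := by
      constructor
      intro n hn h
      rw [Subgroup.mem_comap] at hn ⊢
      rw [map_mul, map_mul, map_inv]
      exact hnorm (f h) ⟨h, rfl⟩ (f n) hn
    have h2 : IsPGroup p (M.comap f) := hM.comap_of_injective f hf
    exact (le_sSup (a := M.comap f) ⟨h1, h2⟩ : M.comap f ≤ pCore p H) hxM

theorem mem_pCore_quotient_iff {p : ℕ} [Fact p.Prime] [Finite H] (K : Subgroup H) [K.Normal]
    (c : H →* G') (hK : c.ker = K) (x : H) :
    (QuotientGroup.mk x : H ⧸ K) ∈ pCore p (H ⧸ K) ↔ c x ∈ (pCore p ↥c.range).map c.range.subtype := by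
  let f : H ⧸ K →* G' := QuotientGroup.lift K c (fun y hy => by rw [hK]; exact hy)
  have hf : Function.Injective f := by
    rw [injective_iff_map_eq_one]
    intro a
    induction a using QuotientGroup.induction_on with
    | H y =>
      intro hy
      rw [QuotientGroup.eq_one_iff, ← hK]
      exact hy
  have hr : f.range = c.range := by
    ext y
    constructor
    · rintro ⟨a, rfl⟩
      induction a using QuotientGroup.induction_on with
      | H z => exact ⟨z, rfl⟩
    · rintro ⟨z, rfl⟩
      exact ⟨QuotientGroup.mk z, rfl⟩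
  have h := mem_pCore_iff_of_injective (p := p) f hf (QuotientGroup.mk x)
  rw [hr] at h
  exact h

end bridge

section quadratic

variable {G : Type*} [Group G]

theorem quadratic_of_fix {Q : Type*} [Group Q] {χ : MulAut Q}
    (h : ∀ a : Q, χ (a⁻¹ * χ a) = a⁻¹ * χ a) : Quadratic χ := by
  intro a
  have h1 := h a
  rw [map_mul] at h1
  calc χ a⁻¹ * a * χ a⁻¹ * χ (χ a) = χ a⁻¹ * a * (χ a⁻¹ * χ (χ a)) := by group
    _ = χ a⁻¹ * a * (a⁻¹ * χ a) := by rw [h1]
    _ = 1 := by rw [map_inv]; group

theorem normalizerMonoidHom_coe (Q : Subgroup G) (n : Subgroup.normalizer (Q : Set G)) (x : Q) :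
    ((Q.normalizerMonoidHom n x : Q) : G) = n * x * (n : G)⁻¹ := rfl

/-- For `g` normalizing `Q`: conjugation by `g` is quadratic on `Q` iff `[Q, g, g] = 1`. -/
theorem quadratic_normalizerMonoidHom_iff (Q : Subgroup G) (g : G)
    (hg : g ∈ Subgroup.normalizer (Q : Set G)) :
    Quadratic (Q.normalizerMonoidHom ⟨g, hg⟩) ↔
      ⁅⁅Q, Subgroup.zpowers g⁆, Subgroup.zpowers g⁆ = ⊥ := by
  constructor
  · intro h
    -- for every `a ∈ Q`, `g` commutes with `a⁻¹ g a g⁻¹`
    have key : ∀ a ∈ Q, g * (a⁻¹ * (g * a * g⁻¹)) * g⁻¹ = a⁻¹ * (g * a * g⁻¹) := by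
      intro a ha
      have := congrArg (Subtype.val) (h.fix ⟨a, ha⟩)
      exact this
    rw [Subgroup.commutator_eq_bot_iff_le_centralizer, Subgroup.commutator_le]
    intro q hq k hk
    -- predicate on `k`
    have hpred : ∀ k ∈ Subgroup.zpowers g, Commute k g ∧ ∀ q ∈ Q, Commute ⁅q, k⁆ g := by
      intro k hk
      rw [Subgroup.zpowers_eq_closure] at hk
      induction hk using Subgroup.closure_induction with
      | mem x hx =>
        rw [Set.mem_singleton_iff] at hx
        subst hx
        refine ⟨Commute.refl _, fun q hq => ?_⟩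
        have h1 := key q⁻¹ (Q.inv_mem hq)
        rw [inv_inv] at h1
        show ⁅q, x⁆ * x = x * ⁅q, x⁆
        rw [commutatorElement_def]
        calc q * x * q⁻¹ * x⁻¹ * x = q * (x * q⁻¹ * x⁻¹) * x := by group
          _ = (x * (q * (x * q⁻¹ * x⁻¹)) * x⁻¹) * x := by rw [h1]
          _ = x * (q * x * q⁻¹ * x⁻¹) := by group
      | one =>
        refine ⟨Commute.one_left _, fun q _ => ?_⟩
        rw [commutatorElement_one_right]
        exact Commute.one_left _
      | mul x y _ _ hx hy =>
        refine ⟨hx.1.mul_left hy.1, fun q hq => ?_⟩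
        have e : ⁅q, x * y⁆ = ⁅q, x⁆ * (x * ⁅q, y⁆ * x⁻¹) := by
          simp only [commutatorElement_def]
          group
        rw [e]
        exact (hx.2 q hq).mul_left ((hx.1.mul_left (hy.2 q hq)).mul_left hx.1.inv_left)
      | inv x _ hx =>
        refine ⟨hx.1.inv_left, fun q hq => ?_⟩
        have e : ⁅q, x⁻¹⁆ = x⁻¹ * ⁅q, x⁆⁻¹ * x := by
          simp only [commutatorElement_def]
          group
        rw [e]
        exact (hx.1.inv_left.mul_left (hx.2 q hq).inv_left).mul_left hx.1
    rw [Subgroup.mem_centralizer_iff]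
    intro z hz
    obtain ⟨m, rfl⟩ := Subgroup.mem_zpowers_iff.mp hz
    exact (((hpred k hk).2 q hq).zpow_right m).eq.symm
  · intro h
    apply quadratic_of_fix
    intro a
    apply Subtype.ext
    rw [Subgroup.commutator_eq_bot_iff_le_centralizer] at h
    have h1 : ⁅(a : G)⁻¹, g⁆ ∈ ⁅Q, Subgroup.zpowers g⁆ :=
      Subgroup.commutator_mem_commutator (Q.inv_mem a.2) (Subgroup.mem_zpowers g)
    have h2 := (Subgroup.mem_centralizer_iff.mp (h h1)) g (Subgroup.mem_zpowers g)
    rw [commutatorElement_def] at h2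
    show g * ((a : G)⁻¹ * (g * a * g⁻¹)) * g⁻¹ = (a : G)⁻¹ * (g * a * g⁻¹)
    calc g * ((a : G)⁻¹ * (g * a * g⁻¹)) * g⁻¹ = g * ((a : G)⁻¹ * g * (a : G)⁻¹⁻¹ * g⁻¹) * g⁻¹ := by group
      _ = (a : G)⁻¹ * g * (a : G)⁻¹⁻¹ * g⁻¹ * g * g⁻¹ := by rw [h2]
      _ = (a : G)⁻¹ * (g * a * g⁻¹) := by group

end quadratic

section groupFusion

variable {G : Type*} [Group G]

/-- `Aut_G(Q)`, as the automorphism group of `Q` in the fusion system of `G` on itself. -/
theorem autGroup_top_eq_range (Q : Subgroup G) :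
    (groupFusionSystem (⊤ : Subgroup G)).autGroup Q = Q.normalizerMonoidHom.range := by
  ext α
  rw [mem_autGroup_iff _ le_top]
  constructor
  · rintro ⟨-, -, g, hg⟩
    have hg' : ∀ x : Q, ((α x : Q) : G) = g * x * g⁻¹ := hg
    have hgn : g ∈ Subgroup.normalizer (Q : Set G) := by
      rw [Subgroup.mem_normalizer_iff]
      intro h
      constructor
      · intro hh
        rw [← hg' ⟨h, hh⟩]
        exact (α _).2
      · intro hh
        have h1 := hg' (α.symm ⟨g * h * g⁻¹, hh⟩)
        rw [MulEquiv.apply_symm_apply] at h1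
        have h2 : h = ((α.symm ⟨g * h * g⁻¹, hh⟩ : Q) : G) :=
          mul_left_cancel (mul_right_cancel h1)
        rw [h2]
        exact (α.symm _).2
    refine ⟨⟨g, hgn⟩, ?_⟩
    ext x
    exact (hg' x).symm
  · rintro ⟨n, rfl⟩
    exact ⟨le_top, fun _ => Subgroup.mem_top _, n, fun x => rfl⟩

theorem autGroup_groupFusionSystem_eq (P : Subgroup G) {Q : Subgroup G} (hQ : Q ≤ P) :
    (groupFusionSystem P).autGroup Q = (groupFusionSystem (⊤ : Subgroup G)).autGroup Q := by
  ext α
  rw [mem_autGroup_iff _ le_top, mem_autGroup_iff _ hQ]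
  constructor
  · rintro ⟨-, -, g, hg⟩
    exact ⟨le_top, fun _ => Subgroup.mem_top _, g, hg⟩
  · rintro ⟨-, -, g, hg⟩
    exact ⟨hQ, fun x => hQ (α x).2, g, hg⟩

/-- `p`-stability of `G` in the normalizer form, read through the automorphism groups `Aut_G(Q)`. -/
theorem isNormalizerPStable_iff [Finite G] {p : ℕ} [Fact p.Prime] :
    IsNormalizerPStable p G ↔ ∀ Q : Subgroup G, IsPGroup p Q →
      ∀ χ ∈ (groupFusionSystem (⊤ : Subgroup G)).autGroup Q, Quadratic χ →
        χ ∈ (pCore p ↥((groupFusionSystem (⊤ : Subgroup G)).autGroup Q)).map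
          ((groupFusionSystem (⊤ : Subgroup G)).autGroup Q).subtype := by
  constructor
  · intro h Q hQ χ hχ hq
    rw [autGroup_top_eq_range] at hχ ⊢
    obtain ⟨⟨g, hg⟩, rfl⟩ := hχ
    have h1 := h Q hQ g hg ((quadratic_normalizerMonoidHom_iff Q g hg).1 hq)
    exact (mem_pCore_quotient_iff _ Q.normalizerMonoidHom Q.normalizerMonoidHom_ker ⟨g, hg⟩).1 h1
  · intro h Q hQ g hg hq
    have h1 := h Q hQ (Q.normalizerMonoidHom ⟨g, hg⟩)
      (by rw [autGroup_top_eq_range]; exact ⟨_, rfl⟩)
      ((quadratic_normalizerMonoidHom_iff Q g hg).2 hq)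
    rw [autGroup_top_eq_range] at h1
    exact (mem_pCore_quotient_iff _ Q.normalizerMonoidHom Q.normalizerMonoidHom_ker ⟨g, hg⟩).2 h1

/-- `G` is `p`-stable in the normalizer form iff its fusion system on a Sylow `p`-subgroup is
`p`-stable. -/
theorem isNormalizerPStable_iff_pStable [Finite G] {p : ℕ} [Fact p.Prime] (P : Sylow p G) :
    IsNormalizerPStable p G ↔ PStable p (groupFusionSystem (P : Subgroup G)) := by
  rw [isNormalizerPStable_iff]
  constructor
  · intro h Q hQ χ hχ hq
    rw [autGroup_groupFusionSystem_eq _ hQ.1] at hχ ⊢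
    exact h Q (P.2.to_le hQ.1) χ hχ hq
  · intro h Q hQ χ hχ hq
    obtain ⟨P', hP'⟩ := hQ.exists_le_sylow
    obtain ⟨k, rfl⟩ := MulAction.exists_smul_eq G P' P
    have hφ : conjHom Q k ∈ (groupFusionSystem (⊤ : Subgroup G)).Hom Q :=
      (groupFusionSystem (⊤ : Subgroup G)).conj_mem le_top (Subgroup.mem_top k)
    have hR : (conjHom Q k).range ≤ ((k • P' : Sylow p G) : Subgroup G) := by
      rintro _ ⟨x, rfl⟩
      rw [Sylow.coe_subgroup_smul]
      have := Subgroup.smul_mem_pointwise_smul (x : G) (MulAut.conj k) (P' : Subgroup G) (hP' x.2)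
      exact this
    have : Finite Q := inferInstance
    have : Finite (conjHom Q k).range := inferInstance
    have h1 := (autGroup_transport _ hφ χ).1 hχ
    rw [← autGroup_groupFusionSystem_eq _ hR] at h1
    have h2 := PStable.all (S := ((k • P' : Sylow p G) : Subgroup G)) h hR h1
      (quadratic_transport _ hq)
    have h3 := mem_pCore_map_equiv (p := p) (MulAut.congr (homEquiv _ hφ)).symm
      (A := (groupFusionSystem ((k • P' : Sylow p G) : Subgroup G)).autGroup (conjHom Q k).range)
      (B := (groupFusionSystem (⊤ : Subgroup G)).autGroup Q) (fun a => by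
        rw [autGroup_groupFusionSystem_eq _ hR, autGroup_transport _ hφ,
          MulEquiv.apply_symm_apply]) h2
    rwa [MulEquiv.symm_apply_apply] at h3

end groupFusion

end Cfsg.Agent.H89
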