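import Mathlib

set_option autoImplicit false

/-!
Finite `p`-groups with an abelian subgroup of index `p`: elementary group theory.
-/

namespace Cfsg.Agent.H89

open scoped commutatorElement

section cyclicQuot

variable {Ω : Type*} [Group Ω]

/-- A normal subgroup `K` of `H` with `H = K⟨b⟩`, `b ∉ K`, `b ^ p ∈ K` has index `p`. -/
theorem index_eq_prime_of_gen {p : ℕ} [hp : Fact p.Prime] {K H : Subgroup Ω}
    (hnorm : ∀ h ∈ H, ∀ k ∈ K, h * k * h⁻¹ ∈ K) {b : Ω} (hb : b ∈ H) (hbK : b ∉ K) (hbp : b ^ p ∈ K)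
    (hgen : ∀ h ∈ H, ∃ k : ℕ, h * (b ^ k)⁻¹ ∈ K) : (K.subgroupOf H).index = p := by
  have hN : (K.subgroupOf H).Normal := by
    constructor
    intro n hn g
    rw [Subgroup.mem_subgroupOf] at hn ⊢
    exact hnorm g g.2 n hn
  have hb1 : (QuotientGroup.mk ⟨b, hb⟩ : ↥H ⧸ K.subgroupOf H) ≠ 1 := by
    rw [Ne, QuotientGroup.eq_one_iff, Subgroup.mem_subgroupOf]
    exact hbK
  have hbp' : (QuotientGroup.mk ⟨b, hb⟩ : ↥H ⧸ K.subgroupOf H) ^ p = 1 := by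
    rw [← QuotientGroup.mk_pow, QuotientGroup.eq_one_iff, Subgroup.mem_subgroupOf]
    exact hbp
  have ho : orderOf (QuotientGroup.mk ⟨b, hb⟩ : ↥H ⧸ K.subgroupOf H) = p := orderOf_eq_prime hbp' hb1
  have hall : ∀ q : ↥H ⧸ K.subgroupOf H,
      q ∈ Subgroup.zpowers (QuotientGroup.mk ⟨b, hb⟩ : ↥H ⧸ K.subgroupOf H) := by
    intro q
    obtain ⟨h, rfl⟩ := QuotientGroup.mk_surjective q
    obtain ⟨k, hk⟩ := hgen h h.2
    refine ⟨(k : ℤ), ?_⟩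
    show (QuotientGroup.mk ⟨b, hb⟩ : ↥H ⧸ K.subgroupOf H) ^ (k : ℤ) = QuotientGroup.mk h
    rw [zpow_natCast, ← QuotientGroup.mk_pow, eq_comm, QuotientGroup.eq, Subgroup.mem_subgroupOf]
    -- `h⁻¹ * b ^ k ∈ K`
    have h1 : ((h⁻¹ * (⟨b, hb⟩ : ↥H) ^ k : ↥H) : Ω) = (h : Ω)⁻¹ * ((h : Ω) * (b ^ k)⁻¹)⁻¹ * ((h : Ω)⁻¹)⁻¹ := by
      push_cast
      group
    rw [h1]
    exact hnorm _ (H.inv_mem h.2) _ (K.inv_mem hk)
  rw [Subgroup.index_eq_card, ← ho]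
  exact (orderOf_eq_card_of_forall_mem_zpowers hall).symm

/-- A normal subgroup `K` of prime index in `H`: `H = K⟨u⟩` for every `u ∈ H ∖ K`. -/
theorem exists_mul_pow_of_index_prime {p : ℕ} [hp : Fact p.Prime] {K H : Subgroup Ω}
    (hnorm : ∀ h ∈ H, ∀ k ∈ K, h * k * h⁻¹ ∈ K) (hidx : (K.subgroupOf H).index = p)
    {u : Ω} (hu : u ∈ H) (huK : u ∉ K) :
    u ^ p ∈ K ∧ ∀ g ∈ H, ∃ k : ℕ, ∃ a ∈ K, g = a * u ^ k := by
  have hN : (K.subgroupOf H).Normal := by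
    constructor
    intro n hn g
    rw [Subgroup.mem_subgroupOf] at hn ⊢
    exact hnorm g g.2 n hn
  have hcard : Nat.card (↥H ⧸ K.subgroupOf H) = p := by
    rw [← Subgroup.index_eq_card]; exact hidx
  have hfin : Finite (↥H ⧸ K.subgroupOf H) := by
    apply Nat.finite_of_card_ne_zero
    rw [hcard]; exact hp.out.ne_zero
  have hu1 : (QuotientGroup.mk ⟨u, hu⟩ : ↥H ⧸ K.subgroupOf H) ≠ 1 := by
    rw [Ne, QuotientGroup.eq_one_iff, Subgroup.mem_subgroupOf]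
    exact huK
  constructor
  · have h1 : (QuotientGroup.mk ⟨u, hu⟩ : ↥H ⧸ K.subgroupOf H) ^ p = 1 := by
      rw [← hcard]; exact pow_card_eq_one'
    rw [← QuotientGroup.mk_pow, QuotientGroup.eq_one_iff, Subgroup.mem_subgroupOf] at h1
    exact h1
  · intro g hg
    have h1 : (QuotientGroup.mk ⟨g, hg⟩ : ↥H ⧸ K.subgroupOf H) ∈
        Subgroup.zpowers (QuotientGroup.mk ⟨u, hu⟩ : ↥H ⧸ K.subgroupOf H) :=
      mem_zpowers_of_prime_card hcard hu1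
    rw [← mem_powers_iff_mem_zpowers] at h1
    obtain ⟨k, hk⟩ := h1
    have hk' : (QuotientGroup.mk ⟨u, hu⟩ : ↥H ⧸ K.subgroupOf H) ^ k = QuotientGroup.mk ⟨g, hg⟩ := hk
    refine ⟨k, g * (u ^ k)⁻¹, ?_, by group⟩
    have h2 : (QuotientGroup.mk (⟨g, hg⟩ * (⟨u, hu⟩ ^ k)⁻¹) : ↥H ⧸ K.subgroupOf H) = 1 := by
      rw [QuotientGroup.mk_mul, QuotientGroup.mk_inv, QuotientGroup.mk_pow]
      show _ * ((QuotientGroup.mk ⟨u, hu⟩ : ↥H ⧸ K.subgroupOf H) ^ k)⁻¹ = 1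
      rw [hk', mul_inv_cancel]
    rw [QuotientGroup.eq_one_iff, Subgroup.mem_subgroupOf] at h2
    exact h2

end cyclicQuot

section abidx

variable {Ω : Type*} [Group Ω]

/-- `A` is an abelian normal subgroup of `S` with `S = A⟨x⟩` and `x ^ p ∈ A` for every `x ∈ S ∖ A`. -/
structure AbIdx (p : ℕ) (S A : Subgroup Ω) : Prop where
  le : A ≤ S
  comm : ∀ a ∈ A, ∀ b ∈ A, a * b = b * a
  norm : ∀ s ∈ S, ∀ a ∈ A, s * a * s⁻¹ ∈ A
  gen : ∀ x ∈ S, x ∉ A → ∀ g ∈ S, ∃ k : ℕ, ∃ a ∈ A, g = a * x ^ k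
  pow : ∀ x ∈ S, x ^ p ∈ A

theorem AbIdx.of_index {p : ℕ} [hp : Fact p.Prime] {S A : Subgroup Ω} [Finite S] (hS : IsPGroup p S)
    (hA : A ≤ S ∧ IsMulCommutative ↥A ∧ (A.subgroupOf S).index = p) : AbIdx p S A := by
  obtain ⟨hAS, hAc, hidx⟩ := hA
  have hN : (A.subgroupOf S).Normal := by
    apply Subgroup.normal_of_index_eq_minFac_card
    obtain ⟨n, hn⟩ := (IsPGroup.iff_card).1 hS
    have hn0 : n ≠ 0 := by
      rintro rfl
      rw [pow_zero] at hn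
      have h1 : (A.subgroupOf S).index ∣ Nat.card S := Subgroup.index_dvd_card _
      rw [hidx, hn] at h1
      exact hp.out.one_lt.ne' (Nat.dvd_one.1 h1)
    rw [hidx, hn, hp.out.pow_minFac hn0]
  have hnorm : ∀ s ∈ S, ∀ a ∈ A, s * a * s⁻¹ ∈ A := by
    intro s hs a ha
    have := hN.conj_mem ⟨a, hAS ha⟩ (Subgroup.mem_subgroupOf.2 ha) ⟨s, hs⟩
    rw [Subgroup.mem_subgroupOf] at this
    exact this
  refine ⟨hAS, ?_, hnorm, ?_, ?_⟩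
  · intro a ha b hb
    have := (isMulCommutative_iff.1 hAc) ⟨a, ha⟩ ⟨b, hb⟩
    exact congrArg Subtype.val this
  · intro x hx hxA g hg
    exact (exists_mul_pow_of_index_prime hnorm hidx hx hxA).2 g hg
  · intro x hx
    by_cases hxA : x ∈ A
    · exact A.pow_mem hxA p
    · exact (exists_mul_pow_of_index_prime hnorm hidx hx hxA).1

theorem mem_center_inf_iff {S : Subgroup Ω} {z : Ω} :
    z ∈ S ⊓ Subgroup.centralizer (S : Set Ω) ↔ z ∈ S ∧ ∀ s ∈ S, s * z = z * s := by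
  rw [Subgroup.mem_inf, Subgroup.mem_centralizer_iff]
  rfl

theorem mem_Z2_iff {S : Subgroup Ω} {u : Ω} :
    u ∈ (Subgroup.upperCentralSeries ↥S 2).map S.subtype ↔
      u ∈ S ∧ ∀ s ∈ S, u * s * u⁻¹ * s⁻¹ ∈ S ⊓ Subgroup.centralizer (S : Set Ω) := by
  constructor
  · rintro ⟨u', hu', rfl⟩
    refine ⟨u'.2, fun s hs => ?_⟩
    have h1 : u' ∈ Subgroup.upperCentralSeries ↥S (1 + 1) := hu'
    rw [Subgroup.mem_upperCentralSeries_succ_iff, Subgroup.upperCentralSeries_one] at h1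
    have h2 := h1 ⟨s, hs⟩
    rw [Subgroup.mem_center_iff, commutatorElement_def] at h2
    rw [mem_center_inf_iff]
    refine ⟨S.mul_mem (S.mul_mem (S.mul_mem u'.2 hs) (S.inv_mem u'.2)) (S.inv_mem hs), fun t ht => ?_⟩
    exact congrArg Subtype.val (h2 ⟨t, ht⟩)
  · rintro ⟨hu, h⟩
    refine ⟨⟨u, hu⟩, ?_, rfl⟩
    show (⟨u, hu⟩ : ↥S) ∈ Subgroup.upperCentralSeries ↥S (1 + 1)
    rw [Subgroup.mem_upperCentralSeries_succ_iff, Subgroup.upperCentralSeries_one]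
    intro y
    rw [Subgroup.mem_center_iff, commutatorElement_def]
    intro g
    apply Subtype.ext
    exact ((mem_center_inf_iff.1 (h y y.2)).2 g g.2)

theorem center_le_Z2 {S : Subgroup Ω} : S ⊓ Subgroup.centralizer (S : Set Ω) ≤
    (Subgroup.upperCentralSeries ↥S 2).map S.subtype := by
  intro z hz
  obtain ⟨hzS, hzc⟩ := mem_center_inf_iff.1 hz
  rw [mem_Z2_iff]
  refine ⟨hzS, fun s hs => ?_⟩
  have : z * s * z⁻¹ * s⁻¹ = 1 := by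
    rw [← hzc s hs]; group
  rw [this]
  exact Subgroup.one_mem _

/-- A pure group identity: `[a, x^(k+1)] = [a, x] * x [a, x^k] x⁻¹`. -/
theorem comm_pow_succ (a x : Ω) (k : ℕ) :
    a * x ^ (k + 1) * a⁻¹ * (x ^ (k + 1))⁻¹ =
      (a * x * a⁻¹ * x⁻¹) * (x * (a * x ^ k * a⁻¹ * (x ^ k)⁻¹) * x⁻¹) := by
  rw [pow_succ']
  group

theorem comm_pow_right_of_central {a x : Ω}
    (hz : x * (a * x * a⁻¹ * x⁻¹) * x⁻¹ = a * x * a⁻¹ * x⁻¹) (k : ℕ) :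
    a * x ^ k * a⁻¹ * (x ^ k)⁻¹ = (a * x * a⁻¹ * x⁻¹) ^ k := by
  induction k with
  | zero => simp
  | succ k ih =>
    rw [comm_pow_succ, ih, pow_succ']
    congr 1
    have : x * (a * x * a⁻¹ * x⁻¹) ^ k * x⁻¹ = (x * (a * x * a⁻¹ * x⁻¹) * x⁻¹) ^ k := by
      rw [conj_pow]
    rw [this, hz]

namespace AbIdx

variable {p : ℕ} {S A : Subgroup Ω} (h : AbIdx p S A)
include h

theorem comm_mem {a x : Ω} (ha : a ∈ A) (hx : x ∈ S) : a * x * a⁻¹ * x⁻¹ ∈ A := by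
  have h1 := A.mul_mem ha (h.norm x hx a⁻¹ (A.inv_mem ha))
  have h2 : a * x * a⁻¹ * x⁻¹ = a * (x * a⁻¹ * x⁻¹) := by group
  rw [h2]
  exact h1

theorem comm_mul {a b x : Ω} (ha : a ∈ A) (hb : b ∈ A) (hx : x ∈ S) :
    (a * b) * x * (a * b)⁻¹ * x⁻¹ = (a * x * a⁻¹ * x⁻¹) * (b * x * b⁻¹ * x⁻¹) := by
  have h1 : x * a⁻¹ * x⁻¹ ∈ A := h.norm x hx _ (A.inv_mem ha)
  have h2 : b * x * b⁻¹ * x⁻¹ ∈ A := h.comm_mem hb hx
  have h3 := h.comm _ h2 _ h1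
  calc (a * b) * x * (a * b)⁻¹ * x⁻¹ = a * ((b * x * b⁻¹ * x⁻¹) * (x * a⁻¹ * x⁻¹)) := by group
    _ = a * ((x * a⁻¹ * x⁻¹) * (b * x * b⁻¹ * x⁻¹)) := by rw [h3]
    _ = _ := by group

theorem comm_inv {a x : Ω} (ha : a ∈ A) (hx : x ∈ S) :
    a⁻¹ * x * a⁻¹⁻¹ * x⁻¹ = (a * x * a⁻¹ * x⁻¹)⁻¹ := by
  have h1 := h.comm_mul ha (A.inv_mem ha) hx
  rw [mul_inv_cancel] at h1
  have h2 : (1 : Ω) * x * 1⁻¹ * x⁻¹ = 1 := by group
  rw [h2] at h1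
  exact eq_inv_of_mul_eq_one_right h1.symm

theorem comm_pow {a x : Ω} (ha : a ∈ A) (hx : x ∈ S) (k : ℕ) :
    a ^ k * x * (a ^ k)⁻¹ * x⁻¹ = (a * x * a⁻¹ * x⁻¹) ^ k := by
  induction k with
  | zero => simp
  | succ k ih =>
    rw [pow_succ, h.comm_mul (A.pow_mem ha k) ha hx, ih, pow_succ]

theorem comm_mul_right {a b y : Ω} (ha : a ∈ A) (hb : b ∈ A) (hy : y ∈ S) :
    a * (b * y) * a⁻¹ * (b * y)⁻¹ = a * y * a⁻¹ * y⁻¹ := by
  have h1 := h.comm_mem ha hy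
  have h2 := h.comm a ha b hb
  have h3 := h.comm _ h1 b hb
  calc a * (b * y) * a⁻¹ * (b * y)⁻¹ = (a * b) * y * a⁻¹ * y⁻¹ * b⁻¹ := by group
    _ = (b * a) * y * a⁻¹ * y⁻¹ * b⁻¹ := by rw [h2]
    _ = b * (a * y * a⁻¹ * y⁻¹) * b⁻¹ := by group
    _ = (a * y * a⁻¹ * y⁻¹) * b * b⁻¹ := by rw [← h3]
    _ = _ := by group

/-- If `[a, x]` lies in a subgroup `N` normalized by `x`, then `[a, g] ∈ N` for all `g ∈ S`. -/
theorem comm_mem_of_gen {x : Ω} (hx : x ∈ S) (hxA : x ∉ A) (N : Subgroup Ω)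
    (hNx : ∀ n ∈ N, x * n * x⁻¹ ∈ N) {a : Ω} (ha : a ∈ A) (hax : a * x * a⁻¹ * x⁻¹ ∈ N) :
    ∀ g ∈ S, a * g * a⁻¹ * g⁻¹ ∈ N := by
  have hpow : ∀ k : ℕ, a * x ^ k * a⁻¹ * (x ^ k)⁻¹ ∈ N := by
    intro k
    induction k with
    | zero => simp
    | succ k ih =>
      rw [comm_pow_succ]
      exact N.mul_mem hax (hNx _ ih)
  intro g hg
  obtain ⟨k, b, hb, rfl⟩ := h.gen x hx hxA g hg
  rw [h.comm_mul_right ha hb (S.pow_mem hx k)]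
  exact hpow k

/-- The centre of a nonabelian `S` lies in `A`. -/
theorem center_le (hna : ∃ g ∈ S, ∃ k ∈ S, g * k ≠ k * g) {z : Ω} (hz : z ∈ S)
    (hzc : ∀ s ∈ S, s * z = z * s) : z ∈ A := by
  by_contra hzA
  obtain ⟨g, hg, k, hk, hgk⟩ := hna
  apply hgk
  obtain ⟨i, a, ha, rfl⟩ := h.gen z hz hzA g hg
  obtain ⟨j, b, hb, rfl⟩ := h.gen z hz hzA k hk
  have h1 : ∀ s ∈ S, ∀ n : ℕ, s * z ^ n = z ^ n * s := by
    intro s hs n
    have : Commute s z := hzc s hs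
    exact (this.pow_right n).eq
  have e1 := h1 b (h.le hb) i
  have e2 := h1 a (h.le ha) j
  have e3 := h.comm a ha b hb
  have e4 : z ^ i * z ^ j = z ^ j * z ^ i := by rw [← pow_add, ← pow_add, add_comm]
  calc a * z ^ i * (b * z ^ j) = a * (z ^ i * b) * z ^ j := by group
    _ = a * (b * z ^ i) * z ^ j := by rw [← e1]
    _ = (a * b) * (z ^ i * z ^ j) := by group
    _ = (b * a) * (z ^ j * z ^ i) := by rw [e3, e4]
    _ = b * (a * z ^ j) * z ^ i := by group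
    _ = b * (z ^ j * a) * z ^ i := by rw [e2]
    _ = b * z ^ j * (a * z ^ i) := by group

/-- An element of `A` commuting with some `x ∈ S ∖ A` is central in `S`. -/
theorem central_of_comm {x : Ω} (hx : x ∈ S) (hxA : x ∉ A) {a : Ω} (ha : a ∈ A)
    (hax : a * x = x * a) : ∀ s ∈ S, s * a = a * s := by
  intro s hs
  obtain ⟨k, b, hb, rfl⟩ := h.gen x hx hxA s hs
  have h1 : x ^ k * a = a * x ^ k := by
    have : Commute a x := hax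
    exact ((this.pow_right k).eq).symm
  have h2 := h.comm a ha b hb
  calc b * x ^ k * a = b * (x ^ k * a) := by group
    _ = b * (a * x ^ k) := by rw [h1]
    _ = (b * a) * x ^ k := by group
    _ = (a * b) * x ^ k := by rw [h2]
    _ = a * (b * x ^ k) := by group

/-- The commutator subgroup of `S` consists of the commutators `[a, x]`, `a ∈ A`. -/
theorem exists_of_mem_commutator {x : Ω} (hx : x ∈ S) (hxA : x ∉ A) {g : Ω} (hg : g ∈ ⁅S, S⁆) :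
    ∃ a ∈ A, g = a * x * a⁻¹ * x⁻¹ := by
  obtain ⟨I, hI⟩ : ∃ I : Subgroup Ω, ∀ g, g ∈ I ↔ ∃ a ∈ A, g = a * x * a⁻¹ * x⁻¹ := by
    refine ⟨{ carrier := {g | ∃ a ∈ A, g = a * x * a⁻¹ * x⁻¹}
              one_mem' := ⟨1, A.one_mem, by group⟩
              mul_mem' := ?_
              inv_mem' := ?_ }, fun g => Iff.rfl⟩
    · rintro _ _ ⟨a, ha, rfl⟩ ⟨b, hb, rfl⟩
      exact ⟨a * b, A.mul_mem ha hb, (h.comm_mul ha hb hx).symm⟩
    · rintro _ ⟨a, ha, rfl⟩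
      exact ⟨a⁻¹, A.inv_mem ha, (h.comm_inv ha hx).symm⟩
  suffices hle : ⁅S, S⁆ ≤ I from (hI g).1 (hle hg)
  have hIx : ∀ n ∈ I, x * n * x⁻¹ ∈ I := by
    intro n hn
    obtain ⟨c, hc, rfl⟩ := (hI n).1 hn
    refine (hI _).2 ⟨x * c * x⁻¹, h.norm x hx c hc, by group⟩
  have hIA : ∀ a ∈ A, ∀ g ∈ S, a * g * a⁻¹ * g⁻¹ ∈ I := by
    intro a ha g hg
    exact h.comm_mem_of_gen hx hxA I hIx ha ((hI _).2 ⟨a, ha, rfl⟩) g hg
  rw [Subgroup.commutator_le]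
  intro g₁ hg₁ g₂ hg₂
  obtain ⟨i, a, ha, rfl⟩ := h.gen x hx hxA g₁ hg₁
  obtain ⟨j, b, hb, rfl⟩ := h.gen x hx hxA g₂ hg₂
  have hXY : x ^ i * x ^ j * (x ^ i)⁻¹ = x ^ j := by
    rw [← pow_add, add_comm, pow_add, mul_inv_cancel_right]
  have hb' : x ^ i * b * (x ^ i)⁻¹ ∈ A := h.norm _ (S.pow_mem hx i) b hb
  have ha' : x ^ j * a⁻¹ * (x ^ j)⁻¹ ∈ A := h.norm _ (S.pow_mem hx j) _ (A.inv_mem ha)
  have hc := h.comm _ hb' _ ha'
  have e : ⁅a * x ^ i, b * x ^ j⁆ =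
      (a * x ^ j * a⁻¹ * (x ^ j)⁻¹) * (b * x ^ i * b⁻¹ * (x ^ i)⁻¹)⁻¹ := by
    rw [commutatorElement_def]
    calc a * x ^ i * (b * x ^ j) * (a * x ^ i)⁻¹ * (b * x ^ j)⁻¹
        = a * (x ^ i * b * (x ^ i)⁻¹) * (x ^ i * x ^ j * (x ^ i)⁻¹) * a⁻¹ * (x ^ j)⁻¹ * b⁻¹ := by group
      _ = a * (x ^ i * b * (x ^ i)⁻¹) * x ^ j * a⁻¹ * (x ^ j)⁻¹ * b⁻¹ := by rw [hXY]
      _ = a * ((x ^ i * b * (x ^ i)⁻¹) * (x ^ j * a⁻¹ * (x ^ j)⁻¹)) * b⁻¹ := by group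
      _ = a * ((x ^ j * a⁻¹ * (x ^ j)⁻¹) * (x ^ i * b * (x ^ i)⁻¹)) * b⁻¹ := by rw [hc]
      _ = _ := by group
  rw [e]
  exact I.mul_mem (hIA a ha _ (S.pow_mem hx j)) (I.inv_mem (hIA b hb _ (S.pow_mem hx i)))

/-- Commutators of elements of `S` lie in `A`. -/
theorem commutator_mem {g k : Ω} (hg : g ∈ S) (hk : k ∈ S) : g * k * g⁻¹ * k⁻¹ ∈ A := by
  by_cases hgA : g ∈ A
  · exact h.comm_mem hgA hk
  · obtain ⟨a, ha, e⟩ := h.exists_of_mem_commutator hg hgA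
      (Subgroup.commutator_mem_commutator hg hk)
    rw [commutatorElement_def] at e
    rw [e]
    exact h.comm_mem ha hg

/-- `a ∈ A` with `[a, x]` central lies in the second centre. -/
theorem mem_Z2_of_comm {x : Ω} (hx : x ∈ S) (hxA : x ∉ A) {a : Ω} (ha : a ∈ A)
    (hax : a * x * a⁻¹ * x⁻¹ ∈ S ⊓ Subgroup.centralizer (S : Set Ω)) :
    a ∈ (Subgroup.upperCentralSeries ↥S 2).map S.subtype := by
  rw [mem_Z2_iff]
  refine ⟨h.le ha, ?_⟩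
  apply h.comm_mem_of_gen hx hxA _ _ ha hax
  intro n hn
  have h1 := (mem_center_inf_iff.1 hn).2 x hx
  have h2 : x * n * x⁻¹ = n := by rw [h1]; group
  rw [h2]
  exact hn

end AbIdx

end abidx

end Cfsg.Agent.H89
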