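import Cfsg.Agent.H89.Transv
import Cfsg.Agent.H89.IndexP
import Cfsg.Agent.H89.GenExtraFus

set_option autoImplicit false

/-!
Essential subgroups of a saturated fusion system over a `p`-group with an abelian subgroup of index `p`.
-/

namespace Cfsg.Agent.H89

open Cfsg Cfsg.FusionSystem Cfsg.Agent.H86

section oliver

variable {Ω : Type*} [Group Ω] {S : Subgroup Ω}

theorem exists_noncomm_of_not_comm (hna : ¬ IsMulCommutative ↥S) :
    ∃ g ∈ S, ∃ k ∈ S, g * k ≠ k * g := by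
  by_contra hcon
  push Not at hcon
  exact hna (isMulCommutative_iff.2 (fun a b => Subtype.ext (hcon a a.2 b b.2)))

theorem exists_preimage_subgroup (P A : Subgroup Ω) (γ : MulAut P) :
    ∃ N : Subgroup Ω, ∀ g, g ∈ N ↔ g ∈ P ∧ autFun P γ g ∈ A := by
  refine ⟨((A.subgroupOf P).comap γ.toMonoidHom).map P.subtype, fun g => ?_⟩
  constructor
  · rintro ⟨y, hy, rfl⟩
    refine ⟨y.2, ?_⟩
    rw [P.subtype_apply, autFun_apply]
    exact hy
  · rintro ⟨hg, h⟩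
    rw [autFun_of_mem γ hg] at h
    exact ⟨⟨g, hg⟩, h, rfl⟩

theorem essential_eq_or_exists {p : ℕ} {F : FusionSystem S} {A P : Subgroup Ω} (h : AbIdx p S A)
    (hP : F.IsEssential p P) : P = A ∨ ∃ x ∈ P, x ∉ A := by
  by_cases hPA : P ≤ A
  · left
    have hPS := hP.1.1
    have hcen : centralizerIn S P ≤ P := hP.1.2 P (Cfsg.Agent.H86.isConj_refl F hPS)
    refine le_antisymm hPA (fun a ha => hcen ?_)
    rw [mem_centralizerIn_iff]
    exact ⟨h.le ha, fun y hy => h.comm y (hPA hy) a ha⟩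
  · right
    exact SetLike.not_le_iff_exists.1 hPA

theorem AbIdx.decomp_sub {p : ℕ} {A P : Subgroup Ω} (h : AbIdx p S A) (hPS : P ≤ S) {x : Ω}
    (hxP : x ∈ P) (hxA : x ∉ A) : ∀ g ∈ P, ∃ k : ℕ, ∃ a ∈ P ⊓ A, g = a * x ^ k := by
  intro g hg
  obtain ⟨k, a, ha, rfl⟩ := h.gen x (hPS hxP) hxA g (hPS hg)
  refine ⟨k, a, ⟨?_, ha⟩, rfl⟩
  have := P.mul_mem hg (P.inv_mem (P.pow_mem hxP k))
  rwa [mul_inv_cancel_right] at this

theorem AbIdx.normalizer_decomp {p : ℕ} {A P : Subgroup Ω} (h : AbIdx p S A) (hPS : P ≤ S) {x : Ω}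
    (hxP : x ∈ P) (hxA : x ∉ A) :
    ∀ s ∈ normalizerIn S P, ∃ b ∈ A ⊓ normalizerIn S P, ∃ e ∈ P, s = b * e := by
  intro s hs
  obtain ⟨k, a, ha, rfl⟩ := h.gen x (hPS hxP) hxA s (mem_normalizerIn_iff.1 hs).1
  refine ⟨a, ⟨ha, ?_⟩, x ^ k, P.pow_mem hxP k, rfl⟩
  have h1 : x ^ k ∈ normalizerIn S P := le_normalizerIn hPS (P.pow_mem hxP k)
  have := (normalizerIn S P).mul_mem hs ((normalizerIn S P).inv_mem h1)
  rwa [mul_inv_cancel_right] at this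

theorem AbIdx.comm_mem_inf {p : ℕ} {A P : Subgroup Ω} (h : AbIdx p S A) (hPS : P ≤ S) {b y : Ω}
    (hb : b ∈ A) (hbN : b ∈ normalizerIn S P) (hy : y ∈ P) : b * y * b⁻¹ * y⁻¹ ∈ P ⊓ A := by
  refine ⟨?_, h.comm_mem hb (hPS hy)⟩
  exact P.mul_mem (conj_mem_of_mem_normalizer (mem_normalizerIn_iff.1 hbN).2 hy) (P.inv_mem hy)

/-- The transvection lemma for `P ≰ A`: `b ∈ N_A(P)` with `γ [b, x] ∈ A` lies in `P`. -/
theorem oliver_tl [Finite S] {p : ℕ} [Fact p.Prime] (hS : IsPGroup p S) {F : FusionSystem S}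
    (hF : F.IsSaturated p) {A P : Subgroup Ω} (h : AbIdx p S A) (hP : F.IsEssential p P)
    {x : Ω} (hxP : x ∈ P) (hxA : x ∉ A) {γ : MulAut P} (hγ : γ ∈ F.autGroup P) (hsep : Sep S P γ)
    {b : Ω} (hb : b ∈ A) (hbN : b ∈ normalizerIn S P)
    (hbx : autFun P γ (b * x * b⁻¹ * x⁻¹) ∈ A) : b ∈ P := by
  have hPS : P ≤ S := hP.1.1
  have hγM : Mor F P (autFun P γ) := (Cfsg.Agent.H86.mem_autGroup_iff hPS γ).1 hγ
  obtain ⟨N, hN⟩ := exists_preimage_subgroup P A γ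
  have hNx : ∀ n ∈ N, x * n * x⁻¹ ∈ N := by
    intro n hn
    obtain ⟨hnP, hnA⟩ := (hN n).1 hn
    refine (hN _).2 ⟨P.mul_mem (P.mul_mem hxP hnP) (P.inv_mem hxP), ?_⟩
    rw [hγM.map_mul (P.mul_mem hxP hnP) (P.inv_mem hxP), hγM.map_mul hxP hnP, hγM.map_inv hxP]
    exact h.norm _ (hPS (autFun_mem γ hxP)) _ hnA
  have hbxN : b * x * b⁻¹ * x⁻¹ ∈ N := (hN _).2 ⟨(h.comm_mem_inf hPS hb hbN hxP).1, hbx⟩
  have hall := h.comm_mem_of_gen (hPS hxP) hxA N hNx hb hbxN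
  refine tl_b hS hF hP hγ hsep (P ⊓ A) (A ⊓ normalizerIn S P) ?_
    (h.normalizer_decomp hPS hxP hxA) ?_ ⟨hb, hbN⟩ hbN ?_ ?_
  · intro y hy e he
    exact ⟨P.mul_mem (P.mul_mem hy he.1) (P.inv_mem hy), h.norm y (hPS hy) e he.2⟩
  · intro b' hb' e he
    exact h.comm b' hb'.1 e he.2
  · intro y hy
    exact h.comm_mem_inf hPS hb hbN hy
  · intro y hy
    have h1 := (hN _).1 (hall y (hPS hy))
    exact ⟨autFun_mem γ h1.1, h1.2⟩

theorem oliver_decomp {p : ℕ} {F : FusionSystem S} {A P : Subgroup Ω} (h : AbIdx p S A)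
    (hPS : P ≤ S) {γ : MulAut P} (hγM : Mor F P (autFun P γ)) {u : Ω} (hu : u ∈ P)
    (huA : autFun P γ u ∉ A) :
    ∀ c ∈ P, ∃ k : ℕ, ∃ a ∈ P, autFun P γ a ∈ A ∧ c = a * u ^ k := by
  intro c hc
  obtain ⟨k, a', ha', e⟩ := h.gen _ (hPS (autFun_mem γ hu)) huA _ (hPS (autFun_mem γ hc))
  have huk : u ^ k ∈ P := P.pow_mem hu k
  refine ⟨k, c * (u ^ k)⁻¹, P.mul_mem hc (P.inv_mem huk), ?_, by group⟩
  rw [hγM.map_mul hc (P.inv_mem huk), hγM.map_inv huk, mor_map_pow hγM hu, e, mul_inv_cancel_right]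
  exact ha'

theorem oliver_gen [Finite S] {p : ℕ} [Fact p.Prime] (hS : IsPGroup p S) {F : FusionSystem S}
    (hF : F.IsSaturated p) {A P : Subgroup Ω} (h : AbIdx p S A) (hP : F.IsEssential p P)
    {x : Ω} (hxP : x ∈ P) (hxA : x ∉ A) {γ : MulAut P} (hγ : γ ∈ F.autGroup P)
    (hsep : Sep S P γ) :
    ∃ b₁ ∈ A, b₁ ∈ normalizerIn S P ∧ b₁ ∉ P ∧ b₁ ^ p ∈ P ∧
      autFun P γ (b₁ * x * b₁⁻¹ * x⁻¹) ∉ A ∧
      ∀ b ∈ A, b ∈ normalizerIn S P → ∃ k : ℕ, b * (b₁ ^ k)⁻¹ ∈ P := by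
  have hPS : P ≤ S := hP.1.1
  have hxS := hPS hxP
  have hγM : Mor F P (autFun P γ) := (Cfsg.Agent.H86.mem_autGroup_iff hPS γ).1 hγ
  have ha := (saturated_fullyNormalized hS hF hP.2.1).2
  have hlt : P < S := Cfsg.Agent.H88.essential_lt ha hP
  obtain ⟨g, hgN, hgP⟩ := exists_mem_normalizerIn_not_mem hS hlt
  obtain ⟨b₁, ⟨hb₁A, hb₁N⟩, e, he, rfl⟩ := h.normalizer_decomp hPS hxP hxA g hgN
  have hb₁P : b₁ ∉ P := fun hc => hgP (P.mul_mem hc he)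
  have hu₁ : autFun P γ (b₁ * x * b₁⁻¹ * x⁻¹) ∉ A := fun hc =>
    hb₁P (oliver_tl hS hF h hP hxP hxA hγ hsep hb₁A hb₁N hc)
  have hu₁P : b₁ * x * b₁⁻¹ * x⁻¹ ∈ P := (h.comm_mem_inf hPS hb₁A hb₁N hxP).1
  refine ⟨b₁, hb₁A, hb₁N, hb₁P, ?_, hu₁, ?_⟩
  · apply oliver_tl hS hF h hP hxP hxA hγ hsep (A.pow_mem hb₁A p)
      ((normalizerIn S P).pow_mem hb₁N p)
    rw [h.comm_pow hb₁A hxS, mor_map_pow hγM hu₁P]
    exact h.pow _ (hPS (autFun_mem γ hu₁P))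
  · intro b hb hbN
    have hcP : b * x * b⁻¹ * x⁻¹ ∈ P := (h.comm_mem_inf hPS hb hbN hxP).1
    obtain ⟨k, a, haP, haA, e⟩ := oliver_decomp h hPS hγM hu₁P hu₁ _ hcP
    refine ⟨k, ?_⟩
    have hbk : (b₁ ^ k)⁻¹ ∈ A := A.inv_mem (A.pow_mem hb₁A k)
    apply oliver_tl hS hF h hP hxP hxA hγ hsep (A.mul_mem hb hbk)
      ((normalizerIn S P).mul_mem hbN
        ((normalizerIn S P).inv_mem ((normalizerIn S P).pow_mem hb₁N k)))
    rw [h.comm_mul hb hbk hxS, h.comm_inv (A.pow_mem hb₁A k) hxS, h.comm_pow hb₁A hxS, e,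
      mul_inv_cancel_right]
    exact haA

/-- An essential subgroup not contained in `A` has index `p` in its normalizer. -/
theorem oliver_index [Finite S] {p : ℕ} [Fact p.Prime] (hS : IsPGroup p S) {F : FusionSystem S}
    (hF : F.IsSaturated p) {A P : Subgroup Ω} (h : AbIdx p S A) (hP : F.IsEssential p P)
    {x : Ω} (hxP : x ∈ P) (hxA : x ∉ A) : (P.subgroupOf (normalizerIn S P)).index = p := by
  have hPS : P ≤ S := hP.1.1
  have ha := (saturated_fullyNormalized hS hF hP.2.1).2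
  obtain ⟨γ, hγ, hsep⟩ := exists_sep ha hP
  obtain ⟨b₁, hb₁A, hb₁N, hb₁P, hb₁p, -, hgen⟩ := oliver_gen hS hF h hP hxP hxA hγ hsep
  refine index_eq_prime_of_gen ?_ hb₁N hb₁P hb₁p ?_
  · intro n hn k hk
    exact conj_mem_of_mem_normalizer (mem_normalizerIn_iff.1 hn).2 hk
  · intro s hs
    obtain ⟨b, ⟨hbA, hbN⟩, e, he, rfl⟩ := h.normalizer_decomp hPS hxP hxA s hs
    obtain ⟨k, hk⟩ := hgen b hbA hbN
    refine ⟨k, ?_⟩
    have h1 : b₁ ^ k * e * (b₁ ^ k)⁻¹ ∈ P :=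
      conj_mem_of_mem_normalizer
        (mem_normalizerIn_iff.1 ((normalizerIn S P).pow_mem hb₁N k)).2 he
    have h2 : b * e * (b₁ ^ k)⁻¹ = (b * (b₁ ^ k)⁻¹) * (b₁ ^ k * e * (b₁ ^ k)⁻¹) := by group
    rw [h2]
    exact P.mul_mem hk h1

/-- The centre of `S` lies in every centric subgroup and in `A`. -/
theorem center_le_essential {p : ℕ} {F : FusionSystem S} {A P : Subgroup Ω} (h : AbIdx p S A)
    (hna : ∃ g ∈ S, ∃ k ∈ S, g * k ≠ k * g) (hcen : F.IsCentric P) :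
    S ⊓ Subgroup.centralizer (S : Set Ω) ≤ P ⊓ A := by
  intro z hz
  obtain ⟨hzS, hzc⟩ := mem_center_inf_iff.1 hz
  have hPS := hcen.1
  have hc : centralizerIn S P ≤ P := hcen.2 P (Cfsg.Agent.H86.isConj_refl F hPS)
  refine ⟨hc ?_, h.center_le hna hzS hzc⟩
  rw [mem_centralizerIn_iff]
  exact ⟨hzS, fun y hy => hzc y (hPS hy)⟩

theorem AbIdx.comm_of_inf_le_center {p : ℕ} {A P : Subgroup Ω} (h : AbIdx p S A) (hPS : P ≤ S)
    {x : Ω} (hxP : x ∈ P) (hxA : x ∉ A)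
    (hc : P ⊓ A ≤ S ⊓ Subgroup.centralizer (S : Set Ω)) : ∀ g ∈ P, ∀ k ∈ P, g * k = k * g := by
  intro g hg k hk
  obtain ⟨i, a, ha, rfl⟩ := h.decomp_sub hPS hxP hxA g hg
  obtain ⟨j, b, hb, rfl⟩ := h.decomp_sub hPS hxP hxA k hk
  have ha' := (mem_center_inf_iff.1 (hc ha)).2
  have hb' := (mem_center_inf_iff.1 (hc hb)).2
  have hxS := hPS hxP
  have e1 := hb' (x ^ i) (S.pow_mem hxS i)
  have e2 := ha' (x ^ j) (S.pow_mem hxS j)
  have e3 := ha' b (h.le hb.2)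
  have e4 : x ^ i * x ^ j = x ^ j * x ^ i := by rw [← pow_add, ← pow_add, add_comm]
  calc a * x ^ i * (b * x ^ j) = a * (x ^ i * b) * x ^ j := by group
    _ = a * (b * x ^ i) * x ^ j := by rw [e1]
    _ = (a * b) * (x ^ i * x ^ j) := by group
    _ = (b * a) * (x ^ j * x ^ i) := by rw [← e3, e4]
    _ = b * (a * x ^ j) * x ^ i := by group
    _ = b * (x ^ j * a) * x ^ i := by rw [e2]
    _ = b * x ^ j * (a * x ^ i) := by group

/-- An abelian essential subgroup not in `A` meets `A` in the centre of `S`. -/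
theorem oliver_abelian {p : ℕ} {F : FusionSystem S} {A P : Subgroup Ω} (h : AbIdx p S A)
    (hna : ∃ g ∈ S, ∃ k ∈ S, g * k ≠ k * g) (hP : F.IsEssential p P) {x : Ω} (hxP : x ∈ P)
    (hxA : x ∉ A) (hab : ∀ g ∈ P, ∀ k ∈ P, g * k = k * g) :
    P ⊓ A = S ⊓ Subgroup.centralizer (S : Set Ω) := by
  have hPS := hP.1.1
  apply le_antisymm
  · intro a ha
    rw [mem_center_inf_iff]
    exact ⟨h.le ha.2, h.central_of_comm (hPS hxP) hxA ha.2 (hab a ha.1 x hxP)⟩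
  · exact center_le_essential h hna hP.1

theorem Z2_le_normalizerIn {P : Subgroup Ω} (hPS : P ≤ S)
    (hZP : S ⊓ Subgroup.centralizer (S : Set Ω) ≤ P) {u : Ω}
    (hu : u ∈ (Subgroup.upperCentralSeries ↥S 2).map S.subtype) : u ∈ normalizerIn S P := by
  have key : ∀ v ∈ (Subgroup.upperCentralSeries ↥S 2).map S.subtype, ∀ y ∈ P, v * y * v⁻¹ ∈ P := by
    intro v hv y hy
    have h1 := hZP ((mem_Z2_iff.1 hv).2 y (hPS hy))
    have h2 : v * y * v⁻¹ = (v * y * v⁻¹ * y⁻¹) * y := by group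
    rw [h2]
    exact P.mul_mem h1 hy
  refine mem_normalizerIn_iff.2 ⟨(mem_Z2_iff.1 hu).1,
    mem_normalizer_of_forall_conj_mem (key u hu) ?_⟩
  intro y hy
  have := key u⁻¹ (Subgroup.inv_mem _ hu) y hy
  rwa [inv_inv] at this

/-- A nonabelian essential subgroup: its centre is `Z(S)`, `γ` preserves `Z(S)`,
`P ∩ A ∩ γ⁻¹(A) = Z(S)`, `P ∩ A = Z₂(S)`, and `Z₂(S) ≤ A`. -/
theorem oliver_nonabelian [Finite S] {p : ℕ} [Fact p.Prime] (hS : IsPGroup p S)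
    {F : FusionSystem S} (hF : F.IsSaturated p) {A P : Subgroup Ω} (h : AbIdx p S A)
    (hna : ∃ g ∈ S, ∃ k ∈ S, g * k ≠ k * g) (hP : F.IsEssential p P) {x : Ω} (hxP : x ∈ P)
    (hxA : x ∉ A) {γ : MulAut P} (hγ : γ ∈ F.autGroup P) (hsep : Sep S P γ)
    (hnab : ¬ ∀ g ∈ P, ∀ k ∈ P, g * k = k * g) :
    (∀ g ∈ P, (∀ y ∈ P, y * g = g * y) → g ∈ S ⊓ Subgroup.centralizer (S : Set Ω)) ∧
    (∀ z ∈ S ⊓ Subgroup.centralizer (S : Set Ω),
      autFun P γ z ∈ S ⊓ Subgroup.centralizer (S : Set Ω)) ∧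
    (∀ d ∈ P ⊓ A, autFun P γ d ∈ A → d ∈ S ⊓ Subgroup.centralizer (S : Set Ω)) ∧
    P ⊓ A = (Subgroup.upperCentralSeries ↥S 2).map S.subtype ∧
    (Subgroup.upperCentralSeries ↥S 2).map S.subtype ≤ A := by
  have hPS : P ≤ S := hP.1.1
  have hxS := hPS hxP
  have hγM : Mor F P (autFun P γ) := (Cfsg.Agent.H86.mem_autGroup_iff hPS γ).1 hγ
  have hZP := center_le_essential h hna hP.1
  have hcP : ∀ g ∈ P, (∀ y ∈ P, y * g = g * y) → g ∈ S ⊓ Subgroup.centralizer (S : Set Ω) := by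
    intro g hg hgc
    have hgA : g ∈ A := by
      by_contra hgA
      apply hnab
      apply h.comm_of_inf_le_center hPS hxP hxA
      intro a ha
      rw [mem_center_inf_iff]
      exact ⟨h.le ha.2, h.central_of_comm (hPS hg) hgA ha.2 (hgc a ha.1)⟩
    rw [mem_center_inf_iff]
    exact ⟨hPS hg, h.central_of_comm hxS hxA hgA (hgc x hxP).symm⟩
  have hγZ : ∀ z ∈ S ⊓ Subgroup.centralizer (S : Set Ω),
      autFun P γ z ∈ S ⊓ Subgroup.centralizer (S : Set Ω) := by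
    intro z hz
    have hzP : z ∈ P := (hZP hz).1
    apply hcP _ (autFun_mem γ hzP)
    intro y hy
    have hy' : autFun P γ⁻¹ y ∈ P := autFun_mem γ⁻¹ hy
    have e : autFun P γ (autFun P γ⁻¹ y) = y := autFun_apply_inv γ hy
    rw [← e, ← hγM.map_mul hy' hzP, ← hγM.map_mul hzP hy']
    congr 1
    exact (mem_center_inf_iff.1 hz).2 _ (hPS hy')
  obtain ⟨b₁, hb₁A, hb₁N, hb₁P, hb₁p, hu₁, hgen⟩ := oliver_gen hS hF h hP hxP hxA hγ hsep
  have hu₁PA := h.comm_mem_inf hPS hb₁A hb₁N hxP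
  have hP2 : ∀ d ∈ P ⊓ A, autFun P γ d ∈ A → d ∈ S ⊓ Subgroup.centralizer (S : Set Ω) := by
    intro d hd hdA
    apply hcP d hd.1
    intro g hg
    obtain ⟨k, a, haP, haA, rfl⟩ := oliver_decomp h hPS hγM hu₁PA.1 hu₁ g hg
    have e1 : a * d = d * a := by
      apply hγM.injOn (P.mul_mem haP hd.1) (P.mul_mem hd.1 haP)
      rw [hγM.map_mul haP hd.1, hγM.map_mul hd.1 haP]
      exact h.comm _ haA _ hdA
    have e2 : (b₁ * x * b₁⁻¹ * x⁻¹) ^ k * d = d * (b₁ * x * b₁⁻¹ * x⁻¹) ^ k := by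
      have : Commute (b₁ * x * b₁⁻¹ * x⁻¹) d := h.comm _ hu₁PA.2 _ hd.2
      exact (this.pow_left k).eq
    calc a * (b₁ * x * b₁⁻¹ * x⁻¹) ^ k * d = a * ((b₁ * x * b₁⁻¹ * x⁻¹) ^ k * d) := by group
      _ = a * (d * (b₁ * x * b₁⁻¹ * x⁻¹) ^ k) := by rw [e2]
      _ = (a * d) * (b₁ * x * b₁⁻¹ * x⁻¹) ^ k := by group
      _ = (d * a) * (b₁ * x * b₁⁻¹ * x⁻¹) ^ k := by rw [e1]
      _ = d * (a * (b₁ * x * b₁⁻¹ * x⁻¹) ^ k) := by group
  have hd : P ⊓ A ≤ (Subgroup.upperCentralSeries ↥S 2).map S.subtype := by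
    intro a ha
    apply h.mem_Z2_of_comm hxS hxA ha.2
    have haN : a ∈ normalizerIn S P := le_normalizerIn hPS ha.1
    have hc := h.comm_mem_inf hPS ha.2 haN hxP
    apply hP2 _ hc
    rw [hγM.map_mul (P.mul_mem (P.mul_mem ha.1 hxP) (P.inv_mem ha.1)) (P.inv_mem hxP),
      hγM.map_mul (P.mul_mem ha.1 hxP) (P.inv_mem ha.1), hγM.map_mul ha.1 hxP, hγM.map_inv ha.1,
      hγM.map_inv hxP]
    exact h.commutator_mem (hPS (autFun_mem γ ha.1)) (hPS (autFun_mem γ hxP))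
  have he : ∀ a ∈ A, a ∈ (Subgroup.upperCentralSeries ↥S 2).map S.subtype → a ∈ P := by
    intro a haA haZ
    have haN : a ∈ normalizerIn S P := Z2_le_normalizerIn hPS (fun z hz => (hZP hz).1) haZ
    apply oliver_tl hS hF h hP hxP hxA hγ hsep haA haN
    have hz := (mem_Z2_iff.1 haZ).2 x hxS
    exact (hZP (hγZ _ hz)).2
  have hf : (Subgroup.upperCentralSeries ↥S 2).map S.subtype ≤ A := by
    intro g hgZ
    by_contra hgA
    have hgS := (mem_Z2_iff.1 hgZ).1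
    have hAP : A ≤ P := by
      intro a ha
      apply he a ha
      apply h.mem_Z2_of_comm hgS hgA ha
      have h1 := (mem_Z2_iff.1 hgZ).2 a (h.le ha)
      have h2 : a * g * a⁻¹ * g⁻¹ = (g * a * g⁻¹ * a⁻¹)⁻¹ := by group
      rw [h2]
      exact Subgroup.inv_mem _ h1
    have ha' := (saturated_fullyNormalized hS hF hP.2.1).2
    have hlt : P < S := Cfsg.Agent.H88.essential_lt ha' hP
    apply hlt.ne
    apply le_antisymm hPS
    intro s hs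
    obtain ⟨k, a, ha, rfl⟩ := h.gen x hxS hxA s hs
    exact P.mul_mem (hAP ha) (P.pow_mem hxP k)
  exact ⟨hcP, hγZ, hP2, le_antisymm hd (fun a ha => ⟨he a (hf ha) ha, hf ha⟩), hf⟩

/-- In the abelian case, uniqueness of `A` forces `Z₂(S) ≤ A`. -/
theorem oliver_abelian_Z2 [Finite S] {p : ℕ} [Fact p.Prime] (hS : IsPGroup p S)
    {F : FusionSystem S} (hF : F.IsSaturated p) {A P : Subgroup Ω} (h : AbIdx p S A)
    (hna : ∃ g ∈ S, ∃ k ∈ S, g * k ≠ k * g)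
    (huniq : ∀ B : Subgroup Ω, B ≤ S → IsMulCommutative ↥B → (B.subgroupOf S).index = p → B = A)
    (hP : F.IsEssential p P) {x : Ω} (hxP : x ∈ P) (hxA : x ∉ A)
    (hab : ∀ g ∈ P, ∀ k ∈ P, g * k = k * g) :
    (Subgroup.upperCentralSeries ↥S 2).map S.subtype ≤ A := by
  intro g hgZ
  by_contra hgA
  have hPS := hP.1.1
  have hgS := (mem_Z2_iff.1 hgZ).1
  have hZP := center_le_essential h hna hP.1
  have hAN : A ≤ normalizerIn S P := by
    intro a ha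
    apply Z2_le_normalizerIn hPS (fun z hz => (hZP hz).1)
    apply h.mem_Z2_of_comm hgS hgA ha
    have h1 := (mem_Z2_iff.1 hgZ).2 a (h.le ha)
    have h2 : a * g * a⁻¹ * g⁻¹ = (g * a * g⁻¹ * a⁻¹)⁻¹ := by group
    rw [h2]
    exact Subgroup.inv_mem _ h1
  have hN : normalizerIn S P = S := by
    apply le_antisymm inf_le_left
    intro s hs
    obtain ⟨k, a, ha, rfl⟩ := h.gen x (hPS hxP) hxA s hs
    exact (normalizerIn S P).mul_mem (hAN ha) (le_normalizerIn hPS (P.pow_mem hxP k))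
  have hidx := oliver_index hS hF h hP hxP hxA
  rw [hN] at hidx
  have hPc : IsMulCommutative ↥P :=
    isMulCommutative_iff.2 (fun a b => Subtype.ext (hab a a.2 b b.2))
  have := huniq P hPS hPc hidx
  rw [this] at hxP
  exact hxA hxP

/-- A generator of `Z₂(S)` modulo `Z(S)`. -/
theorem oliver_Z2_gen [Finite S] {p : ℕ} [Fact p.Prime] (hS : IsPGroup p S)
    {F : FusionSystem S} (hF : F.IsSaturated p) {A P : Subgroup Ω} (h : AbIdx p S A)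
    (hna : ∃ g ∈ S, ∃ k ∈ S, g * k ≠ k * g) (hP : F.IsEssential p P) {x : Ω} (hxP : x ∈ P)
    (hxA : x ∉ A) (hZ2A : (Subgroup.upperCentralSeries ↥S 2).map S.subtype ≤ A) :
    ∃ w ∈ (Subgroup.upperCentralSeries ↥S 2).map S.subtype,
      w ∉ S ⊓ Subgroup.centralizer (S : Set Ω) ∧
      w ^ p ∈ S ⊓ Subgroup.centralizer (S : Set Ω) ∧
      ∀ g ∈ (Subgroup.upperCentralSeries ↥S 2).map S.subtype,
        ∃ k : ℕ, g * (w ^ k)⁻¹ ∈ S ⊓ Subgroup.centralizer (S : Set Ω) := by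
  have hPS : P ≤ S := hP.1.1
  have hxS := hPS hxP
  have ha := (saturated_fullyNormalized hS hF hP.2.1).2
  obtain ⟨γ, hγ, hsep⟩ := exists_sep ha hP
  have hγM : Mor F P (autFun P γ) := (Cfsg.Agent.H86.mem_autGroup_iff hPS γ).1 hγ
  have hZP := center_le_essential h hna hP.1
  obtain ⟨b₁, hb₁A, hb₁N, hb₁P, hb₁p, hu₁, hgen⟩ := oliver_gen hS hF h hP hxP hxA hγ hsep
  have hu₁PA := h.comm_mem_inf hPS hb₁A hb₁N hxP
  by_cases hab : ∀ g ∈ P, ∀ k ∈ P, g * k = k * g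
  · have hP0 := oliver_abelian h hna hP hxP hxA hab
    refine ⟨b₁, ?_, fun hc => hb₁P (hZP hc).1, ?_, ?_⟩
    · apply h.mem_Z2_of_comm hxS hxA hb₁A
      rw [← hP0]
      exact hu₁PA
    · rw [← hP0]
      exact ⟨hb₁p, A.pow_mem hb₁A p⟩
    · intro g hg
      have hgA := hZ2A hg
      have hgN : g ∈ normalizerIn S P := Z2_le_normalizerIn hPS (fun z hz => (hZP hz).1) hg
      obtain ⟨k, hk⟩ := hgen g hgA hgN
      refine ⟨k, ?_⟩
      rw [← hP0]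
      exact ⟨hk, A.mul_mem hgA (A.inv_mem (A.pow_mem hb₁A k))⟩
  · obtain ⟨hcP, hγZ, hP2, hP0, -⟩ := oliver_nonabelian hS hF h hna hP hxP hxA hγ hsep hab
    refine ⟨b₁ * x * b₁⁻¹ * x⁻¹, ?_, ?_, ?_, ?_⟩
    · rw [← hP0]
      exact hu₁PA
    · intro hc
      exact hu₁ (hZP (hγZ _ hc)).2
    · apply hP2 _ ⟨P.pow_mem hu₁PA.1 p, A.pow_mem hu₁PA.2 p⟩
      rw [mor_map_pow hγM hu₁PA.1]
      exact h.pow _ (hPS (autFun_mem γ hu₁PA.1))
    · intro g hg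
      rw [← hP0] at hg
      obtain ⟨k, a, haP, haA, rfl⟩ := oliver_decomp h hPS hγM hu₁PA.1 hu₁ g hg.1
      refine ⟨k, ?_⟩
      rw [mul_inv_cancel_right]
      apply hP2 _ ⟨haP, ?_⟩ haA
      have := A.mul_mem hg.2 (A.inv_mem (A.pow_mem hu₁PA.2 k))
      rwa [mul_inv_cancel_right] at this

theorem eq_sup_zpowers {P P₀ : Subgroup Ω} (hP₀ : P₀ ≤ P) {x : Ω} (hxP : x ∈ P)
    (hgen : ∀ g ∈ P, ∃ k : ℕ, ∃ a ∈ P₀, g = a * x ^ k) : P = P₀ ⊔ Subgroup.zpowers x := by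
  apply le_antisymm
  · intro g hg
    obtain ⟨k, a, ha, rfl⟩ := hgen g hg
    exact Subgroup.mul_mem _ (Subgroup.mem_sup_left ha)
      (Subgroup.mem_sup_right (Subgroup.pow_mem _ (Subgroup.mem_zpowers x) k))
  · exact sup_le hP₀ ((Subgroup.zpowers_le).2 hxP)

end oliver

end Cfsg.Agent.H89
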