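import Cfsg.Agent.H89.OliverEss
import Cfsg.Agent.H89.IndexPCount
import Cfsg.Agent.H89.Braid

set_option autoImplicit false

/-!
Fusion systems over a `p`-group with abelian subgroup of index `p`: the `SL₂(p)`-argument for
abelian essential subgroups `Z(S)⟨x⟩`.
-/

namespace Cfsg.Agent.H89

open Cfsg Cfsg.FusionSystem Cfsg.Agent.H86
open scoped commutatorElement

section sl2

variable {Ω : Type*} [Group Ω] {S : Subgroup Ω}

theorem exists_zpow_inv {G : Type*} [Group G] {p : ℕ} [hp : Fact p.Prime] {y z : G}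
    (hy : y ^ p = 1) (hz : z ^ p = 1) {l i : ℤ} (hl : y ^ l ≠ 1) (hi : z ^ i ≠ 1) :
    ∃ n : ℤ, (y ^ (l * i)) ^ n = y⁻¹ := by
  have hli : y ^ (l * i) ≠ 1 := by
    intro h1
    have hy1 : y ≠ 1 := by
      rintro rfl
      exact hl (one_zpow l)
    have hd := dvd_of_zpow_eq_one_of_prime hy hy1 h1
    rcases (Nat.prime_iff_prime_int.mp hp.out).dvd_or_dvd hd with hd' | hd'
    · obtain ⟨c, rfl⟩ := hd'
      apply hl
      rw [zpow_mul, zpow_natCast, hy, one_zpow]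
    · obtain ⟨c, rfl⟩ := hd'
      apply hi
      rw [zpow_mul, zpow_natCast, hz, one_zpow]
  obtain ⟨e, he⟩ := exists_zpow_eq_of_prime hy hli
  exact ⟨-e, by rw [zpow_neg, he]⟩

theorem conjAut_pow {P : Subgroup Ω} {τ : MulAut ↥P} {w : Ω}
    (hτ : ∀ m : ↥P, ((τ m : ↥P) : Ω) = w * m * w⁻¹) (k : ℕ) (m : ↥P) :
    (((τ ^ k) m : ↥P) : Ω) = w ^ k * m * (w ^ k)⁻¹ := by
  induction k generalizing m with
  | zero => simp
  | succ k ih =>
    rw [pow_succ, MulAut.mul_apply, ih, hτ, pow_succ]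
    group

theorem aut_inv_mem_of_maps {G : Type*} [Group G] [Finite G] (β : MulAut G) (H : Subgroup G)
    (hβ : ∀ h ∈ H, β h ∈ H) : ∀ h ∈ H, β⁻¹ h ∈ H := by
  intro h hh
  have hinj : Function.Injective (fun a : ↥H => (⟨β a, hβ a a.2⟩ : ↥H)) := by
    intro a b hab
    have := congrArg Subtype.val hab
    exact Subtype.ext (β.injective this)
  obtain ⟨a, ha⟩ := Finite.surjective_of_injective hinj ⟨h, hh⟩
  have h1 : β a = h := congrArg Subtype.val ha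
  rw [← h1, MulAut.inv_apply_self]
  exact a.2

/-- `Aut_F(Z(S))` has no element of order `p`. -/
theorem autGroup_center_pow_eq_one [Finite S] {p : ℕ} [hp : Fact p.Prime] (hS : IsPGroup p S)
    {F : FusionSystem S} (hF : F.IsSaturated p) {Z : Subgroup Ω}
    (hZ : Z = S ⊓ Subgroup.centralizer (S : Set Ω)) {δ : MulAut ↥Z} (hδ : δ ∈ F.autGroup Z)
    (hδp : δ ^ p = 1) : δ = 1 := by
  have hZS : Z ≤ S := by rw [hZ]; exact inf_le_left
  have hZc : ∀ z ∈ Z, ∀ s ∈ S, s * z = z * s := by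
    intro z hz s hs
    have hz' : z ∈ S ⊓ Subgroup.centralizer (S : Set Ω) := hZ ▸ hz
    exact (mem_center_inf_iff.1 hz').2 s hs
  have : Finite Z := finite_of_le hZS
  have : Finite (MulAut Z) := inferInstance
  have : Finite (F.autGroup Z) := inferInstance
  have hfn : F.IsFullyNormalized Z := by
    refine ⟨hZS, fun Q _ => ?_⟩
    have hN : normalizerIn S Z = S := by
      apply le_antisymm inf_le_left
      intro s hs
      refine mem_normalizerIn_iff.2 ⟨hs, mem_normalizer_of_forall_conj_mem ?_ ?_⟩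
      · intro y hy
        rw [hZc y hy s hs, mul_inv_cancel_right]
        exact hy
      · intro y hy
        rw [hZc y hy s⁻¹ (S.inv_mem hs), inv_mul_cancel_right]
        exact hy
    rw [hN]
    exact Subgroup.card_le_of_le inf_le_left
  have ha := (saturated_fullyNormalized hS hF hfn).2
  obtain ⟨R, hR⟩ := ha.2
  have hbot : autInducedBy S Z = ⊥ := by
    rw [eq_bot_iff]
    intro α hα
    obtain ⟨g, hg, H⟩ := (mem_autInducedBy_iff S Z α).1 hα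
    rw [Subgroup.mem_bot]
    ext x
    rw [H x, hZc x x.2 g hg, mul_inv_cancel_right]
    rfl
  have hnd : ¬ p ∣ Nat.card (F.autGroup Z) := by
    have h1 := R.not_dvd_index
    have h2 : (R : Subgroup (F.autGroup Z)) = ⊥ := by
      rw [hR, hbot]
      exact Subgroup.bot_subgroupOf _
    rw [h2, Subgroup.index_bot] at h1
    exact h1
  have h3 : (⟨δ, hδ⟩ : F.autGroup Z) ^ p = 1 := Subtype.ext hδp
  have h4 : orderOf (⟨δ, hδ⟩ : F.autGroup Z) ∣ p := orderOf_dvd_of_pow_eq_one h3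
  rcases (Nat.dvd_prime hp.out).1 h4 with h5 | h5
  · have := orderOf_eq_one_iff.1 h5
    exact congrArg Subtype.val this
  · exfalso
    apply hnd
    rw [← h5]
    exact orderOf_dvd_natCard _

/-- `θ` inverts `Z₀` and is trivial modulo `Z₀`. -/
def IsReflAut (Z Z₀ : Subgroup Ω) (θ : MulAut ↥Z) : Prop :=
  (∀ c : ↥Z, (c : Ω) ∈ Z₀ → θ c = c⁻¹) ∧ ∀ m : ↥Z, ((θ m * m⁻¹ : ↥Z) : Ω) ∈ Z₀

theorem reflAut_mul_eq_one [Finite S] {p : ℕ} [hp : Fact p.Prime] (hS : IsPGroup p S)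
    {F : FusionSystem S} (hF : F.IsSaturated p) {Z Z₀ : Subgroup Ω}
    (hZ : Z = S ⊓ Subgroup.centralizer (S : Set Ω)) (hZ₀p : ∀ c ∈ Z₀, c ^ p = 1)
    {θ₁ θ₂ : MulAut ↥Z} (h₁ : θ₁ ∈ F.autGroup Z) (h₂ : θ₂ ∈ F.autGroup Z)
    (r₁ : IsReflAut Z Z₀ θ₁) (r₂ : IsReflAut Z Z₀ θ₂) : θ₁ * θ₂ = 1 := by
  apply autGroup_center_pow_eq_one hS hF hZ (mul_mem h₁ h₂)
  have hZmem : ∀ z ∈ Z, z ∈ S ∧ ∀ s ∈ S, s * z = z * s := by
    intro z hz
    have hz' : z ∈ S ⊓ Subgroup.centralizer (S : Set Ω) := hZ ▸ hz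
    exact mem_center_inf_iff.1 hz'
  have hZcomm : ∀ a b : ↥Z, a * b = b * a := by
    intro a b
    apply Subtype.ext
    exact (hZmem b b.2).2 a (hZmem a a.2).1
  ext m
  obtain ⟨c₁, hc₁⟩ : ∃ c₁ : ↥Z, c₁ = θ₁ m * m⁻¹ := ⟨_, rfl⟩
  obtain ⟨c₂, hc₂⟩ : ∃ c₂ : ↥Z, c₂ = θ₂ m * m⁻¹ := ⟨_, rfl⟩
  have hc₁Z : (c₁ : Ω) ∈ Z₀ := by rw [hc₁]; exact r₁.2 m
  have hc₂Z : (c₂ : Ω) ∈ Z₀ := by rw [hc₂]; exact r₂.2 m
  have e₂ : θ₂ m = m * c₂ := by rw [hc₂, hZcomm (θ₂ m) m⁻¹, mul_inv_cancel_left]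
  have e₁ : θ₁ m = m * c₁ := by rw [hc₁, hZcomm (θ₁ m) m⁻¹, mul_inv_cancel_left]
  have hx : (θ₁ * θ₂) m = m * (c₁ * c₂⁻¹) := by
    rw [MulAut.mul_apply, e₂, map_mul, e₁, r₁.1 c₂ hc₂Z, mul_assoc]
  have hcc : ((c₁ * c₂⁻¹ : ↥Z) : Ω) ∈ Z₀ := Z₀.mul_mem hc₁Z (Z₀.inv_mem hc₂Z)
  have hcc' : (((c₁ * c₂⁻¹)⁻¹ : ↥Z) : Ω) ∈ Z₀ := Z₀.inv_mem hcc
  have hc : (θ₁ * θ₂) (c₁ * c₂⁻¹) = c₁ * c₂⁻¹ := by
    rw [MulAut.mul_apply, r₂.1 _ hcc, r₁.1 _ hcc', inv_inv]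
  have hpow := aut_pow_apply (θ₁ * θ₂) m (c₁ * c₂⁻¹) hx hc p
  rw [hpow]
  have hcp : (c₁ * c₂⁻¹) ^ p = 1 := by
    apply Subtype.ext
    have := hZ₀p _ hcc
    rw [Subgroup.coe_pow]
    exact this
  rw [hcp, mul_one]
  rfl

theorem reflAut_unique [Finite S] {p : ℕ} [hp : Fact p.Prime] (hS : IsPGroup p S)
    {F : FusionSystem S} (hF : F.IsSaturated p) {Z Z₀ : Subgroup Ω}
    (hZ : Z = S ⊓ Subgroup.centralizer (S : Set Ω)) (hZ₀p : ∀ c ∈ Z₀, c ^ p = 1)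
    {θ₁ θ₂ : MulAut ↥Z} (h₁ : θ₁ ∈ F.autGroup Z) (h₂ : θ₂ ∈ F.autGroup Z)
    (r₁ : IsReflAut Z Z₀ θ₁) (r₂ : IsReflAut Z Z₀ θ₂) : θ₁ = θ₂ := by
  have h11 := reflAut_mul_eq_one hS hF hZ hZ₀p h₁ h₁ r₁ r₁
  have h12 := reflAut_mul_eq_one hS hF hZ hZ₀p h₁ h₂ r₁ r₂
  exact mul_left_cancel (h11.trans h12.symm)

/-- `Z(S) ∩ [S, S]` is generated by `[w, x]`, of order `p`. -/
theorem AbIdx.center_inf_commutator_eq {p : ℕ} {A : Subgroup Ω} (h : AbIdx p S A) {x : Ω}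
    (hx : x ∈ S) (hxA : x ∉ A)
    (hZ2A : (Subgroup.upperCentralSeries ↥S 2).map S.subtype ≤ A) {w : Ω}
    (hw : w ∈ (Subgroup.upperCentralSeries ↥S 2).map S.subtype)
    (hwZ : w ∉ S ⊓ Subgroup.centralizer (S : Set Ω))
    (hwp : w ^ p ∈ S ⊓ Subgroup.centralizer (S : Set Ω))
    (hgen : ∀ g ∈ (Subgroup.upperCentralSeries ↥S 2).map S.subtype,
      ∃ k : ℕ, g * (w ^ k)⁻¹ ∈ S ⊓ Subgroup.centralizer (S : Set Ω)) :
    (S ⊓ Subgroup.centralizer (S : Set Ω)) ⊓ ⁅S, S⁆ = Subgroup.zpowers (w * x * w⁻¹ * x⁻¹) ∧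
      (w * x * w⁻¹ * x⁻¹) ^ p = 1 ∧ w * x * w⁻¹ * x⁻¹ ≠ 1 := by
  have hwA := hZ2A hw
  have hz₁Z : w * x * w⁻¹ * x⁻¹ ∈ S ⊓ Subgroup.centralizer (S : Set Ω) :=
    (mem_Z2_iff.1 hw).2 x hx
  have hz₁S' : w * x * w⁻¹ * x⁻¹ ∈ ⁅S, S⁆ := by
    rw [← commutatorElement_def]
    exact Subgroup.commutator_mem_commutator (h.le hwA) hx
  have hz₁1 : w * x * w⁻¹ * x⁻¹ ≠ 1 := by
    intro h1
    apply hwZ
    rw [mem_center_inf_iff]
    refine ⟨h.le hwA, h.central_of_comm hx hxA hwA ?_⟩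
    have := congrArg (fun y => y * x * w) h1
    simpa [mul_assoc] using this
  have hz₁p : (w * x * w⁻¹ * x⁻¹) ^ p = 1 := by
    rw [← h.comm_pow hwA hx, ← (mem_center_inf_iff.1 hwp).2 x hx]
    group
  refine ⟨?_, hz₁p, hz₁1⟩
  apply le_antisymm
  · rintro g ⟨hgZ, hgS'⟩
    obtain ⟨a, ha, rfl⟩ := h.exists_of_mem_commutator hx hxA hgS'
    have haZ2 := h.mem_Z2_of_comm hx hxA ha hgZ
    obtain ⟨k, hk⟩ := hgen a haZ2
    have hcA : a * (w ^ k)⁻¹ ∈ A := A.mul_mem ha (A.inv_mem (A.pow_mem hwA k))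
    have e1 : a = (a * (w ^ k)⁻¹) * w ^ k := by group
    have e2 : (a * (w ^ k)⁻¹) * x * (a * (w ^ k)⁻¹)⁻¹ * x⁻¹ = 1 := by
      rw [← (mem_center_inf_iff.1 hk).2 x hx]
      group
    have e3 : a * x * a⁻¹ * x⁻¹ = (w * x * w⁻¹ * x⁻¹) ^ k := by
      calc a * x * a⁻¹ * x⁻¹
          = ((a * (w ^ k)⁻¹) * w ^ k) * x * ((a * (w ^ k)⁻¹) * w ^ k)⁻¹ * x⁻¹ := by rw [← e1]
        _ = _ := by rw [h.comm_mul hcA (A.pow_mem hwA k) hx, e2, one_mul, h.comm_pow hwA hx]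
    rw [e3]
    exact Subgroup.pow_mem _ (Subgroup.mem_zpowers _) k
  · rw [Subgroup.zpowers_le]
    exact ⟨hz₁Z, hz₁S'⟩

/-- For an abelian essential subgroup `P = Z(S)⟨x⟩` and a separating `γ ∈ Aut_F(P)`, the group
`Aut_F(Z(S))` contains a "reflection" whose fixed points are `Z(S) ∩ γ⁻¹(Z(S))`. -/
theorem exists_refl_of_typeH [Finite S] {p : ℕ} [hp : Fact p.Prime] (hp2 : p ≠ 2)
    (hS : IsPGroup p S) {F : FusionSystem S} (hF : F.IsSaturated p) {A P : Subgroup Ω}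
    (h : AbIdx p S A) (hna : ∃ g ∈ S, ∃ k ∈ S, g * k ≠ k * g) (hP : F.IsEssential p P) {x : Ω}
    (hxP : x ∈ P) (hxA : x ∉ A) (hab : ∀ g ∈ P, ∀ k ∈ P, g * k = k * g)
    (hZ2A : (Subgroup.upperCentralSeries ↥S 2).map S.subtype ≤ A) {w : Ω}
    (hw : w ∈ (Subgroup.upperCentralSeries ↥S 2).map S.subtype)
    (hwZ : w ∉ S ⊓ Subgroup.centralizer (S : Set Ω))
    (hwp : w ^ p ∈ S ⊓ Subgroup.centralizer (S : Set Ω))
    (hgen : ∀ g ∈ (Subgroup.upperCentralSeries ↥S 2).map S.subtype,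
      ∃ k : ℕ, g * (w ^ k)⁻¹ ∈ S ⊓ Subgroup.centralizer (S : Set Ω))
    {γ : MulAut P} (hγ : γ ∈ F.autGroup P) (hsep : Sep S P γ)
    {Z Z₀ : Subgroup Ω} (hZ : Z = S ⊓ Subgroup.centralizer (S : Set Ω)) (hZ₀ : Z₀ = Z ⊓ ⁅S, S⁆) :
    ∃ θ ∈ F.autGroup Z, IsReflAut Z Z₀ θ ∧ (∀ m : ↥Z, θ m = m ↔ autFun P γ m ∈ A) ∧
      ∀ m : ↥Z, ∃ a : ↥Z, θ a = a ∧ ((m * a⁻¹ : ↥Z) : Ω) ∈ Z₀ := by
  subst hZ
  subst hZ₀
  have hPS : P ≤ S := hP.1.1
  have hxS := hPS hxP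
  have : Finite P := finite_of_le hPS
  have hγM : Mor F P (autFun P γ) := (Cfsg.Agent.H86.mem_autGroup_iff hPS γ).1 hγ
  have hZPA := center_le_essential h hna hP.1
  have hZP : S ⊓ Subgroup.centralizer (S : Set Ω) ≤ P := fun z hz => (hZPA hz).1
  have hZA : S ⊓ Subgroup.centralizer (S : Set Ω) ≤ A := fun z hz => (hZPA hz).2
  have hP0 := oliver_abelian h hna hP hxP hxA hab
  have hwA : w ∈ A := hZ2A hw
  have hwS : w ∈ S := h.le hwA
  have hwN : w ∈ normalizerIn S P := Z2_le_normalizerIn hPS hZP hw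
  have hwP : w ∉ P := fun hc => hwZ (hP0 ▸ (⟨hc, hwA⟩ : w ∈ P ⊓ A))
  obtain ⟨hZ0eq, hz₁p, hz₁1⟩ := h.center_inf_commutator_eq hxS hxA hZ2A hw hwZ hwp hgen
  obtain ⟨z₁, hz₁def⟩ : ∃ z₁ : Ω, z₁ = w * x * w⁻¹ * x⁻¹ := ⟨_, rfl⟩
  rw [← hz₁def] at hZ0eq hz₁p hz₁1
  have hz₁Z₀ : z₁ ∈ (S ⊓ Subgroup.centralizer (S : Set Ω)) ⊓ ⁅S, S⁆ := by
    rw [hZ0eq]
    exact Subgroup.mem_zpowers z₁
  have hz₁Z : z₁ ∈ S ⊓ Subgroup.centralizer (S : Set Ω) := hz₁Z₀.1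
  have hz₁P : z₁ ∈ P := hZP hz₁Z
  have hz₁c : ∀ s ∈ S, s * z₁ = z₁ * s := (mem_center_inf_iff.1 hz₁Z).2
  have hGP : ∀ γ' : MulAut P, γ' ∈ F.autGroup P → Sep S P γ' → autFun P γ' z₁ ∉ A := by
    intro γ' hγ' hsep' hc
    rw [hz₁def] at hc
    exact hwP (oliver_tl hS hF h hP hxP hxA hγ' hsep' hwA hwN hc)
  have hGP1 := hGP γ hγ hsep
  have hGP2 := hGP γ⁻¹ (inv_mem hγ) hsep.inv
  obtain ⟨τ, hτ⟩ := exists_conjAut (mem_normalizerIn_iff.1 hwN).2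
  have hτT : τ ∈ autInducedBy S P := (mem_autInducedBy_iff S P τ).2 ⟨w, hwS, hτ⟩
  have hτG : τ ∈ F.autGroup P := autInducedBy_le_autGroup F hPS hτT
  have hcommP : ∀ a b : ↥P, a * b = b * a := fun a b => Subtype.ext (hab a a.2 b b.2)
  obtain ⟨z, hz⟩ : ∃ z : ↥P, (z : Ω) = z₁ := ⟨⟨z₁, hz₁P⟩, rfl⟩
  have hzp : z ^ p = 1 := by
    apply Subtype.ext
    rw [Subgroup.coe_pow, hz, hz₁p]
    rfl
  have hτform : ∀ m : ↥P, ∃ i : ℤ, τ m = m * z ^ i := by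
    intro m
    have hmS := hPS m.2
    have hc0 := (mem_Z2_iff.1 hw).2 _ hmS
    have hc1 : w * (m : Ω) * w⁻¹ * (m : Ω)⁻¹ ∈
        (S ⊓ Subgroup.centralizer (S : Set Ω)) ⊓ ⁅S, S⁆ := by
      refine ⟨hc0, ?_⟩
      rw [← commutatorElement_def]
      exact Subgroup.commutator_mem_commutator hwS hmS
    rw [hZ0eq] at hc1
    obtain ⟨i, hi⟩ := Subgroup.mem_zpowers_iff.1 hc1
    refine ⟨i, Subtype.ext ?_⟩
    rw [hτ, Subgroup.coe_mul, Subgroup.coe_zpow, hz, hi]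
    have hcc := (mem_center_inf_iff.1 hc0).2 _ hmS
    rw [hcc]
    group
  have hτz : τ z = z := by
    apply Subtype.ext
    rw [hτ, hz, hz₁c w hwS, mul_inv_cancel_right]
  have hfixτ : ∀ m : ↥P, τ m = m → (m : Ω) ∈ S ⊓ Subgroup.centralizer (S : Set Ω) := by
    intro m hm
    have h1 : w * (m : Ω) * w⁻¹ = m := by rw [← hτ, hm]
    have h2 : w * (m : Ω) = m * w := by
      have := congrArg (fun y => y * w) h1
      simpa using this
    have hmA : (m : Ω) ∈ A := by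
      by_contra hmA
      apply hwZ
      rw [mem_center_inf_iff]
      exact ⟨hwS, h.central_of_comm (hPS m.2) hmA hwA h2⟩
    rw [← hP0]
    exact ⟨m.2, hmA⟩
  have hτfix : ∀ m : ↥P, (m : Ω) ∈ S ⊓ Subgroup.centralizer (S : Set Ω) → τ m = m := by
    intro m hm
    apply Subtype.ext
    rw [hτ, (mem_center_inf_iff.1 hm).2 w hwS, mul_inv_cancel_right]
  obtain ⟨y, hy⟩ : ∃ y : ↥P, y = γ⁻¹ z := ⟨_, rfl⟩
  have hyA : (y : Ω) ∉ A := by
    rw [hy, ← autFun_apply, hz]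
    exact hGP2
  have hγzA : ((γ z : ↥P) : Ω) ∉ A := by
    rw [← autFun_apply, hz]
    exact hGP1
  obtain ⟨σ, hσ⟩ : ∃ σ : MulAut ↥P, σ = γ⁻¹ * τ * γ := ⟨_, rfl⟩
  have hσG : σ ∈ F.autGroup P := by
    rw [hσ]
    exact mul_mem (mul_mem (inv_mem hγ) hτG) hγ
  have hσy : σ y = y := by
    rw [hσ, hy, MulAut.mul_apply, MulAut.mul_apply, MulAut.apply_inv_self, hτz]
  have hσform : ∀ m : ↥P, ∃ l : ℤ, σ m = m * y ^ l := by
    intro m
    obtain ⟨i, hi⟩ := hτform (γ m)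
    refine ⟨i, ?_⟩
    rw [hσ, MulAut.mul_apply, MulAut.mul_apply, hi, map_mul, MulAut.inv_apply_self, map_zpow, hy]
  have hyp : y ^ p = 1 := by rw [hy, ← map_pow, hzp, map_one]
  obtain ⟨i₀, hi₀⟩ := hτform y
  have hi₀ne : z ^ i₀ ≠ 1 := by
    intro hc
    rw [hc, mul_one] at hi₀
    exact hyA (hZA (hfixτ y hi₀))
  obtain ⟨l₀, hl₀⟩ := hσform z
  have hl₀ne : y ^ l₀ ≠ 1 := by
    intro hc
    rw [hc, mul_one, hσ, MulAut.mul_apply, MulAut.mul_apply] at hl₀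
    have h1 : τ (γ z) = γ z := by
      have := congrArg γ hl₀
      rwa [MulAut.apply_inv_self] at this
    exact hγzA (hZA (hfixτ _ h1))
  obtain ⟨z', hz'⟩ : ∃ z' : ↥P, z' = z ^ i₀ := ⟨_, rfl⟩
  have hτz' : τ z' = z' := by rw [hz', map_zpow, hτz]
  have hτy' : τ y = y * z' := by rw [hz']; exact hi₀
  have hσz'e : σ z' = z' * y ^ (l₀ * i₀) := by
    rw [hz', map_zpow, hl₀, (show Commute z (y ^ l₀) from hcommP _ _).mul_zpow, ← zpow_mul]
  have hσye : σ (y ^ (l₀ * i₀)) = y ^ (l₀ * i₀) := by rw [map_zpow, hσy]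
  obtain ⟨n, hn⟩ := exists_zpow_inv hyp hzp hl₀ne hi₀ne
  obtain ⟨σ', hσ'⟩ : ∃ σ' : MulAut ↥P, σ' = σ ^ n := ⟨_, rfl⟩
  have hσ'G : σ' ∈ F.autGroup P := by
    rw [hσ']
    exact Subgroup.zpow_mem _ hσG n
  have hσ'fix : ∀ m : ↥P, σ m = m → σ' m = m := by
    intro m hm
    have := aut_zpow_apply σ m 1 (by rw [mul_one]; exact hm) (map_one σ) n
    rw [one_zpow, mul_one] at this
    rw [hσ']
    exact this
  have hσ'y : σ' y = y := hσ'fix y hσy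
  have hσ'z' : σ' z' = z' * y⁻¹ := by
    rw [hσ', aut_zpow_apply σ z' _ hσz'e hσye n, hn]
  obtain ⟨e₂, he₂⟩ := exists_zpow_eq_of_prime hzp hi₀ne
  have hze : z' ^ e₂ = z := by rw [hz']; exact he₂
  have hτform' : ∀ m : ↥P, ∃ i : ℤ, τ m = m * z' ^ i := by
    intro m
    obtain ⟨i, hi⟩ := hτform m
    refine ⟨e₂ * i, ?_⟩
    rw [zpow_mul, hze]
    exact hi
  have hσform' : ∀ m : ↥P, ∃ l : ℤ, σ' m = m * y ^ l := by
    intro m
    obtain ⟨l, hl⟩ := hσform m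
    refine ⟨l * n, ?_⟩
    rw [hσ', aut_zpow_apply σ m (y ^ l) hl (by rw [map_zpow, hσy]) n, zpow_mul]
  obtain ⟨hεz', hεy, hετ⟩ := sl2_element hcommP τ σ' z' y hτz' hτy' hσ'y hσ'z' hτform' hσform'
  obtain ⟨ε, hε⟩ : ∃ ε : MulAut ↥P, ε = (τ * σ' * τ) * (τ * σ' * τ) := ⟨_, rfl⟩
  rw [← hε] at hεz' hεy hετ
  have hεG : ε ∈ F.autGroup P := by
    rw [hε]
    exact mul_mem (mul_mem (mul_mem hτG hσ'G) hτG) (mul_mem (mul_mem hτG hσ'G) hτG)
  have hεz : ε z = z⁻¹ := by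
    rw [← hze, map_zpow, hεz', inv_zpow]
  have hεfix : ∀ m : ↥P, (m : Ω) ∈ S ⊓ Subgroup.centralizer (S : Set Ω) →
      autFun P γ m ∈ A → ε m = m := by
    intro m hm hmA
    have h1 : τ m = m := hτfix m hm
    have h2 : σ m = m := by
      rw [hσ, MulAut.mul_apply, MulAut.mul_apply]
      have h3 : τ (γ m) = γ m := by
        apply hτfix
        rw [← hP0]
        refine ⟨(γ m).2, ?_⟩
        rw [← autFun_apply]
        exact hmA
      rw [h3, MulAut.inv_apply_self]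
    have h3 : σ' m = m := hσ'fix m h2
    rw [hε]
    simp only [MulAut.mul_apply, h1, h3]
  have hεZ : ∀ m : ↥P, (m : Ω) ∈ S ⊓ Subgroup.centralizer (S : Set Ω) →
      ((ε m : ↥P) : Ω) ∈ S ⊓ Subgroup.centralizer (S : Set Ω) := by
    intro m hm
    apply hfixτ
    have h1 : τ (ε m) = (τ * ε) m := rfl
    rw [h1, ← hετ, MulAut.mul_apply, hτfix m hm]
  have : Finite ↥(S ⊓ Subgroup.centralizer (S : Set Ω)) := finite_of_le inf_le_left
  have hεM : Mor F P (autFun P ε) := (Cfsg.Agent.H86.mem_autGroup_iff hPS ε).1 hεG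
  have hθM : Mor F (S ⊓ Subgroup.centralizer (S : Set Ω)) (autFun P ε) := hεM.restrict hZP
  have himg : imgS (S ⊓ Subgroup.centralizer (S : Set Ω)) (autFun P ε) =
      S ⊓ Subgroup.centralizer (S : Set Ω) := by
    apply imgS_eq_of_maps hθM
    intro m hm
    rw [autFun_of_mem ε (hZP hm)]
    exact hεZ ⟨m, hZP hm⟩ hm
  have hθ : ∀ m : ↥(S ⊓ Subgroup.centralizer (S : Set Ω)),
      ((mkAut hθM himg m : ↥(S ⊓ Subgroup.centralizer (S : Set Ω))) : Ω) =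
        ((ε ⟨m, hZP m.2⟩ : ↥P) : Ω) := by
    intro m
    rw [mkAut_apply, autFun_of_mem ε (hZP m.2)]
  have hdec : ∀ m ∈ S ⊓ Subgroup.centralizer (S : Set Ω),
      ∃ k : ℕ, ∃ a ∈ S ⊓ Subgroup.centralizer (S : Set Ω), autFun P γ a ∈ A ∧ m = a * z₁ ^ k := by
    intro m hm
    obtain ⟨k, a, haP, haA, e⟩ := oliver_decomp h hPS hγM hz₁P hGP1 m (hZP hm)
    refine ⟨k, a, ?_, haA, e⟩
    have : a = m * (z₁ ^ k)⁻¹ := by rw [e]; group
    rw [this]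
    exact Subgroup.mul_mem _ hm (Subgroup.inv_mem _ (Subgroup.pow_mem _ hz₁Z k))
  have hεdec : ∀ (a : Ω) (ha : a ∈ S ⊓ Subgroup.centralizer (S : Set Ω)) (k : ℕ),
      autFun P γ a ∈ A → ∀ hm : a * z₁ ^ k ∈ P,
      ((ε ⟨a * z₁ ^ k, hm⟩ : ↥P) : Ω) = a * (z₁ ^ k)⁻¹ := by
    intro a ha k haA hm
    have e1 : (⟨a * z₁ ^ k, hm⟩ : ↥P) = ⟨a, hZP ha⟩ * z ^ k := by
      apply Subtype.ext
      rw [Subgroup.coe_mul, Subgroup.coe_pow, hz]
    rw [e1, map_mul, map_pow, hεz, hεfix ⟨a, hZP ha⟩ ha haA, Subgroup.coe_mul, Subgroup.coe_pow,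
      Subgroup.coe_inv, hz, inv_pow]
  refine ⟨mkAut hθM himg, mkAut_mem hθM himg, ⟨?_, ?_⟩, ?_, ?_⟩
  · intro c hc
    rw [hZ0eq] at hc
    obtain ⟨j, hj⟩ := Subgroup.mem_zpowers_iff.1 hc
    apply Subtype.ext
    rw [hθ]
    have e1 : (⟨(c : Ω), hZP c.2⟩ : ↥P) = z ^ j := by
      apply Subtype.ext
      rw [Subgroup.coe_zpow, hz, hj]
    rw [e1, map_zpow, hεz, Subgroup.coe_zpow, Subgroup.coe_inv, hz, Subgroup.coe_inv, ← hj,
      inv_zpow]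
  · intro m
    obtain ⟨k, a, ha, haA, e⟩ := hdec m m.2
    rw [hZ0eq]
    have hm' : a * z₁ ^ k ∈ P := e ▸ hZP m.2
    have e2 : (⟨(m : Ω), hZP m.2⟩ : ↥P) = ⟨a * z₁ ^ k, hm'⟩ := Subtype.ext e
    have hu : (z₁ ^ k)⁻¹ * (z₁ ^ k)⁻¹ ∈ S :=
      S.mul_mem (S.inv_mem (S.pow_mem (hPS hz₁P) k)) (S.inv_mem (S.pow_mem (hPS hz₁P) k))
    have hac := (mem_center_inf_iff.1 ha).2 _ hu
    have e1 : ((mkAut hθM himg m * m⁻¹ : ↥(S ⊓ Subgroup.centralizer (S : Set Ω))) : Ω) =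
        (z₁ ^ k)⁻¹ * (z₁ ^ k)⁻¹ := by
      rw [Subgroup.coe_mul, hθ, Subgroup.coe_inv, e2, hεdec a ha k haA hm', e]
      calc a * (z₁ ^ k)⁻¹ * (a * z₁ ^ k)⁻¹ = a * ((z₁ ^ k)⁻¹ * (z₁ ^ k)⁻¹) * a⁻¹ := by group
        _ = ((z₁ ^ k)⁻¹ * (z₁ ^ k)⁻¹) * a * a⁻¹ := by rw [← hac]
        _ = _ := by rw [mul_inv_cancel_right]
    rw [e1]
    exact Subgroup.mul_mem _ (Subgroup.inv_mem _ (Subgroup.pow_mem _ (Subgroup.mem_zpowers z₁) k))
      (Subgroup.inv_mem _ (Subgroup.pow_mem _ (Subgroup.mem_zpowers z₁) k))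
  · intro m
    obtain ⟨k, a, ha, haA, e⟩ := hdec m m.2
    have hm' : a * z₁ ^ k ∈ P := e ▸ hZP m.2
    have e2 : (⟨(m : Ω), hZP m.2⟩ : ↥P) = ⟨a * z₁ ^ k, hm'⟩ := Subtype.ext e
    constructor
    · intro hfix
      have h1 := congrArg Subtype.val hfix
      rw [hθ, e2, hεdec a ha k haA hm', e] at h1
      have h3 := mul_left_cancel h1
      have h2 : z₁ ^ (2 * k) = 1 := by
        rw [two_mul, pow_add]
        nth_rewrite 1 [← h3]
        rw [inv_mul_cancel]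
      have h4 : p ∣ 2 * k := by
        rw [← orderOf_eq_prime hz₁p hz₁1]
        exact orderOf_dvd_of_pow_eq_one h2
      have h5 : p ∣ k := by
        rcases (Nat.Prime.dvd_mul hp.out).1 h4 with h6 | h6
        · exfalso
          exact hp2 ((Nat.prime_dvd_prime_iff_eq hp.out Nat.prime_two).1 h6)
        · exact h6
      have h6 : z₁ ^ k = 1 := by
        obtain ⟨c, rfl⟩ := h5
        rw [pow_mul, hz₁p, one_pow]
      rw [e, h6, mul_one]
      exact haA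
    · intro hmA
      apply Subtype.ext
      rw [hθ]
      exact congrArg Subtype.val (hεfix ⟨m, hZP m.2⟩ m.2 hmA)
  · intro m
    obtain ⟨k, a, ha, haA, e⟩ := hdec m m.2
    refine ⟨⟨a, ha⟩, ?_, ?_⟩
    · apply Subtype.ext
      rw [hθ]
      exact congrArg Subtype.val (hεfix ⟨a, hZP ha⟩ ha haA)
    · rw [hZ0eq, Subgroup.coe_mul, Subgroup.coe_inv, e]
      have hac := (mem_center_inf_iff.1 ha).2 (z₁ ^ k) (S.pow_mem (hPS hz₁P) k)
      rw [← hac, mul_inv_cancel_right]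
      exact Subgroup.pow_mem _ (Subgroup.mem_zpowers z₁) k

theorem center_char {Z P : Subgroup Ω} (hZP : Z ≤ P) (hZc : ∀ z ∈ Z, ∀ y ∈ P, y * z = z * y)
    (hcP : ∀ g ∈ P, (∀ y ∈ P, y * g = g * y) → g ∈ Z) (α : MulAut P) :
    ∀ z ∈ Z, autFun P α z ∈ Z := by
  intro z hz
  have hzP := hZP hz
  apply hcP _ (autFun_mem α hzP)
  intro y hy
  have hy' : autFun P α⁻¹ y ∈ P := autFun_mem α⁻¹ hy
  have e : autFun P α (autFun P α⁻¹ y) = y := autFun_apply_inv α hy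
  rw [← e, ← autFun_map_mul α hy' hzP, ← autFun_map_mul α hzP hy']
  congr 1
  exact hZc z hz _ hy'

theorem mor_comm_mem {F : FusionSystem S} {P : Subgroup Ω} {f : Ω → Ω} (hf : Mor F P f) {a x : Ω}
    (ha : a ∈ P) (hx : x ∈ P) : f (a * x * a⁻¹ * x⁻¹) ∈ ⁅S, S⁆ := by
  rw [hf.map_mul (P.mul_mem (P.mul_mem ha hx) (P.inv_mem ha)) (P.inv_mem hx),
    hf.map_mul (P.mul_mem ha hx) (P.inv_mem ha), hf.map_mul ha hx, hf.map_inv ha, hf.map_inv hx,
    ← commutatorElement_def]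
  exact Subgroup.commutator_mem_commutator (hf.mem ha) (hf.mem hx)

/-- For an abelian essential `Q = Z(S)⟨x⟩`, an automorphism in `Aut_F(Q)` either preserves `Z(S)` or
is separating. -/
theorem typeH_dichotomy {p : ℕ} [hp : Fact p.Prime] {F : FusionSystem S} {A Q : Subgroup Ω}
    (h : AbIdx p S A) (hna : ∃ g ∈ S, ∃ k ∈ S, g * k ≠ k * g) (hQ : F.IsEssential p Q) {x : Ω}
    (hxQ : x ∈ Q) (hxA : x ∉ A) (hab : ∀ g ∈ Q, ∀ k ∈ Q, g * k = k * g) {w : Ω}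
    (hw : w ∈ (Subgroup.upperCentralSeries ↥S 2).map S.subtype)
    (hwA : w ∈ A)
    (hwZ : w ∉ S ⊓ Subgroup.centralizer (S : Set Ω))
    (hwp : w ^ p ∈ S ⊓ Subgroup.centralizer (S : Set Ω))
    (hgen : ∀ g ∈ (Subgroup.upperCentralSeries ↥S 2).map S.subtype,
      ∃ k : ℕ, g * (w ^ k)⁻¹ ∈ S ⊓ Subgroup.centralizer (S : Set Ω))
    (δ : MulAut Q) :
    (∀ m ∈ S ⊓ Subgroup.centralizer (S : Set Ω),
      autFun Q δ m ∈ S ⊓ Subgroup.centralizer (S : Set Ω)) ∨ Sep S Q δ := by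
  have hQS : Q ≤ S := hQ.1.1
  have hxS := hQS hxQ
  have hZQA := center_le_essential h hna hQ.1
  have hZQ : S ⊓ Subgroup.centralizer (S : Set Ω) ≤ Q := fun z hz => (hZQA hz).1
  have hQ0 := oliver_abelian h hna hQ hxQ hxA hab
  have hwS : w ∈ S := h.le hwA
  have hwN : w ∈ normalizerIn S Q := Z2_le_normalizerIn hQS hZQ hw
  obtain ⟨τ, hτ⟩ := exists_conjAut (mem_normalizerIn_iff.1 hwN).2
  have hτT : τ ∈ autInducedBy S Q := (mem_autInducedBy_iff S Q τ).2 ⟨w, hwS, hτ⟩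
  by_cases hc : δ * τ * δ⁻¹ ∈ autInducedBy S Q
  · left
    obtain ⟨s, hs, Hs⟩ := (mem_autInducedBy_iff S Q _).1 hc
    have hsN : s ∈ normalizerIn S Q :=
      mem_normalizerIn_iff.2 ⟨hs, mem_normalizer_of_induces Hs⟩
    obtain ⟨b, ⟨hbA, hbN⟩, e, he, rfl⟩ := h.normalizer_decomp hQS hxQ hxA s hsN
    have Hb : ∀ m : ↥Q, (((δ * τ * δ⁻¹) m : ↥Q) : Ω) = b * m * b⁻¹ := by
      intro m
      rw [Hs]
      have h1 := hab e he m m.2
      calc b * e * (m : Ω) * (b * e)⁻¹ = b * (e * (m : Ω)) * e⁻¹ * b⁻¹ := by group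
        _ = b * ((m : Ω) * e) * e⁻¹ * b⁻¹ := by rw [h1]
        _ = _ := by group
    have hbZ : b ∉ S ⊓ Subgroup.centralizer (S : Set Ω) := by
      intro hbZ
      have h1 : δ * τ * δ⁻¹ = 1 := by
        ext m
        rw [Hb, ← (mem_center_inf_iff.1 hbZ).2 m (hQS m.2), mul_inv_cancel_right]
        rfl
      have h2 : τ = 1 := by
        have := congrArg (fun y => δ⁻¹ * y * δ) h1
        simpa [mul_assoc] using this
      have h3 : x = w * x * w⁻¹ := by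
        have := hτ ⟨x, hxQ⟩
        rw [h2] at this
        exact this
      apply hwZ
      rw [mem_center_inf_iff]
      refine ⟨hwS, h.central_of_comm hxS hxA hwA ?_⟩
      have := congrArg (fun y => y * w) h3
      simpa using this.symm
    intro m hm
    have hmQ : m ∈ Q := hZQ hm
    have h1 : (δ * τ * δ⁻¹) (δ ⟨m, hmQ⟩) = δ ⟨m, hmQ⟩ := by
      rw [MulAut.mul_apply, MulAut.mul_apply, MulAut.inv_apply_self]
      congr 1
      apply Subtype.ext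
      rw [hτ]
      show w * m * w⁻¹ = m
      rw [(mem_center_inf_iff.1 hm).2 w hwS, mul_inv_cancel_right]
    have h2 := congrArg Subtype.val h1
    rw [Hb] at h2
    have h3 : b * ((δ ⟨m, hmQ⟩ : ↥Q) : Ω) = ((δ ⟨m, hmQ⟩ : ↥Q) : Ω) * b := by
      have := congrArg (fun y => y * b) h2
      simpa using this
    rw [autFun_of_mem δ hmQ]
    have hnA : ((δ ⟨m, hmQ⟩ : ↥Q) : Ω) ∈ A := by
      by_contra hnA
      apply hbZ
      rw [mem_center_inf_iff]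
      exact ⟨h.le hbA, h.central_of_comm (hQS (δ ⟨m, hmQ⟩).2) hnA hbA h3⟩
    rw [← hQ0]
    exact ⟨(δ ⟨m, hmQ⟩).2, hnA⟩
  · right
    intro α hα hα'
    obtain ⟨s, hs, Hs⟩ := (mem_autInducedBy_iff S Q α).1 hα
    have hsN : s ∈ normalizerIn S Q :=
      mem_normalizerIn_iff.2 ⟨hs, mem_normalizer_of_induces Hs⟩
    obtain ⟨b, ⟨hbA, hbN⟩, e, he, rfl⟩ := h.normalizer_decomp hQS hxQ hxA s hsN
    have hbZ2 : b ∈ (Subgroup.upperCentralSeries ↥S 2).map S.subtype := by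
      apply h.mem_Z2_of_comm hxS hxA hbA
      rw [← hQ0]
      exact h.comm_mem_inf hQS hbA hbN hxQ
    obtain ⟨k, hk⟩ := hgen b hbZ2
    have hαk : α = τ ^ k := by
      ext m
      rw [Hs, conjAut_pow hτ k m]
      have h1 := hab e he m m.2
      have hu : w ^ k * (m : Ω) * (w ^ k)⁻¹ ∈ S :=
        S.mul_mem (S.mul_mem (S.pow_mem hwS k) (hQS m.2)) (S.inv_mem (S.pow_mem hwS k))
      have h2 := (mem_center_inf_iff.1 hk).2 _ hu
      calc b * e * (m : Ω) * (b * e)⁻¹ = b * (e * (m : Ω)) * e⁻¹ * b⁻¹ := by group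
        _ = b * ((m : Ω) * e) * e⁻¹ * b⁻¹ := by rw [h1]
        _ = (b * (w ^ k)⁻¹) * (w ^ k * (m : Ω) * (w ^ k)⁻¹) * (b * (w ^ k)⁻¹)⁻¹ := by group
        _ = (w ^ k * (m : Ω) * (w ^ k)⁻¹) * (b * (w ^ k)⁻¹) * (b * (w ^ k)⁻¹)⁻¹ := by rw [← h2]
        _ = _ := by rw [mul_inv_cancel_right]
    by_cases hk1 : τ ^ k = 1
    · rw [hαk, hk1]
      exact Subgroup.one_mem _
    · exfalso
      apply hc
      have hτp : τ ^ p = 1 := by
        ext m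
        rw [conjAut_pow hτ p m, ← (mem_center_inf_iff.1 hwp).2 m (hQS m.2), mul_inv_cancel_right]
        rfl
      have hk1' : τ ^ (k : ℤ) ≠ 1 := by rwa [zpow_natCast]
      obtain ⟨e', he'⟩ := exists_zpow_eq_of_prime hτp hk1'
      have h3 : δ * τ * δ⁻¹ = (δ * α * δ⁻¹) ^ e' := by
        rw [conj_zpow, hαk, ← zpow_natCast, he']
      rw [h3]
      exact Subgroup.zpow_mem _ hα' e'

theorem sup_zpowers_comm {Z : Subgroup Ω} {x : Ω} (hZc : ∀ z ∈ Z, ∀ g ∈ Z ⊔ Subgroup.zpowers x,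
    g * z = z * g) : ∀ g ∈ Z ⊔ Subgroup.zpowers x, ∀ k ∈ Z ⊔ Subgroup.zpowers x, g * k = k * g := by
  have hx : ∀ g ∈ Z ⊔ Subgroup.zpowers x, g * x = x * g := by
    have : Z ⊔ Subgroup.zpowers x ≤ Subgroup.centralizer ({x} : Set Ω) := by
      apply sup_le
      · intro z hz
        rw [Subgroup.mem_centralizer_iff]
        intro y hy
        rw [Set.mem_singleton_iff] at hy
        subst hy
        exact hZc z hz y (Subgroup.mem_sup_right (Subgroup.mem_zpowers y))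
      · rw [Subgroup.zpowers_le, Subgroup.mem_centralizer_iff]
        intro y hy
        rw [Set.mem_singleton_iff] at hy
        rw [hy]
    intro g hg
    have := Subgroup.mem_centralizer_iff.1 (this hg) x (Set.mem_singleton x)
    exact this.symm
  intro g hg
  have : Z ⊔ Subgroup.zpowers x ≤ Subgroup.centralizer ({g} : Set Ω) := by
    apply sup_le
    · intro z hz
      rw [Subgroup.mem_centralizer_iff]
      intro y hy
      rw [Set.mem_singleton_iff] at hy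
      subst hy
      exact hZc z hz y hg
    · rw [Subgroup.zpowers_le, Subgroup.mem_centralizer_iff]
      intro y hy
      rw [Set.mem_singleton_iff] at hy
      subst hy
      exact hx y hg
  intro k hk
  exact Subgroup.mem_centralizer_iff.1 (this hk) g (Set.mem_singleton g)

/-- Core-free saturated fusion systems over a nonabelian `p`-group (`p` odd) with a unique abelian
subgroup `A` of index `p` which is not essential: some `Z(S)⟨x⟩` is essential, `Z(S) ≤ [S, S]`, and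
`Z(S) ∩ [S, S]` has order `p`. -/
theorem oliver_core_free [Finite S] {p : ℕ} [hp : Fact p.Prime] (hp2 : p ≠ 2) (hS : IsPGroup p S)
    {F : FusionSystem S} (hF : F.IsSaturated p) {A : Subgroup Ω} (h : AbIdx p S A)
    (hna : ∃ g ∈ S, ∃ k ∈ S, g * k ≠ k * g)
    (huniq : ∀ B : Subgroup Ω, B ≤ S → IsMulCommutative ↥B → (B.subgroupOf S).index = p → B = A)
    (hcore : F.core = ⊥) (hAe : ¬ F.IsEssential p A) :
    (∃ x ∈ S, x ∉ A ∧
      F.IsEssential p ((S ⊓ Subgroup.centralizer (S : Set Ω)) ⊔ Subgroup.zpowers x)) ∧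
    S ⊓ Subgroup.centralizer (S : Set Ω) ≤ ⁅S, S⁆ ∧
    Nat.card ↥((S ⊓ Subgroup.centralizer (S : Set Ω)) ⊓ ⁅S, S⁆) = p := by
  have hZS : S ⊓ Subgroup.centralizer (S : Set Ω) ≤ S := inf_le_left
  have : Finite ↥(S ⊓ Subgroup.centralizer (S : Set Ω)) := finite_of_le hZS
  have hess_x : ∀ P, F.IsEssential p P → ∃ x ∈ P, x ∉ A := fun P hP =>
    (essential_eq_or_exists h hP).resolve_left (fun e => hAe (e ▸ hP))
  have hZle : ∀ P, (P = S ∨ F.IsEssential p P) → S ⊓ Subgroup.centralizer (S : Set Ω) ≤ P := by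
    rintro P (rfl | hP)
    · exact hZS
    · exact fun z hz => (center_le_essential h hna hP.1 hz).1
  have hnorm_of : ∀ Q : Subgroup Ω, Q ≤ S ⊓ Subgroup.centralizer (S : Set Ω) →
      (∀ P, (P = S ∨ F.IsEssential p P) → ∀ α ∈ F.autGroup P, ∀ g ∈ Q, autFun P α g ∈ Q) →
      F.IsNormal Q := by
    intro Q hQZ H
    rw [isNormal_iff_essential hS hF]
    intro P hP
    have hZP := hZle P hP
    have hPS : P ≤ S := by
      rcases hP with rfl | hP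
      · exact le_rfl
      · exact hP.1.1
    refine ⟨hQZ.trans hZP, fun α hα => ?_⟩
    have hαM : Mor F P (autFun P α) := (Cfsg.Agent.H86.mem_autGroup_iff hPS α).1 hα
    rw [map_subgroupOf_aut_eq_iff (hQZ.trans hZP) hαM]
    have : Finite Q := finite_of_le (hQZ.trans hZS)
    exact imgS_eq_of_maps (hαM.restrict (hQZ.trans hZP)) (H P hP α hα)
  have hle_core : ∀ Q, F.IsNormal Q → Q = ⊥ := by
    intro Q hQ
    have h1 : Q ≤ F.core := le_sSup hQ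
    rw [hcore] at h1
    exact le_bot_iff.1 h1
  have hZne : S ⊓ Subgroup.centralizer (S : Set Ω) ≠ ⊥ := by
    intro hbot
    obtain ⟨g, hg, k, hk, hgk⟩ := hna
    have hnt : Nontrivial ↥S := by
      refine ⟨⟨⟨g, hg⟩, 1, ?_⟩⟩
      intro h1
      have h2 : g = 1 := congrArg Subtype.val h1
      apply hgk
      rw [h2, one_mul, mul_one]
    have hcn := hS.center_nontrivial
    obtain ⟨z, hz⟩ := exists_ne (1 : Subgroup.center ↥S)
    have h1 : ((z : ↥S) : Ω) ∈ S ⊓ Subgroup.centralizer (S : Set Ω) := by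
      rw [mem_center_inf_iff]
      refine ⟨(z : ↥S).2, fun s hs => ?_⟩
      have := Subgroup.mem_center_iff.1 z.2 ⟨s, hs⟩
      exact congrArg Subtype.val this
    rw [hbot, Subgroup.mem_bot] at h1
    apply hz
    apply Subtype.ext
    apply Subtype.ext
    exact h1
  have hcenter_S : ∀ α : MulAut ↥S, ∀ z ∈ S ⊓ Subgroup.centralizer (S : Set Ω),
      autFun S α z ∈ S ⊓ Subgroup.centralizer (S : Set Ω) := by
    intro α
    exact center_char hZS (fun z hz y hy => (mem_center_inf_iff.1 hz).2 y hy)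
      (fun g hg hgc => mem_center_inf_iff.2 ⟨hg, hgc⟩) α
  -- existence of an abelian essential subgroup
  have hH : ∃ x ∈ S, x ∉ A ∧
      F.IsEssential p ((S ⊓ Subgroup.centralizer (S : Set Ω)) ⊔ Subgroup.zpowers x) := by
    by_contra hno
    apply hZne
    apply hle_core
    apply hnorm_of _ le_rfl
    rintro P (rfl | hP) α hα z hz
    · exact hcenter_S α z hz
    · obtain ⟨x, hxP, hxA⟩ := hess_x P hP
      have hPS := hP.1.1
      by_cases hab : ∀ g ∈ P, ∀ k ∈ P, g * k = k * g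
      · exfalso
        apply hno
        refine ⟨x, hPS hxP, hxA, ?_⟩
        have hP0 := oliver_abelian h hna hP hxP hxA hab
        have hPeq : P = (S ⊓ Subgroup.centralizer (S : Set Ω)) ⊔ Subgroup.zpowers x := by
          refine eq_sup_zpowers ?_ hxP ?_
          · rw [← hP0]; exact inf_le_left
          · rw [← hP0]; exact h.decomp_sub hPS hxP hxA
        rw [← hPeq]
        exact hP
      · have ha := (saturated_fullyNormalized hS hF hP.2.1).2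
        obtain ⟨γ, hγ, hsep⟩ := exists_sep ha hP
        obtain ⟨hcP, -, -, -, -⟩ := oliver_nonabelian hS hF h hna hP hxP hxA hγ hsep hab
        exact center_char (hZle P (Or.inr hP))
          (fun z hz y hy => (mem_center_inf_iff.1 hz).2 y (hPS hy)) hcP α z hz
  refine ⟨hH, ?_⟩
  obtain ⟨x₀, hx₀S, hx₀A, hP₀⟩ := hH
  have hx₀P : x₀ ∈ (S ⊓ Subgroup.centralizer (S : Set Ω)) ⊔ Subgroup.zpowers x₀ :=
    Subgroup.mem_sup_right (Subgroup.mem_zpowers x₀)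
  have hP₀S := hP₀.1.1
  have hab₀ := sup_zpowers_comm (Z := S ⊓ Subgroup.centralizer (S : Set Ω)) (x := x₀)
    (fun z hz g hg => (mem_center_inf_iff.1 hz).2 g (hP₀S hg))
  have hZ2A := oliver_abelian_Z2 hS hF h hna huniq hP₀ hx₀P hx₀A hab₀
  obtain ⟨w, hw, hwZ, hwp, hgen⟩ := oliver_Z2_gen hS hF h hna hP₀ hx₀P hx₀A hZ2A
  have hwA := hZ2A hw
  have hcard := h.card_center_inf_commutator hx₀S hx₀A hZ2A hw hwZ hwp hgen
  refine ⟨?_, hcard⟩
  obtain ⟨hZ0eq, hz₁p, hz₁1⟩ := h.center_inf_commutator_eq hx₀S hx₀A hZ2A hw hwZ hwp hgen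
  have hZ₀p : ∀ c ∈ (S ⊓ Subgroup.centralizer (S : Set Ω)) ⊓ ⁅S, S⁆, c ^ p = 1 := by
    intro c hc
    rw [hZ0eq] at hc
    obtain ⟨j, rfl⟩ := Subgroup.mem_zpowers_iff.1 hc
    rw [← zpow_natCast, ← zpow_mul, mul_comm, zpow_mul, zpow_natCast, hz₁p, one_zpow]
  have ha₀ := (saturated_fullyNormalized hS hF hP₀.2.1).2
  obtain ⟨γ₀, hγ₀, hsep₀⟩ := exists_sep ha₀ hP₀
  obtain ⟨θ₀, hθ₀, r₀, hfix₀, hdec₀⟩ := exists_refl_of_typeH hp2 hS hF h hna hP₀ hx₀P hx₀A hab₀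
    hZ2A hw hwZ hwp hgen hγ₀ hsep₀ rfl rfl
  have hkey : ∀ Q, F.IsEssential p Q → ∀ x ∈ Q, x ∉ A → (∀ g ∈ Q, ∀ k ∈ Q, g * k = k * g) →
      ∀ γ ∈ F.autGroup Q, Sep S Q γ →
      ∀ m : ↥(S ⊓ Subgroup.centralizer (S : Set Ω)), θ₀ m = m ↔ autFun Q γ m ∈ A := by
    intro Q hQ x hxQ hxA hab γ hγ hsep
    obtain ⟨θ, hθ, r, hfix, -⟩ := exists_refl_of_typeH hp2 hS hF h hna hQ hxQ hxA hab
      hZ2A hw hwZ hwp hgen hγ hsep rfl rfl
    have := reflAut_unique hS hF rfl hZ₀p hθ₀ hθ r₀ r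
    rw [this]
    exact hfix
  -- the fixed subgroup of `θ₀`
  obtain ⟨Zs, hZs⟩ : ∃ Zs : Subgroup Ω, ∀ g, g ∈ Zs ↔
      ∃ hg : g ∈ S ⊓ Subgroup.centralizer (S : Set Ω), θ₀ ⟨g, hg⟩ = ⟨g, hg⟩ := by
    refine ⟨(MonoidHom.eqLocus θ₀.toMonoidHom
      (MonoidHom.id ↥(S ⊓ Subgroup.centralizer (S : Set Ω)))).map
        (S ⊓ Subgroup.centralizer (S : Set Ω)).subtype, fun g => ?_⟩
    constructor
    · rintro ⟨m, hm, rfl⟩
      exact ⟨m.2, hm⟩
    · rintro ⟨hg, hfix⟩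
      exact ⟨⟨g, hg⟩, hfix, rfl⟩
  have hZsZ : Zs ≤ S ⊓ Subgroup.centralizer (S : Set Ω) := fun g hg => ((hZs g).1 hg).1
  have hcomm : ∀ (P : Subgroup Ω) (_ : P ≤ S) (_ : S ⊓ Subgroup.centralizer (S : Set Ω) ≤ P)
      (α : MulAut ↥P), α ∈ F.autGroup P →
      (∀ z ∈ S ⊓ Subgroup.centralizer (S : Set Ω),
        autFun P α z ∈ S ⊓ Subgroup.centralizer (S : Set Ω)) →
      (∀ c ∈ (S ⊓ Subgroup.centralizer (S : Set Ω)) ⊓ ⁅S, S⁆, autFun P α c ∈ ⁅S, S⁆) →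
      ∀ g ∈ Zs, autFun P α g ∈ Zs := by
    intro P hPS hZP α hα hαZ hαS' g hg
    have hαM : Mor F P (autFun P α) := (Cfsg.Agent.H86.mem_autGroup_iff hPS α).1 hα
    have hbM : Mor F (S ⊓ Subgroup.centralizer (S : Set Ω)) (autFun P α) := hαM.restrict hZP
    have himg := imgS_eq_of_maps hbM hαZ
    obtain ⟨b, hb⟩ : ∃ b : MulAut ↥(S ⊓ Subgroup.centralizer (S : Set Ω)), b = mkAut hbM himg :=
      ⟨_, rfl⟩
    have hbG : b ∈ F.autGroup (S ⊓ Subgroup.centralizer (S : Set Ω)) := by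
      rw [hb]; exact mkAut_mem hbM himg
    have hbval : ∀ m : ↥(S ⊓ Subgroup.centralizer (S : Set Ω)),
        ((b m : ↥(S ⊓ Subgroup.centralizer (S : Set Ω))) : Ω) = autFun P α m := by
      intro m; rw [hb]; rfl
    have hbH : ∀ c ∈ ((S ⊓ Subgroup.centralizer (S : Set Ω)) ⊓ ⁅S, S⁆).subgroupOf
        (S ⊓ Subgroup.centralizer (S : Set Ω)),
        b c ∈ ((S ⊓ Subgroup.centralizer (S : Set Ω)) ⊓ ⁅S, S⁆).subgroupOf
          (S ⊓ Subgroup.centralizer (S : Set Ω)) := by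
      intro c hc
      rw [Subgroup.mem_subgroupOf] at hc ⊢
      rw [hbval]
      exact ⟨hαZ _ c.2, hαS' _ hc⟩
    have hbinv := aut_inv_mem_of_maps b _ hbH
    have hθ' : b * θ₀ * b⁻¹ ∈ F.autGroup (S ⊓ Subgroup.centralizer (S : Set Ω)) :=
      mul_mem (mul_mem hbG hθ₀) (inv_mem hbG)
    have r' : IsReflAut (S ⊓ Subgroup.centralizer (S : Set Ω))
        ((S ⊓ Subgroup.centralizer (S : Set Ω)) ⊓ ⁅S, S⁆) (b * θ₀ * b⁻¹) := by
      constructor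
      · intro c hc
        have h1 := hbinv c (Subgroup.mem_subgroupOf.2 hc)
        rw [Subgroup.mem_subgroupOf] at h1
        rw [MulAut.mul_apply, MulAut.mul_apply, r₀.1 _ h1, map_inv, MulAut.apply_inv_self]
      · intro m
        have e : (b * θ₀ * b⁻¹) m * m⁻¹ = b (θ₀ (b⁻¹ m) * (b⁻¹ m)⁻¹) := by
          rw [map_mul, map_inv, MulAut.apply_inv_self]
          rfl
        rw [e]
        have h1 := hbH _ (Subgroup.mem_subgroupOf.2 (r₀.2 (b⁻¹ m)))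
        rw [Subgroup.mem_subgroupOf] at h1
        exact h1
    have heq := reflAut_unique hS hF rfl hZ₀p hθ' hθ₀ r' r₀
    have hcm : b * θ₀ = θ₀ * b := mul_inv_eq_iff_eq_mul.1 heq
    obtain ⟨hgZ, hgfix⟩ := (hZs g).1 hg
    have hnZ := hαZ g hgZ
    refine (hZs _).2 ⟨hnZ, ?_⟩
    have e1 : (⟨autFun P α g, hnZ⟩ : ↥(S ⊓ Subgroup.centralizer (S : Set Ω))) = b ⟨g, hgZ⟩ :=
      Subtype.ext (hbval ⟨g, hgZ⟩).symm
    rw [e1]
    have e2 : θ₀ (b ⟨g, hgZ⟩) = (θ₀ * b) ⟨g, hgZ⟩ := rfl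
    rw [e2, ← hcm, MulAut.mul_apply, hgfix]
  have hZsN : F.IsNormal Zs := by
    apply hnorm_of Zs hZsZ
    rintro P (rfl | hP) α hα g hg
    · apply hcomm P le_rfl hZS α hα (hcenter_S α) _ g hg
      intro c hc
      obtain ⟨a, ha, rfl⟩ := h.exists_of_mem_commutator hx₀S hx₀A hc.2
      have hαM : Mor F P (autFun P α) := (Cfsg.Agent.H86.mem_autGroup_iff le_rfl α).1 hα
      exact mor_comm_mem hαM (h.le ha) hx₀S
    · obtain ⟨x, hxP, hxA⟩ := hess_x P hP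
      have hPS := hP.1.1
      have hxS := hPS hxP
      have hZP := hZle P (Or.inr hP)
      have hαM : Mor F P (autFun P α) := (Cfsg.Agent.H86.mem_autGroup_iff hPS α).1 hα
      have ha := (saturated_fullyNormalized hS hF hP.2.1).2
      obtain ⟨γ, hγ, hsep⟩ := exists_sep ha hP
      by_cases hab : ∀ g ∈ P, ∀ k ∈ P, g * k = k * g
      · have hP0 := oliver_abelian h hna hP hxP hxA hab
        have hall : ∀ δ ∈ F.autGroup P, ∀ g ∈ Zs,
            autFun P δ g ∈ S ⊓ Subgroup.centralizer (S : Set Ω) := by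
          intro δ hδ g hg
          rcases typeH_dichotomy h hna hP hxP hxA hab hw hwA hwZ hwp hgen δ with h1 | h1
          · exact h1 g (hZsZ hg)
          · obtain ⟨hgZ, hfix⟩ := (hZs g).1 hg
            have h2 := (hkey P hP x hxP hxA hab δ hδ h1 ⟨g, hgZ⟩).1 hfix
            rw [← hP0]
            exact ⟨autFun_mem δ (hZP hgZ), h2⟩
        have hnZ := hall α hα g hg
        refine (hZs _).2 ⟨hnZ, ?_⟩
        apply (hkey P hP x hxP hxA hab γ hγ hsep ⟨_, hnZ⟩).2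
        have hgP : g ∈ P := hZP (hZsZ hg)
        have e : autFun P γ (autFun P α g) = autFun P (γ * α) g := (autFun_mul γ α hgP).symm
        show autFun P γ (autFun P α g) ∈ A
        rw [e]
        exact (center_le_essential h hna hP.1 (hall (γ * α) (mul_mem hγ hα) g hg)).2
      · obtain ⟨hcP, -, -, hP0, -⟩ := oliver_nonabelian hS hF h hna hP hxP hxA hγ hsep hab
        apply hcomm P hPS hZP α hα
          (center_char hZP (fun z hz y hy => (mem_center_inf_iff.1 hz).2 y (hPS hy)) hcP α) _ g hg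
        intro c hc
        obtain ⟨a, ha', rfl⟩ := h.exists_of_mem_commutator hxS hxA hc.2
        have haZ2 := h.mem_Z2_of_comm hxS hxA ha' hc.1
        have haP : a ∈ P := by
          have : a ∈ P ⊓ A := by rw [hP0]; exact haZ2
          exact this.1
        exact mor_comm_mem hαM haP hxP
  have hZs_bot := hle_core Zs hZsN
  intro m hm
  obtain ⟨a, hafix, hma⟩ := hdec₀ ⟨m, hm⟩
  have haZs : (a : Ω) ∈ Zs := (hZs _).2 ⟨a.2, hafix⟩
  rw [hZs_bot, Subgroup.mem_bot] at haZs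
  rw [Subgroup.coe_mul, Subgroup.coe_inv, haZs, inv_one, mul_one] at hma
  exact hma.2

end sl2

end Cfsg.Agent.H89
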