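import Cfsg.Agent.H89.OmegaFix
import Cfsg.Agent.H89.Series
import Cfsg.Prelude.Def_PLocal

set_option autoImplicit false

namespace Cfsg.Agent.H89

open Cfsg Cfsg.FusionSystem Cfsg.Agent.H86
open scoped commutatorElement

section stab2

variable {U : Type*} [Group U]

/-- The chain stabilizer is normalized by `Aut` when the chain is `Aut`-invariant. -/
theorem chainStab_conj_mem [Finite U] {Aut : Subgroup (MulAut U)} {A : ℕ → Subgroup U} {N : ℕ}
    {hanti : ∀ i < N, A (i + 1) ≤ A i} (hinv : ∀ γ ∈ Aut, ∀ i ≤ N, ∀ u ∈ A i, γ u ∈ A i)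
    {γ β : MulAut U} (hγ : γ ∈ Aut) (hβ : β ∈ chainStab Aut A N hanti) :
    γ * β * γ⁻¹ ∈ chainStab Aut A N hanti := by
  obtain ⟨hβA, hβs⟩ := hβ
  refine ⟨Aut.mul_mem (Aut.mul_mem hγ hβA) (Aut.inv_mem hγ), fun i hi u hu => ?_⟩
  have h1 : γ⁻¹ u ∈ A i := hinv γ⁻¹ (Aut.inv_mem hγ) i hi.le u hu
  have h2 := hβs i hi _ h1
  have h3 := hinv γ hγ (i + 1) (by omega) _ h2
  have : u⁻¹ * (γ * β * γ⁻¹) u = γ ((γ⁻¹ u)⁻¹ * β (γ⁻¹ u)) := by
    rw [map_mul, map_inv, MulAut.mul_apply, MulAut.mul_apply, MulAut.apply_inv_self]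
  rw [this]
  exact h3

end stab2

variable {Ω : Type*} [Group Ω] {S : Subgroup Ω}

/-- Key step for `p` odd: a strongly closed `P` such that `Ω₁(P)` has a chain of strongly closed
subgroups centralized stepwise by `P` lies in every centric radical subgroup. -/
theorem le_centric_radical_of_omega_series [Finite S] {p : ℕ} [Fact p.Prime] (hp2 : p ≠ 2)
    (hS : IsPGroup p S) {F : FusionSystem S} {P : Subgroup Ω} (hP : F.StronglyClosed P)
    (D : ℕ → Subgroup Ω) (n : ℕ) (h0 : D 0 = ⊥) (hn : D n = omegaOne p P)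
    (hmono : ∀ i < n, D i ≤ D (i + 1)) (hsc : ∀ i ≤ n, F.StronglyClosed (D i))
    (hcomm : ∀ i < n, ⁅D (i + 1), P⁆ ≤ D i)
    {U : Subgroup Ω} (hUc : F.IsCentric U) (hUr : F.IsRadical p U) : P ≤ U := by
  have hUS : U ≤ S := hUc.1
  have hPS : P ≤ S := hP.1
  have hfinU : Finite U := finite_of_le hUS
  have hUp : IsPGroup p U := hS.to_le hUS
  have hC : centralizerIn S U ≤ U := hUc.2 U (Cfsg.Agent.H86.isConj_refl F hUS)
  by_contra hPU
  obtain ⟨d, hdP, hdN, hdU⟩ := exists_mem_normalizer_not_mem hS hUS hPS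
    (fun s hs x hx => stronglyClosed_conj_mem hP hs hx) hPU
  have hdS : d ∈ S := hPS hdP
  obtain ⟨α, hα⟩ := exists_conjAut hdN
  have hαA : α ∈ F.autGroup U :=
    autInducedBy_le_autGroup F hUS ((mem_autInducedBy_iff S U α).2 ⟨d, hdS, hα⟩)
  -- the two chains
  let A₁ : ℕ → Subgroup U := fun k =>
    match k with
    | 0 => ⊤
    | (_ + 1) => P.subgroupOf U
  let A₂ : ℕ → Subgroup U := fun k => (D (n - k)).subgroupOf U
  have hanti₁ : ∀ k < 1, A₁ (k + 1) ≤ A₁ k := by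
    intro k hk
    have : k = 0 := by omega
    subst this
    exact le_top
  have hanti₂ : ∀ k < n, A₂ (k + 1) ≤ A₂ k := by
    intro k hk u hu
    have h1 : n - k = (n - (k + 1)) + 1 := by omega
    show u ∈ (D (n - k)).subgroupOf U
    rw [h1]
    exact Subgroup.mem_subgroupOf.2 (hmono _ (by omega) (Subgroup.mem_subgroupOf.1 hu))
  have hinvA : ∀ (T : Subgroup Ω), F.StronglyClosed T → ∀ γ ∈ F.autGroup U,
      ∀ u ∈ T.subgroupOf U, γ u ∈ T.subgroupOf U := by
    intro T hT γ hγ u hu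
    have hγM := (Cfsg.Agent.H86.mem_autGroup_iff hUS γ).1 hγ
    rw [Subgroup.mem_subgroupOf] at hu ⊢
    have := (stronglyClosed_iff.1 hT).2 (T ⊓ U) _ inf_le_left (hγM.restrict inf_le_right)
      (u : Ω) ⟨hu, u.2⟩
    rwa [autFun_apply] at this
  have hinv₁ : ∀ γ ∈ F.autGroup U, ∀ i ≤ 1, ∀ u ∈ A₁ i, γ u ∈ A₁ i := by
    intro γ hγ i hi u hu
    match i with
    | 0 => exact Subgroup.mem_top _
    | (k + 1) => exact hinvA P hP γ hγ u hu
  have hinv₂ : ∀ γ ∈ F.autGroup U, ∀ i ≤ n, ∀ u ∈ A₂ i, γ u ∈ A₂ i := by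
    intro γ hγ i hi u hu
    exact hinvA (D (n - i)) (hsc _ (by omega)) γ hγ u hu
  let Y : Subgroup (MulAut U) := chainStab (F.autGroup U) A₁ 1 hanti₁ ⊓ chainStab (F.autGroup U) A₂ n hanti₂
  have hYA : Y ≤ F.autGroup U := fun β hβ => hβ.1.1
  have hYnorm : ∀ γ ∈ F.autGroup U, ∀ β ∈ Y, γ * β * γ⁻¹ ∈ Y := by
    intro γ hγ β hβ
    exact ⟨chainStab_conj_mem hinv₁ hγ hβ.1, chainStab_conj_mem hinv₂ hγ hβ.2⟩
  have hcopU : ∀ m : ℕ, m.Coprime p → ∀ u : U, u ^ m = 1 → u = 1 :=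
    fun m hm u hu => eq_one_of_pow_coprime hUp hm u hu
  have hYp : IsPGroup p Y := by
    apply isPGroup_of_coprime_trivial
    rintro β ⟨⟨hβA, hβ1⟩, ⟨-, hβ2⟩⟩ m hm hβm
    -- β fixes Ω₁(P) ∩ U
    have hfixD := fix_of_chain β m hβm (hcopU m hm) (fun i => (A₂ i : Set U)) n
      (by
        intro u hu
        have h1 : u ∈ (D (n - n)).subgroupOf U := hu
        rw [Nat.sub_self, h0, Subgroup.mem_subgroupOf, Subgroup.mem_bot] at h1
        exact Subtype.ext h1)
      (fun i hi u hu => hβ2 i hi u hu)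
    have hfixΩ : ∀ u : U, (u : Ω) ∈ omegaOne p P → β u = u := by
      intro u hu
      refine hfixD n 0 (by omega) u ?_
      show u ∈ (D (n - 0)).subgroupOf U
      rw [Nat.sub_zero, hn]
      exact Subgroup.mem_subgroupOf.2 hu
    -- β fixes P ∩ U
    have hfinV : Finite (P.subgroupOf U) := Finite.of_injective (fun v : P.subgroupOf U => (v : U))
      Subtype.val_injective
    have hfixV : ∀ v ∈ P.subgroupOf U, β v = v := by
      refine fix_of_fix_omega β m hβm hp2 hm (Nat.card (P.subgroupOf U)) (P.subgroupOf U) le_rfl hfinV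
        (hUp.to_subgroup _) (fun v hv => hinvA P hP β hβA v hv) ?_
      intro v hv hvp
      apply hfixΩ
      apply Subgroup.subset_closure
      refine ⟨Subgroup.mem_subgroupOf.1 hv, ?_⟩
      have := congrArg Subtype.val hvp
      simpa using this
    -- β fixes U
    have hfixU := fix_of_fix_comm β m hβm ⊤ (fun v _ hv => hcopU m hm v hv)
      (fun v _ => ⟨Subgroup.mem_top _, hfixV _ (hβ1 0 (by omega) v (Subgroup.mem_top v))⟩)
    ext u
    rw [hfixU u (Subgroup.mem_top u)]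
    rfl
  have hαY : α ∈ Y := by
    have hval : ∀ u : U, ((u⁻¹ * α u : U) : Ω) = ⁅(u : Ω)⁻¹, d⁆ := by
      intro u
      rw [Subgroup.coe_mul, hα, Subgroup.coe_inv, commutatorElement_def, inv_inv]
      group
    refine ⟨⟨hαA, fun i hi u _ => ?_⟩, ⟨hαA, fun i hi u hu => ?_⟩⟩
    · have : i = 0 := by omega
      subst this
      show u⁻¹ * α u ∈ P.subgroupOf U
      rw [Subgroup.mem_subgroupOf, hval, commutatorElement_def, inv_inv]
      have h1 : (u : Ω)⁻¹ * d * ((u : Ω)⁻¹)⁻¹ ∈ P :=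
        stronglyClosed_conj_mem hP (S.inv_mem (hUS u.2)) hdP
      rw [inv_inv] at h1
      exact P.mul_mem h1 (P.inv_mem hdP)
    · show u⁻¹ * α u ∈ (D (n - (i + 1))).subgroupOf U
      have hu' : (u : Ω) ∈ D (n - i) := Subgroup.mem_subgroupOf.1 hu
      have h1 : n - i = (n - (i + 1)) + 1 := by omega
      rw [h1] at hu'
      rw [Subgroup.mem_subgroupOf, hval]
      exact hcomm (n - (i + 1)) (by omega)
        (Subgroup.commutator_mem_commutator (Subgroup.inv_mem _ hu') hdP)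
  have hcore : α ∈ (pCore p ↥(F.autGroup U)).map (F.autGroup U).subtype :=
    mem_pCore_map_of p hYA hYnorm hYp hαY
  rw [hUr.2] at hcore
  exact hdU (mem_of_induces_inner hUS hC hdS hα hcore)

end Cfsg.Agent.H89
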