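import Cfsg.Agent.H89.Normalizer

set_option autoImplicit false

namespace Cfsg.Agent.H89

open Cfsg Cfsg.FusionSystem

variable {Ω : Type*} [Group Ω] {S : Subgroup Ω}

/-- `p`-stability of a fusion system, in the form used by the statements. -/
def PStable (p : ℕ) {T : Subgroup Ω} (F : FusionSystem T) : Prop :=
  ∀ Q : Subgroup Ω, F.IsFullyNormalized Q → ∀ χ : MulAut ↥Q, χ ∈ F.autGroup Q →
    (∀ a : ↥Q, (χ a⁻¹) * a * (χ a⁻¹) * (χ (χ a)) = 1) →
    χ ∈ ((Cfsg.pCore p ↥(F.autGroup Q)).map (F.autGroup Q).subtype : Subgroup (MulAut ↥Q))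

/-- The quadratic condition on an automorphism. -/
def Quadratic {Q : Type*} [Group Q] (χ : MulAut Q) : Prop :=
  ∀ a : Q, (χ a⁻¹) * a * (χ a⁻¹) * (χ (χ a)) = 1

theorem Quadratic.fix {Q : Type*} [Group Q] {χ : MulAut Q} (h : Quadratic χ) (a : Q) :
    χ (a⁻¹ * χ a) = a⁻¹ * χ a := by
  have h1 := h a
  have h2 : χ a⁻¹ * χ (χ a) = (χ a⁻¹ * a)⁻¹ := by
    rw [eq_inv_iff_mul_eq_one]
    calc χ a⁻¹ * χ (χ a) * (χ a⁻¹ * a) = (χ a⁻¹ * a)⁻¹ * (χ a⁻¹ * a * χ a⁻¹ * χ (χ a)) * (χ a⁻¹ * a) := by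
          group
      _ = 1 := by rw [h1]; group
  rw [map_mul, h2, mul_inv_rev, map_inv, inv_inv]

theorem Quadratic.pow_apply {Q : Type*} [Group Q] {χ : MulAut Q} (h : Quadratic χ) (n : ℕ) (a : Q) :
    (χ ^ n) a = a * (a⁻¹ * χ a) ^ n := by
  induction n with
  | zero => simp
  | succ n ih =>
    rw [pow_succ', MulAut.mul_apply, ih, map_mul, map_pow, h.fix, pow_succ', ← mul_assoc,
      mul_inv_cancel_left]

theorem Quadratic.pow_card {Q : Type*} [Group Q] [Finite Q] {χ : MulAut Q} (h : Quadratic χ) :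
    χ ^ Nat.card Q = 1 := by
  ext a
  rw [h.pow_apply, pow_card_eq_one', mul_one]
  rfl

theorem Quadratic.isPGroup_zpowers {Q : Type*} [Group Q] [Finite Q] {p : ℕ} [Fact p.Prime]
    (hQ : IsPGroup p Q) {χ : MulAut Q} (h : Quadratic χ) : IsPGroup p (Subgroup.zpowers χ) := by
  obtain ⟨k, hk⟩ := IsPGroup.iff_card.mp hQ
  rintro ⟨g, hg⟩
  obtain ⟨m, rfl⟩ := Subgroup.mem_zpowers_iff.mp hg
  refine ⟨k, ?_⟩
  apply Subtype.ext
  show (χ ^ m) ^ (p ^ k) = 1
  rw [← zpow_natCast, ← zpow_mul, mul_comm, zpow_mul, zpow_natCast, ← hk, h.pow_card, one_zpow]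

theorem mulAut_comm_of_isCyclic {Q : Type*} [Group Q] (h : IsCyclic Q) (a b : MulAut Q) :
    a * b = b * a := by
  haveI := h
  apply (IsCyclic.mulAutMulEquiv Q).injective
  rw [map_mul, map_mul, mul_comm]

section transport

variable (F : FusionSystem S) {P : Subgroup Ω} {φ : P →* Ω} (hφ : φ ∈ F.Hom P)

/-- The isomorphism of `P` onto its image under a map of the system. -/
noncomputable def homEquiv : P ≃* φ.range := MonoidHom.ofInjective (F.injective_of_mem hφ)

theorem homEquiv_apply (x : P) : ((homEquiv F hφ x : φ.range) : Ω) = φ x := rfl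

theorem range_le (F : FusionSystem S) {P : Subgroup Ω} {φ : P →* Ω} (hφ : φ ∈ F.Hom P) :
    φ.range ≤ S := by
  rintro _ ⟨x, rfl⟩
  exact (F.le_of_mem hφ).2 x

theorem autGroup_transport (α : MulAut P) :
    α ∈ F.autGroup P ↔ MulAut.congr (homEquiv F hφ) α ∈ F.autGroup φ.range := by
  have hP : P ≤ S := (F.le_of_mem hφ).1
  have hR : φ.range ≤ S := range_le F hφ
  obtain ⟨ψ, hψ, hψx⟩ := F.inv_mem hφ
  have hψe : ∀ y : φ.range, ψ y = ((homEquiv F hφ).symm y : P) := by
    intro y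
    obtain ⟨x, rfl⟩ := (homEquiv F hφ).surjective y
    rw [MulEquiv.symm_apply_apply]
    exact hψx x
  have hψP : ∀ y : φ.range, ψ y ∈ P := fun y => by rw [hψe]; exact SetLike.coe_mem _
  rw [mem_autGroup_iff F hP, mem_autGroup_iff F hR]
  constructor
  · intro hα
    refine conj_aut_mem F hφ hψ hψP hα _ fun y => ?_
    have : (⟨ψ y, hψP y⟩ : P) = (homEquiv F hφ).symm y := Subtype.ext (hψe y)
    rw [this]
    rfl
  · intro hα
    refine conj_aut_mem F hψ hφ (fun x => ⟨x, rfl⟩) hα _ fun x => ?_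
    rw [hψe]
    have : (⟨φ x, ⟨x, rfl⟩⟩ : φ.range) = homEquiv F hφ x := rfl
    rw [this]
    show ((α x : P) : Ω) = (((homEquiv F hφ).symm (homEquiv F hφ (α ((homEquiv F hφ).symm
      (homEquiv F hφ x)))) : P) : Ω)
    rw [MulEquiv.symm_apply_apply, MulEquiv.symm_apply_apply]

theorem quadratic_transport {Q R : Type*} [Group Q] [Group R] (e : Q ≃* R) {χ : MulAut Q}
    (h : Quadratic χ) : Quadratic (MulAut.congr e χ) := by
  intro b
  obtain ⟨a, rfl⟩ := e.surjective b
  have h1 : ∀ x : Q, (MulAut.congr e χ) (e x) = e (χ x) := by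
    intro x
    show e (χ (e.symm (e x))) = e (χ x)
    rw [MulEquiv.symm_apply_apply]
  rw [← map_inv, h1, h1, h1, ← map_mul, ← map_mul, ← map_mul, h a, map_one]

end transport

/-- In a `p`-stable system over a finite group, quadratic automorphisms of any subgroup (not only the
fully normalized ones) lie in the `p`-core of the automorphism group. -/
theorem PStable.all [Finite S] {p : ℕ} [Fact p.Prime] {F : FusionSystem S} (hF : PStable p F)
    {Q : Subgroup Ω} (hQ : Q ≤ S) {χ : MulAut Q} (hχ : χ ∈ F.autGroup Q) (hq : Quadratic χ) :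
    χ ∈ ((Cfsg.pCore p ↥(F.autGroup Q)).map (F.autGroup Q).subtype : Subgroup (MulAut ↥Q)) := by
  obtain ⟨Q', ⟨φ, hφ, rfl⟩, hQ'⟩ := exists_fullyNormalized_conj F hQ
  have hR : φ.range ≤ S := range_le F hφ
  have : Finite Q := Finite.of_injective _ (Subgroup.inclusion_injective hQ)
  have : Finite φ.range := Finite.of_injective _ (Subgroup.inclusion_injective hR)
  have h1 := hF φ.range hQ' (MulAut.congr (homEquiv F hφ) χ) ((autGroup_transport F hφ χ).1 hχ)
    (quadratic_transport _ hq)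
  have h2 := mem_pCore_map_equiv (p := p) (MulAut.congr (homEquiv F hφ)).symm
    (A := F.autGroup φ.range) (B := F.autGroup Q) (fun a => by
      rw [autGroup_transport F hφ, MulEquiv.apply_symm_apply]) h1
  rwa [MulEquiv.symm_apply_apply] at h2

/-- A system all of whose maps are maps of a `p`-stable system is `p`-stable. -/
theorem PStable.of_subsystem [Finite S] {p : ℕ} [Fact p.Prime] {F : FusionSystem S}
    (hF : PStable p F) {T : Subgroup Ω} (N : FusionSystem T) (hN : ∀ P, N.Hom P ⊆ F.Hom P) :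
    PStable p N := by
  intro Q hQ χ hχ hq
  have hQS : Q ≤ S := (F.le_of_mem (hN Q (subtype_mem N hQ.1))).1
  have : Finite Q := Finite.of_injective _ (Subgroup.inclusion_injective hQS)
  have hle : N.autGroup Q ≤ F.autGroup Q := Subgroup.closure_mono fun α hα => hN Q hα
  exact mem_pCore_map_of_le hle (hF.all hQS (hle hχ) hq) hχ

/-- A quadratic automorphism of a cyclic `p`-group lies in the `p`-core of any group of automorphisms
containing it. -/
theorem quadratic_mem_pCore_of_isCyclic {Q : Type*} [Group Q] [Finite Q] {p : ℕ} [Fact p.Prime]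
    (hQ : IsPGroup p Q) (hc : IsCyclic Q) {A : Subgroup (MulAut Q)} {χ : MulAut Q} (hχ : χ ∈ A)
    (h : Quadratic χ) : χ ∈ (Cfsg.pCore p ↥A).map A.subtype := by
  refine mem_pCore_map_of p (N := Subgroup.zpowers χ) ?_ ?_ (h.isPGroup_zpowers hQ)
    (Subgroup.mem_zpowers χ)
  · rw [Subgroup.zpowers_le]
    exact hχ
  · intro a _ n hn
    rw [mulAut_comm_of_isCyclic hc a n, mul_inv_cancel_right]
    exact hn

/-- The automorphism groups of `Q` in `F` and in `N_F(Q)` coincide, and `Q` is fully normalized in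
`N_F(Q)`. -/
theorem normalizerSystem_autGroup_self (F : FusionSystem S) {Q : Subgroup Ω} (hQ : Q ≤ S)
    (N : FusionSystem (normalizerIn S Q)) (hN : F.IsNormalizerSystem Q N) :
    N.autGroup Q = F.autGroup Q := by
  apply le_antisymm
  · refine Subgroup.closure_mono fun α hα => ?_
    have hα' : Q.subtype.comp α.toMonoidHom ∈ N.Hom Q := hα
    rw [hN Q] at hα'
    exact hα'.1
  · refine Subgroup.closure_mono fun α hα => ?_
    show Q.subtype.comp α.toMonoidHom ∈ N.Hom Q
    rw [hN Q]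
    have hsup : Q ⊔ Q ≤ Q := sup_le le_rfl le_rfl
    refine ⟨hα, le_normalizerIn hQ, fun x => le_normalizerIn hQ (α x).2,
      (Q.subtype.comp α.toMonoidHom).comp (Subgroup.inclusion hsup), restrict_mem F hsup hα,
      fun x => rfl, ?_⟩
    rw [map_subgroupOf_eq_iff le_sup_right]
    refine ⟨fun q => (α q).2, fun y hy => ⟨α.symm ⟨y, hy⟩, ?_⟩⟩
    show ((α (α.symm ⟨y, hy⟩) : Q) : Ω) = y
    rw [MulEquiv.apply_symm_apply]

theorem normalizerSystem_isFullyNormalized_self (F : FusionSystem S) {Q : Subgroup Ω} (hQ : Q ≤ S)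
    (N : FusionSystem (normalizerIn S Q)) (hN : F.IsNormalizerSystem Q N) :
    N.IsFullyNormalized Q := by
  refine ⟨le_normalizerIn hQ, ?_⟩
  rintro Q' ⟨φ, hφ, rfl⟩
  rw [hN Q] at hφ
  obtain ⟨-, -, -, ψ, -, hψφ, hψQ⟩ := hφ
  rw [map_subgroupOf_eq_iff le_sup_right] at hψQ
  have : φ.range = Q := by
    ext y
    constructor
    · rintro ⟨x, rfl⟩
      rw [← hψφ]
      have := hψQ.1 x
      exact this
    · intro hy
      obtain ⟨q, hq⟩ := hψQ.2 y hy
      refine ⟨q, ?_⟩
      rw [← hψφ]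
      exact hq
  rw [this]

/-- `p`-stability of `F` follows from `p`-stability of the normalizer systems of the non-cyclic fully
normalized subgroups. -/
theorem PStable.of_normalizers [Finite S] {p : ℕ} [Fact p.Prime] (hS : IsPGroup p S)
    {F : FusionSystem S}
    (h : ∀ R : Subgroup Ω, F.IsFullyNormalized R → ¬ IsCyclic ↥R →
      ∀ N : FusionSystem (normalizerIn S R), F.IsNormalizerSystem R N → PStable p N) :
    PStable p F := by
  intro Q hQ χ hχ hq
  have : Finite Q := Finite.of_injective _ (Subgroup.inclusion_injective hQ.1)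
  by_cases hc : IsCyclic Q
  · exact quadratic_mem_pCore_of_isCyclic (hS.to_le hQ.1) hc hχ hq
  · have hN := normalizerSystem_isNormalizerSystem F Q hQ.1
    have h0 := normalizerSystem_autGroup_self F hQ.1 _ hN
    have h1 := h Q hQ hc (normalizerSystem F Q hQ.1) hN Q
      (normalizerSystem_isFullyNormalized_self F hQ.1 _ hN) χ (h0 ▸ hχ) hq
    rw [h0] at h1
    exact h1

end Cfsg.Agent.H89
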