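import Cfsg.Agent.H87.RedDefs

/-!
# S5202, piece ACTB (helper89 for helper87): the subgroup of `S` acting on `T` through `Aut_E(T)`
is `T C_S(T)` when `E` is a saturated system over `T`.
-/

set_option autoImplicit false

namespace Cfsg.Agent.H89.Red

open Cfsg Cfsg.FusionSystem Cfsg.Agent.H86 Cfsg.Agent.H87

universe u

variable {Ω : Type u} [Group Ω] {S T : Subgroup Ω}

theorem actSub_autGroup [Finite S] {p : ℕ} [Fact p.Prime] (hS : IsPGroup p S)
    {T : Subgroup Ω} (hTS : T ≤ S) {E : FusionSystem T} (hE : E.IsSaturated p) :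
    actSub S T (E.autGroup T) = T ⊔ centralizerIn S T := by
  haveI : Finite T := finite_of_le hTS
  have hTp : IsPGroup p T := hS.to_le hTS
  apply le_antisymm
  · intro x hx
    obtain ⟨hxS, k, hk, hkx⟩ := hx
    obtain ⟨-, -, R, hR⟩ :=
      saturated_fullyNormalized hTp hE (Cfsg.Agent.H88.fullyNormalized_self E)
    have hRn : (R : Subgroup (E.autGroup T)).Normal := by
      rw [hR]
      constructor
      intro r hr a
      rw [Subgroup.mem_subgroupOf] at hr ⊢
      obtain ⟨t, ht, hrt⟩ := (mem_autInducedBy_iff T T _).1 hr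
      rw [mem_autInducedBy_iff]
      refine ⟨((a : MulAut T) ⟨t, ht⟩ : T), ((a : MulAut T) ⟨t, ht⟩).2, fun y => ?_⟩
      show (((a : MulAut T) ((r : MulAut T) ((a : MulAut T)⁻¹ y)) : T) : Ω) = _
      have h1 : (r : MulAut T) ((a : MulAut T)⁻¹ y) =
          ⟨t, ht⟩ * ((a : MulAut T)⁻¹ y) * ⟨t, ht⟩⁻¹ := Subtype.ext (by rw [hrt]; rfl)
      rw [h1, map_mul, map_mul, map_inv, MulAut.apply_inv_self]
      rfl
    obtain ⟨m, hm⟩ := hS ⟨x, hxS⟩
    have hxm : x ^ p ^ m = 1 := by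
      have h1 := congrArg Subtype.val hm
      simpa using h1
    have hkm : k ^ p ^ m = 1 := by
      ext y
      rw [autInducedBy_pow hkx, hxm]
      simp
    have hkR : (⟨k, hk⟩ : E.autGroup T) ∈ (R : Subgroup (E.autGroup T)) := by
      have hz : IsPGroup p (Subgroup.zpowers (⟨k, hk⟩ : E.autGroup T)) := by
        rintro ⟨g, hg⟩
        obtain ⟨i, rfl⟩ := Subgroup.mem_zpowers_iff.1 hg
        refine ⟨m, Subtype.ext ?_⟩
        show ((⟨k, hk⟩ : E.autGroup T) ^ i) ^ p ^ m = 1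
        have h1 : (⟨k, hk⟩ : E.autGroup T) ^ p ^ m = 1 := Subtype.ext hkm
        rw [← zpow_natCast, ← zpow_mul, mul_comm, zpow_mul, zpow_natCast, h1, one_zpow]
      obtain ⟨Q, hQ⟩ := hz.exists_le_sylow
      have hQR : Q = R := (Sylow.unique_of_normal R hRn).instSubsingleton.elim Q R
      rw [← hQR]
      exact hQ (Subgroup.mem_zpowers _)
    rw [hR, Subgroup.mem_subgroupOf] at hkR
    obtain ⟨t, ht, hkt⟩ := (mem_autInducedBy_iff T T k).1 hkR
    have hc : t⁻¹ * x ∈ centralizerIn S T := by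
      rw [mem_centralizerIn_iff]
      refine ⟨S.mul_mem (S.inv_mem (hTS ht)) hxS, fun y hy => ?_⟩
      have h1 : x * y * x⁻¹ = t * y * t⁻¹ := by
        rw [← hkx ⟨y, hy⟩, hkt ⟨y, hy⟩]
      have h2 : y = t⁻¹ * (x * y * x⁻¹) * t := by rw [h1]; group
      calc y * (t⁻¹ * x) = t⁻¹ * (x * y * x⁻¹) * t * (t⁻¹ * x) := by rw [← h2]
        _ = t⁻¹ * x * y := by group
    have hx : x = t * (t⁻¹ * x) := by group
    rw [hx]
    exact Subgroup.mul_mem _ (Subgroup.mem_sup_left ht) (Subgroup.mem_sup_right hc)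
  · refine sup_le ?_ ?_
    · intro t ht
      refine ⟨hTS ht, MulAut.conj (⟨t, ht⟩ : T), ?_, fun y => ?_⟩
      · exact inn_le_autGroup E le_rfl ⟨⟨t, ht⟩, rfl⟩
      · simp [MulAut.conj_apply]
    · intro c hc
      rw [mem_centralizerIn_iff] at hc
      refine ⟨hc.1, 1, Subgroup.one_mem _, fun y => ?_⟩
      have h1 := hc.2 y y.2
      show (y : Ω) = c * y * c⁻¹
      rw [← h1]; group

end Cfsg.Agent.H89.Red
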