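import Cfsg.Agent.H87.RedDefs

/-!
# S5202, piece PUIGSC (helper89 for helper87): for `T` strongly closed in the saturated system `F`
and `K ≤ Aut(T)` containing `Inn(T)` and normalized by `Aut_F(T)`, the subgroup of `S` acting on
`T` through `K` is strongly closed in `F` (by Puig's lemma).
-/

set_option autoImplicit false

namespace Cfsg.Agent.H89.Red

open Cfsg Cfsg.FusionSystem Cfsg.Agent.H86 Cfsg.Agent.H87

universe u

variable {Ω : Type u} [Group Ω] {S T : Subgroup Ω}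

theorem actSub_stronglyClosed [Finite S] {p : ℕ} [Fact p.Prime] (hS : IsPGroup p S)
    {F : FusionSystem S} (hF : F.IsSaturated p) {T : Subgroup Ω} (hT : F.StronglyClosed T)
    {K : Subgroup (MulAut T)} (hInn : ∀ t : T, MulAut.conj t ∈ K)
    (hKn : ∀ a ∈ F.autGroup T, ∀ k ∈ K, a * k * a⁻¹ ∈ K) :
    F.StronglyClosed (actSub S T K) := by
  rw [stronglyClosed_iff]
  refine ⟨actSub_le S T K, fun R f hR hf x hx => ?_⟩
  obtain ⟨hxS, k, hk, hkx⟩ := hR hx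
  obtain ⟨f', hf', hff'⟩ := Cfsg.Agent.H88.exists_extension_mod hS hF hT hf
  have hfT : Mor F T f' := hf'.restrict le_sup_right
  have himg : imgS T f' = T := Cfsg.Agent.H88.imgS_stronglyClosed hT hf' le_sup_right
  obtain ⟨a, haF, hae⟩ : ∃ a : MulAut T, a ∈ F.autGroup T ∧ ∀ y : T, ((a y : T) : Ω) = f' y :=
    ⟨mkAut hfT himg, mkAut_mem hfT himg, fun y => mkAut_apply hfT himg y⟩
  have hτ : (f x)⁻¹ * f' x ∈ T := hff' x hx
  have hxR : x ∈ R ⊔ T := Subgroup.mem_sup_left hx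
  have key : ∀ s : T, ((a (k (a⁻¹ s)) : T) : Ω) = f' x * s * (f' x)⁻¹ := by
    intro s
    have hsT : ((a⁻¹ s : T) : Ω) ∈ R ⊔ T := Subgroup.mem_sup_right (a⁻¹ s).2
    have h1 : f' ((a⁻¹ s : T) : Ω) = s := by
      rw [← hae, MulAut.apply_inv_self]
    rw [hae, hkx, hf'.map_mul (mul_mem hxR hsT) (inv_mem hxR), hf'.map_mul hxR hsT,
      hf'.map_inv hxR, h1]
  refine ⟨hf.mem hx, a * k * a⁻¹ * MulAut.conj (⟨(f x)⁻¹ * f' x, hτ⟩ : T)⁻¹,
    K.mul_mem (hKn a haF k hk) (hInn _), fun t => ?_⟩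
  rw [MulAut.mul_apply, MulAut.mul_apply, MulAut.mul_apply, key, MulAut.conj_apply]
  show f' x * (((f x)⁻¹ * f' x)⁻¹ * (t : Ω) * ((f x)⁻¹ * f' x)⁻¹⁻¹) * (f' x)⁻¹ = f x * t * (f x)⁻¹
  group

end Cfsg.Agent.H89.Red
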