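import Cfsg.Agent.H89.OliverSL2

set_option autoImplicit false

/-!
Variants of the reflection lemmas of `OliverSL2` in which the second centre need not lie in `A`.
-/

namespace Cfsg.Agent.H89

open Cfsg Cfsg.FusionSystem Cfsg.Agent.H86
open scoped commutatorElement

section reflgen

variable {Ω : Type*} [Group Ω] {S : Subgroup Ω}

/-- `Z(S) ∩ [S, S]` is generated by `[w, x]`, of order `p`. -/
theorem AbIdx.center_inf_commutator_eq' {p : ℕ} {A : Subgroup Ω} (h : AbIdx p S A) {x : Ω}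
    (hx : x ∈ S) (hxA : x ∉ A)
    {w : Ω} (hwA : w ∈ A)
    (hw : w ∈ (Subgroup.upperCentralSeries ↥S 2).map S.subtype)
    (hwZ : w ∉ S ⊓ Subgroup.centralizer (S : Set Ω))
    (hwp : w ^ p ∈ S ⊓ Subgroup.centralizer (S : Set Ω))
    (hgen : ∀ g ∈ (Subgroup.upperCentralSeries ↥S 2).map S.subtype, g ∈ A →
      ∃ k : ℕ, g * (w ^ k)⁻¹ ∈ S ⊓ Subgroup.centralizer (S : Set Ω)) :
    (S ⊓ Subgroup.centralizer (S : Set Ω)) ⊓ ⁅S, S⁆ = Subgroup.zpowers (w * x * w⁻¹ * x⁻¹) ∧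
      (w * x * w⁻¹ * x⁻¹) ^ p = 1 ∧ w * x * w⁻¹ * x⁻¹ ≠ 1 := by
  have hz₁Z : w * x * w⁻¹ * x⁻¹ ∈ S ⊓ Subgroup.centralizer (S : Set Ω) :=
    (mem_Z2_iff.1 hw).2 x hx
  have hz₁S' : w * x * w⁻¹ * x⁻¹ ∈ ⁅S, S⁆ := by
    rw [← commutatorElement_def]
    exact Subgroup.commutator_mem_commutator (h.le hwA) hx
  have hz₁1 : w * x * w⁻¹ * x⁻¹ ≠ 1 := by
    intro h1
    apply hwZ
    rw [mem_center_inf_iff]
    refine ⟨h.le hwA, h.central_of_comm hx hxA hwA ?_⟩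
    have := congrArg (fun y => y * x * w) h1
    simpa [mul_assoc] using this
  have hz₁p : (w * x * w⁻¹ * x⁻¹) ^ p = 1 := by
    rw [← h.comm_pow hwA hx, ← (mem_center_inf_iff.1 hwp).2 x hx]
    group
  refine ⟨?_, hz₁p, hz₁1⟩
  apply le_antisymm
  · rintro g ⟨hgZ, hgS'⟩
    obtain ⟨a, ha, rfl⟩ := h.exists_of_mem_commutator hx hxA hgS'
    have haZ2 := h.mem_Z2_of_comm hx hxA ha hgZ
    obtain ⟨k, hk⟩ := hgen a haZ2 ha
    have hcA : a * (w ^ k)⁻¹ ∈ A := A.mul_mem ha (A.inv_mem (A.pow_mem hwA k))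
    have e1 : a = (a * (w ^ k)⁻¹) * w ^ k := by group
    have e2 : (a * (w ^ k)⁻¹) * x * (a * (w ^ k)⁻¹)⁻¹ * x⁻¹ = 1 := by
      rw [← (mem_center_inf_iff.1 hk).2 x hx]
      group
    have e3 : a * x * a⁻¹ * x⁻¹ = (w * x * w⁻¹ * x⁻¹) ^ k := by
      calc a * x * a⁻¹ * x⁻¹
          = ((a * (w ^ k)⁻¹) * w ^ k) * x * ((a * (w ^ k)⁻¹) * w ^ k)⁻¹ * x⁻¹ := by rw [← e1]
        _ = _ := by rw [h.comm_mul hcA (A.pow_mem hwA k) hx, e2, one_mul, h.comm_pow hwA hx]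
    rw [e3]
    exact Subgroup.pow_mem _ (Subgroup.mem_zpowers _) k
  · rw [Subgroup.zpowers_le]
    exact ⟨hz₁Z, hz₁S'⟩


/-- For an abelian essential subgroup `P = Z(S)⟨x⟩` and a separating `γ ∈ Aut_F(P)`, the group
`Aut_F(Z(S))` contains a "reflection" whose fixed points are `Z(S) ∩ γ⁻¹(Z(S))`. -/
theorem exists_refl_of_typeH' [Finite S] {p : ℕ} [hp : Fact p.Prime] (hp2 : p ≠ 2)
    (hS : IsPGroup p S) {F : FusionSystem S} (hF : F.IsSaturated p) {A P : Subgroup Ω}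
    (h : AbIdx p S A) (hna : ∃ g ∈ S, ∃ k ∈ S, g * k ≠ k * g) (hP : F.IsEssential p P) {x : Ω}
    (hxP : x ∈ P) (hxA : x ∉ A) (hab : ∀ g ∈ P, ∀ k ∈ P, g * k = k * g)
    {w : Ω} (hwA : w ∈ A)
    (hw : w ∈ (Subgroup.upperCentralSeries ↥S 2).map S.subtype)
    (hwZ : w ∉ S ⊓ Subgroup.centralizer (S : Set Ω))
    (hwp : w ^ p ∈ S ⊓ Subgroup.centralizer (S : Set Ω))
    (hgen : ∀ g ∈ (Subgroup.upperCentralSeries ↥S 2).map S.subtype, g ∈ A →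
      ∃ k : ℕ, g * (w ^ k)⁻¹ ∈ S ⊓ Subgroup.centralizer (S : Set Ω))
    {γ : MulAut P} (hγ : γ ∈ F.autGroup P) (hsep : Sep S P γ)
    {Z Z₀ : Subgroup Ω} (hZ : Z = S ⊓ Subgroup.centralizer (S : Set Ω)) (hZ₀ : Z₀ = Z ⊓ ⁅S, S⁆) :
    ∃ θ ∈ F.autGroup Z, IsReflAut Z Z₀ θ ∧ (∀ m : ↥Z, θ m = m ↔ autFun P γ m ∈ A) ∧
      ∀ m : ↥Z, ∃ a : ↥Z, θ a = a ∧ ((m * a⁻¹ : ↥Z) : Ω) ∈ Z₀ := by
  subst hZ
  subst hZ₀
  have hPS : P ≤ S := hP.1.1
  have hxS := hPS hxP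
  have : Finite P := finite_of_le hPS
  have hγM : Mor F P (autFun P γ) := (Cfsg.Agent.H86.mem_autGroup_iff hPS γ).1 hγ
  have hZPA := center_le_essential h hna hP.1
  have hZP : S ⊓ Subgroup.centralizer (S : Set Ω) ≤ P := fun z hz => (hZPA hz).1
  have hZA : S ⊓ Subgroup.centralizer (S : Set Ω) ≤ A := fun z hz => (hZPA hz).2
  have hP0 := oliver_abelian h hna hP hxP hxA hab
  have hwS : w ∈ S := h.le hwA
  have hwN : w ∈ normalizerIn S P := Z2_le_normalizerIn hPS hZP hw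
  have hwP : w ∉ P := fun hc => hwZ (hP0 ▸ (⟨hc, hwA⟩ : w ∈ P ⊓ A))
  obtain ⟨hZ0eq, hz₁p, hz₁1⟩ := h.center_inf_commutator_eq' hxS hxA hwA hw hwZ hwp hgen
  obtain ⟨z₁, hz₁def⟩ : ∃ z₁ : Ω, z₁ = w * x * w⁻¹ * x⁻¹ := ⟨_, rfl⟩
  rw [← hz₁def] at hZ0eq hz₁p hz₁1
  have hz₁Z₀ : z₁ ∈ (S ⊓ Subgroup.centralizer (S : Set Ω)) ⊓ ⁅S, S⁆ := by
    rw [hZ0eq]
    exact Subgroup.mem_zpowers z₁
  have hz₁Z : z₁ ∈ S ⊓ Subgroup.centralizer (S : Set Ω) := hz₁Z₀.1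
  have hz₁P : z₁ ∈ P := hZP hz₁Z
  have hz₁c : ∀ s ∈ S, s * z₁ = z₁ * s := (mem_center_inf_iff.1 hz₁Z).2
  have hGP : ∀ γ' : MulAut P, γ' ∈ F.autGroup P → Sep S P γ' → autFun P γ' z₁ ∉ A := by
    intro γ' hγ' hsep' hc
    rw [hz₁def] at hc
    exact hwP (oliver_tl hS hF h hP hxP hxA hγ' hsep' hwA hwN hc)
  have hGP1 := hGP γ hγ hsep
  have hGP2 := hGP γ⁻¹ (inv_mem hγ) hsep.inv
  obtain ⟨τ, hτ⟩ := exists_conjAut (mem_normalizerIn_iff.1 hwN).2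
  have hτT : τ ∈ autInducedBy S P := (mem_autInducedBy_iff S P τ).2 ⟨w, hwS, hτ⟩
  have hτG : τ ∈ F.autGroup P := autInducedBy_le_autGroup F hPS hτT
  have hcommP : ∀ a b : ↥P, a * b = b * a := fun a b => Subtype.ext (hab a a.2 b b.2)
  obtain ⟨z, hz⟩ : ∃ z : ↥P, (z : Ω) = z₁ := ⟨⟨z₁, hz₁P⟩, rfl⟩
  have hzp : z ^ p = 1 := by
    apply Subtype.ext
    rw [Subgroup.coe_pow, hz, hz₁p]
    rfl
  have hτform : ∀ m : ↥P, ∃ i : ℤ, τ m = m * z ^ i := by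
    intro m
    have hmS := hPS m.2
    have hc0 := (mem_Z2_iff.1 hw).2 _ hmS
    have hc1 : w * (m : Ω) * w⁻¹ * (m : Ω)⁻¹ ∈
        (S ⊓ Subgroup.centralizer (S : Set Ω)) ⊓ ⁅S, S⁆ := by
      refine ⟨hc0, ?_⟩
      rw [← commutatorElement_def]
      exact Subgroup.commutator_mem_commutator hwS hmS
    rw [hZ0eq] at hc1
    obtain ⟨i, hi⟩ := Subgroup.mem_zpowers_iff.1 hc1
    refine ⟨i, Subtype.ext ?_⟩
    rw [hτ, Subgroup.coe_mul, Subgroup.coe_zpow, hz, hi]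
    have hcc := (mem_center_inf_iff.1 hc0).2 _ hmS
    rw [hcc]
    group
  have hτz : τ z = z := by
    apply Subtype.ext
    rw [hτ, hz, hz₁c w hwS, mul_inv_cancel_right]
  have hfixτ : ∀ m : ↥P, τ m = m → (m : Ω) ∈ S ⊓ Subgroup.centralizer (S : Set Ω) := by
    intro m hm
    have h1 : w * (m : Ω) * w⁻¹ = m := by rw [← hτ, hm]
    have h2 : w * (m : Ω) = m * w := by
      have := congrArg (fun y => y * w) h1
      simpa using this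
    have hmA : (m : Ω) ∈ A := by
      by_contra hmA
      apply hwZ
      rw [mem_center_inf_iff]
      exact ⟨hwS, h.central_of_comm (hPS m.2) hmA hwA h2⟩
    rw [← hP0]
    exact ⟨m.2, hmA⟩
  have hτfix : ∀ m : ↥P, (m : Ω) ∈ S ⊓ Subgroup.centralizer (S : Set Ω) → τ m = m := by
    intro m hm
    apply Subtype.ext
    rw [hτ, (mem_center_inf_iff.1 hm).2 w hwS, mul_inv_cancel_right]
  obtain ⟨y, hy⟩ : ∃ y : ↥P, y = γ⁻¹ z := ⟨_, rfl⟩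
  have hyA : (y : Ω) ∉ A := by
    rw [hy, ← autFun_apply, hz]
    exact hGP2
  have hγzA : ((γ z : ↥P) : Ω) ∉ A := by
    rw [← autFun_apply, hz]
    exact hGP1
  obtain ⟨σ, hσ⟩ : ∃ σ : MulAut ↥P, σ = γ⁻¹ * τ * γ := ⟨_, rfl⟩
  have hσG : σ ∈ F.autGroup P := by
    rw [hσ]
    exact mul_mem (mul_mem (inv_mem hγ) hτG) hγ
  have hσy : σ y = y := by
    rw [hσ, hy, MulAut.mul_apply, MulAut.mul_apply, MulAut.apply_inv_self, hτz]
  have hσform : ∀ m : ↥P, ∃ l : ℤ, σ m = m * y ^ l := by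
    intro m
    obtain ⟨i, hi⟩ := hτform (γ m)
    refine ⟨i, ?_⟩
    rw [hσ, MulAut.mul_apply, MulAut.mul_apply, hi, map_mul, MulAut.inv_apply_self, map_zpow, hy]
  have hyp : y ^ p = 1 := by rw [hy, ← map_pow, hzp, map_one]
  obtain ⟨i₀, hi₀⟩ := hτform y
  have hi₀ne : z ^ i₀ ≠ 1 := by
    intro hc
    rw [hc, mul_one] at hi₀
    exact hyA (hZA (hfixτ y hi₀))
  obtain ⟨l₀, hl₀⟩ := hσform z
  have hl₀ne : y ^ l₀ ≠ 1 := by
    intro hc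
    rw [hc, mul_one, hσ, MulAut.mul_apply, MulAut.mul_apply] at hl₀
    have h1 : τ (γ z) = γ z := by
      have := congrArg γ hl₀
      rwa [MulAut.apply_inv_self] at this
    exact hγzA (hZA (hfixτ _ h1))
  obtain ⟨z', hz'⟩ : ∃ z' : ↥P, z' = z ^ i₀ := ⟨_, rfl⟩
  have hτz' : τ z' = z' := by rw [hz', map_zpow, hτz]
  have hτy' : τ y = y * z' := by rw [hz']; exact hi₀
  have hσz'e : σ z' = z' * y ^ (l₀ * i₀) := by
    rw [hz', map_zpow, hl₀, (show Commute z (y ^ l₀) from hcommP _ _).mul_zpow, ← zpow_mul]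
  have hσye : σ (y ^ (l₀ * i₀)) = y ^ (l₀ * i₀) := by rw [map_zpow, hσy]
  obtain ⟨n, hn⟩ := exists_zpow_inv hyp hzp hl₀ne hi₀ne
  obtain ⟨σ', hσ'⟩ : ∃ σ' : MulAut ↥P, σ' = σ ^ n := ⟨_, rfl⟩
  have hσ'G : σ' ∈ F.autGroup P := by
    rw [hσ']
    exact Subgroup.zpow_mem _ hσG n
  have hσ'fix : ∀ m : ↥P, σ m = m → σ' m = m := by
    intro m hm
    have := aut_zpow_apply σ m 1 (by rw [mul_one]; exact hm) (map_one σ) n
    rw [one_zpow, mul_one] at this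
    rw [hσ']
    exact this
  have hσ'y : σ' y = y := hσ'fix y hσy
  have hσ'z' : σ' z' = z' * y⁻¹ := by
    rw [hσ', aut_zpow_apply σ z' _ hσz'e hσye n, hn]
  obtain ⟨e₂, he₂⟩ := exists_zpow_eq_of_prime hzp hi₀ne
  have hze : z' ^ e₂ = z := by rw [hz']; exact he₂
  have hτform' : ∀ m : ↥P, ∃ i : ℤ, τ m = m * z' ^ i := by
    intro m
    obtain ⟨i, hi⟩ := hτform m
    refine ⟨e₂ * i, ?_⟩
    rw [zpow_mul, hze]
    exact hi
  have hσform' : ∀ m : ↥P, ∃ l : ℤ, σ' m = m * y ^ l := by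
    intro m
    obtain ⟨l, hl⟩ := hσform m
    refine ⟨l * n, ?_⟩
    rw [hσ', aut_zpow_apply σ m (y ^ l) hl (by rw [map_zpow, hσy]) n, zpow_mul]
  obtain ⟨hεz', hεy, hετ⟩ := sl2_element hcommP τ σ' z' y hτz' hτy' hσ'y hσ'z' hτform' hσform'
  obtain ⟨ε, hε⟩ : ∃ ε : MulAut ↥P, ε = (τ * σ' * τ) * (τ * σ' * τ) := ⟨_, rfl⟩
  rw [← hε] at hεz' hεy hετ
  have hεG : ε ∈ F.autGroup P := by
    rw [hε]
    exact mul_mem (mul_mem (mul_mem hτG hσ'G) hτG) (mul_mem (mul_mem hτG hσ'G) hτG)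
  have hεz : ε z = z⁻¹ := by
    rw [← hze, map_zpow, hεz', inv_zpow]
  have hεfix : ∀ m : ↥P, (m : Ω) ∈ S ⊓ Subgroup.centralizer (S : Set Ω) →
      autFun P γ m ∈ A → ε m = m := by
    intro m hm hmA
    have h1 : τ m = m := hτfix m hm
    have h2 : σ m = m := by
      rw [hσ, MulAut.mul_apply, MulAut.mul_apply]
      have h3 : τ (γ m) = γ m := by
        apply hτfix
        rw [← hP0]
        refine ⟨(γ m).2, ?_⟩
        rw [← autFun_apply]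
        exact hmA
      rw [h3, MulAut.inv_apply_self]
    have h3 : σ' m = m := hσ'fix m h2
    rw [hε]
    simp only [MulAut.mul_apply, h1, h3]
  have hεZ : ∀ m : ↥P, (m : Ω) ∈ S ⊓ Subgroup.centralizer (S : Set Ω) →
      ((ε m : ↥P) : Ω) ∈ S ⊓ Subgroup.centralizer (S : Set Ω) := by
    intro m hm
    apply hfixτ
    have h1 : τ (ε m) = (τ * ε) m := rfl
    rw [h1, ← hετ, MulAut.mul_apply, hτfix m hm]
  have : Finite ↥(S ⊓ Subgroup.centralizer (S : Set Ω)) := finite_of_le inf_le_left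
  have hεM : Mor F P (autFun P ε) := (Cfsg.Agent.H86.mem_autGroup_iff hPS ε).1 hεG
  have hθM : Mor F (S ⊓ Subgroup.centralizer (S : Set Ω)) (autFun P ε) := hεM.restrict hZP
  have himg : imgS (S ⊓ Subgroup.centralizer (S : Set Ω)) (autFun P ε) =
      S ⊓ Subgroup.centralizer (S : Set Ω) := by
    apply imgS_eq_of_maps hθM
    intro m hm
    rw [autFun_of_mem ε (hZP hm)]
    exact hεZ ⟨m, hZP hm⟩ hm
  have hθ : ∀ m : ↥(S ⊓ Subgroup.centralizer (S : Set Ω)),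
      ((mkAut hθM himg m : ↥(S ⊓ Subgroup.centralizer (S : Set Ω))) : Ω) =
        ((ε ⟨m, hZP m.2⟩ : ↥P) : Ω) := by
    intro m
    rw [mkAut_apply, autFun_of_mem ε (hZP m.2)]
  have hdec : ∀ m ∈ S ⊓ Subgroup.centralizer (S : Set Ω),
      ∃ k : ℕ, ∃ a ∈ S ⊓ Subgroup.centralizer (S : Set Ω), autFun P γ a ∈ A ∧ m = a * z₁ ^ k := by
    intro m hm
    obtain ⟨k, a, haP, haA, e⟩ := oliver_decomp h hPS hγM hz₁P hGP1 m (hZP hm)
    refine ⟨k, a, ?_, haA, e⟩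
    have : a = m * (z₁ ^ k)⁻¹ := by rw [e]; group
    rw [this]
    exact Subgroup.mul_mem _ hm (Subgroup.inv_mem _ (Subgroup.pow_mem _ hz₁Z k))
  have hεdec : ∀ (a : Ω) (ha : a ∈ S ⊓ Subgroup.centralizer (S : Set Ω)) (k : ℕ),
      autFun P γ a ∈ A → ∀ hm : a * z₁ ^ k ∈ P,
      ((ε ⟨a * z₁ ^ k, hm⟩ : ↥P) : Ω) = a * (z₁ ^ k)⁻¹ := by
    intro a ha k haA hm
    have e1 : (⟨a * z₁ ^ k, hm⟩ : ↥P) = ⟨a, hZP ha⟩ * z ^ k := by
      apply Subtype.ext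
      rw [Subgroup.coe_mul, Subgroup.coe_pow, hz]
    rw [e1, map_mul, map_pow, hεz, hεfix ⟨a, hZP ha⟩ ha haA, Subgroup.coe_mul, Subgroup.coe_pow,
      Subgroup.coe_inv, hz, inv_pow]
  refine ⟨mkAut hθM himg, mkAut_mem hθM himg, ⟨?_, ?_⟩, ?_, ?_⟩
  · intro c hc
    rw [hZ0eq] at hc
    obtain ⟨j, hj⟩ := Subgroup.mem_zpowers_iff.1 hc
    apply Subtype.ext
    rw [hθ]
    have e1 : (⟨(c : Ω), hZP c.2⟩ : ↥P) = z ^ j := by
      apply Subtype.ext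
      rw [Subgroup.coe_zpow, hz, hj]
    rw [e1, map_zpow, hεz, Subgroup.coe_zpow, Subgroup.coe_inv, hz, Subgroup.coe_inv, ← hj,
      inv_zpow]
  · intro m
    obtain ⟨k, a, ha, haA, e⟩ := hdec m m.2
    rw [hZ0eq]
    have hm' : a * z₁ ^ k ∈ P := e ▸ hZP m.2
    have e2 : (⟨(m : Ω), hZP m.2⟩ : ↥P) = ⟨a * z₁ ^ k, hm'⟩ := Subtype.ext e
    have hu : (z₁ ^ k)⁻¹ * (z₁ ^ k)⁻¹ ∈ S :=
      S.mul_mem (S.inv_mem (S.pow_mem (hPS hz₁P) k)) (S.inv_mem (S.pow_mem (hPS hz₁P) k))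
    have hac := (mem_center_inf_iff.1 ha).2 _ hu
    have e1 : ((mkAut hθM himg m * m⁻¹ : ↥(S ⊓ Subgroup.centralizer (S : Set Ω))) : Ω) =
        (z₁ ^ k)⁻¹ * (z₁ ^ k)⁻¹ := by
      rw [Subgroup.coe_mul, hθ, Subgroup.coe_inv, e2, hεdec a ha k haA hm', e]
      calc a * (z₁ ^ k)⁻¹ * (a * z₁ ^ k)⁻¹ = a * ((z₁ ^ k)⁻¹ * (z₁ ^ k)⁻¹) * a⁻¹ := by group
        _ = ((z₁ ^ k)⁻¹ * (z₁ ^ k)⁻¹) * a * a⁻¹ := by rw [← hac]
        _ = _ := by rw [mul_inv_cancel_right]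
    rw [e1]
    exact Subgroup.mul_mem _ (Subgroup.inv_mem _ (Subgroup.pow_mem _ (Subgroup.mem_zpowers z₁) k))
      (Subgroup.inv_mem _ (Subgroup.pow_mem _ (Subgroup.mem_zpowers z₁) k))
  · intro m
    obtain ⟨k, a, ha, haA, e⟩ := hdec m m.2
    have hm' : a * z₁ ^ k ∈ P := e ▸ hZP m.2
    have e2 : (⟨(m : Ω), hZP m.2⟩ : ↥P) = ⟨a * z₁ ^ k, hm'⟩ := Subtype.ext e
    constructor
    · intro hfix
      have h1 := congrArg Subtype.val hfix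
      rw [hθ, e2, hεdec a ha k haA hm', e] at h1
      have h3 := mul_left_cancel h1
      have h2 : z₁ ^ (2 * k) = 1 := by
        rw [two_mul, pow_add]
        nth_rewrite 1 [← h3]
        rw [inv_mul_cancel]
      have h4 : p ∣ 2 * k := by
        rw [← orderOf_eq_prime hz₁p hz₁1]
        exact orderOf_dvd_of_pow_eq_one h2
      have h5 : p ∣ k := by
        rcases (Nat.Prime.dvd_mul hp.out).1 h4 with h6 | h6
        · exfalso
          exact hp2 ((Nat.prime_dvd_prime_iff_eq hp.out Nat.prime_two).1 h6)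
        · exact h6
      have h6 : z₁ ^ k = 1 := by
        obtain ⟨c, rfl⟩ := h5
        rw [pow_mul, hz₁p, one_pow]
      rw [e, h6, mul_one]
      exact haA
    · intro hmA
      apply Subtype.ext
      rw [hθ]
      exact congrArg Subtype.val (hεfix ⟨m, hZP m.2⟩ m.2 hmA)
  · intro m
    obtain ⟨k, a, ha, haA, e⟩ := hdec m m.2
    refine ⟨⟨a, ha⟩, ?_, ?_⟩
    · apply Subtype.ext
      rw [hθ]
      exact congrArg Subtype.val (hεfix ⟨a, hZP ha⟩ ha haA)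
    · rw [hZ0eq, Subgroup.coe_mul, Subgroup.coe_inv, e]
      have hac := (mem_center_inf_iff.1 ha).2 (z₁ ^ k) (S.pow_mem (hPS hz₁P) k)
      rw [← hac, mul_inv_cancel_right]
      exact Subgroup.pow_mem _ (Subgroup.mem_zpowers z₁) k


/-- For an abelian essential `Q = Z(S)⟨x⟩`, an automorphism in `Aut_F(Q)` either preserves `Z(S)` or
is separating. -/
theorem typeH_dichotomy' {p : ℕ} [hp : Fact p.Prime] {F : FusionSystem S} {A Q : Subgroup Ω}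
    (h : AbIdx p S A) (hna : ∃ g ∈ S, ∃ k ∈ S, g * k ≠ k * g) (hQ : F.IsEssential p Q) {x : Ω}
    (hxQ : x ∈ Q) (hxA : x ∉ A) (hab : ∀ g ∈ Q, ∀ k ∈ Q, g * k = k * g) {w : Ω}
    (hw : w ∈ (Subgroup.upperCentralSeries ↥S 2).map S.subtype)
    (hwA : w ∈ A)
    (hwZ : w ∉ S ⊓ Subgroup.centralizer (S : Set Ω))
    (hwp : w ^ p ∈ S ⊓ Subgroup.centralizer (S : Set Ω))
    (hgen : ∀ g ∈ (Subgroup.upperCentralSeries ↥S 2).map S.subtype, g ∈ A →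
      ∃ k : ℕ, g * (w ^ k)⁻¹ ∈ S ⊓ Subgroup.centralizer (S : Set Ω))
    (δ : MulAut Q) :
    (∀ m ∈ S ⊓ Subgroup.centralizer (S : Set Ω),
      autFun Q δ m ∈ S ⊓ Subgroup.centralizer (S : Set Ω)) ∨ Sep S Q δ := by
  have hQS : Q ≤ S := hQ.1.1
  have hxS := hQS hxQ
  have hZQA := center_le_essential h hna hQ.1
  have hZQ : S ⊓ Subgroup.centralizer (S : Set Ω) ≤ Q := fun z hz => (hZQA hz).1
  have hQ0 := oliver_abelian h hna hQ hxQ hxA hab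
  have hwS : w ∈ S := h.le hwA
  have hwN : w ∈ normalizerIn S Q := Z2_le_normalizerIn hQS hZQ hw
  obtain ⟨τ, hτ⟩ := exists_conjAut (mem_normalizerIn_iff.1 hwN).2
  have hτT : τ ∈ autInducedBy S Q := (mem_autInducedBy_iff S Q τ).2 ⟨w, hwS, hτ⟩
  by_cases hc : δ * τ * δ⁻¹ ∈ autInducedBy S Q
  · left
    obtain ⟨s, hs, Hs⟩ := (mem_autInducedBy_iff S Q _).1 hc
    have hsN : s ∈ normalizerIn S Q :=
      mem_normalizerIn_iff.2 ⟨hs, mem_normalizer_of_induces Hs⟩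
    obtain ⟨b, ⟨hbA, hbN⟩, e, he, rfl⟩ := h.normalizer_decomp hQS hxQ hxA s hsN
    have Hb : ∀ m : ↥Q, (((δ * τ * δ⁻¹) m : ↥Q) : Ω) = b * m * b⁻¹ := by
      intro m
      rw [Hs]
      have h1 := hab e he m m.2
      calc b * e * (m : Ω) * (b * e)⁻¹ = b * (e * (m : Ω)) * e⁻¹ * b⁻¹ := by group
        _ = b * ((m : Ω) * e) * e⁻¹ * b⁻¹ := by rw [h1]
        _ = _ := by group
    have hbZ : b ∉ S ⊓ Subgroup.centralizer (S : Set Ω) := by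
      intro hbZ
      have h1 : δ * τ * δ⁻¹ = 1 := by
        ext m
        rw [Hb, ← (mem_center_inf_iff.1 hbZ).2 m (hQS m.2), mul_inv_cancel_right]
        rfl
      have h2 : τ = 1 := by
        have := congrArg (fun y => δ⁻¹ * y * δ) h1
        simpa [mul_assoc] using this
      have h3 : x = w * x * w⁻¹ := by
        have := hτ ⟨x, hxQ⟩
        rw [h2] at this
        exact this
      apply hwZ
      rw [mem_center_inf_iff]
      refine ⟨hwS, h.central_of_comm hxS hxA hwA ?_⟩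
      have := congrArg (fun y => y * w) h3
      simpa using this.symm
    intro m hm
    have hmQ : m ∈ Q := hZQ hm
    have h1 : (δ * τ * δ⁻¹) (δ ⟨m, hmQ⟩) = δ ⟨m, hmQ⟩ := by
      rw [MulAut.mul_apply, MulAut.mul_apply, MulAut.inv_apply_self]
      congr 1
      apply Subtype.ext
      rw [hτ]
      show w * m * w⁻¹ = m
      rw [(mem_center_inf_iff.1 hm).2 w hwS, mul_inv_cancel_right]
    have h2 := congrArg Subtype.val h1
    rw [Hb] at h2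
    have h3 : b * ((δ ⟨m, hmQ⟩ : ↥Q) : Ω) = ((δ ⟨m, hmQ⟩ : ↥Q) : Ω) * b := by
      have := congrArg (fun y => y * b) h2
      simpa using this
    rw [autFun_of_mem δ hmQ]
    have hnA : ((δ ⟨m, hmQ⟩ : ↥Q) : Ω) ∈ A := by
      by_contra hnA
      apply hbZ
      rw [mem_center_inf_iff]
      exact ⟨h.le hbA, h.central_of_comm (hQS (δ ⟨m, hmQ⟩).2) hnA hbA h3⟩
    rw [← hQ0]
    exact ⟨(δ ⟨m, hmQ⟩).2, hnA⟩
  · right
    intro α hα hα'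
    obtain ⟨s, hs, Hs⟩ := (mem_autInducedBy_iff S Q α).1 hα
    have hsN : s ∈ normalizerIn S Q :=
      mem_normalizerIn_iff.2 ⟨hs, mem_normalizer_of_induces Hs⟩
    obtain ⟨b, ⟨hbA, hbN⟩, e, he, rfl⟩ := h.normalizer_decomp hQS hxQ hxA s hsN
    have hbZ2 : b ∈ (Subgroup.upperCentralSeries ↥S 2).map S.subtype := by
      apply h.mem_Z2_of_comm hxS hxA hbA
      rw [← hQ0]
      exact h.comm_mem_inf hQS hbA hbN hxQ
    obtain ⟨k, hk⟩ := hgen b hbZ2 hbA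
    have hαk : α = τ ^ k := by
      ext m
      rw [Hs, conjAut_pow hτ k m]
      have h1 := hab e he m m.2
      have hu : w ^ k * (m : Ω) * (w ^ k)⁻¹ ∈ S :=
        S.mul_mem (S.mul_mem (S.pow_mem hwS k) (hQS m.2)) (S.inv_mem (S.pow_mem hwS k))
      have h2 := (mem_center_inf_iff.1 hk).2 _ hu
      calc b * e * (m : Ω) * (b * e)⁻¹ = b * (e * (m : Ω)) * e⁻¹ * b⁻¹ := by group
        _ = b * ((m : Ω) * e) * e⁻¹ * b⁻¹ := by rw [h1]
        _ = (b * (w ^ k)⁻¹) * (w ^ k * (m : Ω) * (w ^ k)⁻¹) * (b * (w ^ k)⁻¹)⁻¹ := by group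
        _ = (w ^ k * (m : Ω) * (w ^ k)⁻¹) * (b * (w ^ k)⁻¹) * (b * (w ^ k)⁻¹)⁻¹ := by rw [← h2]
        _ = _ := by rw [mul_inv_cancel_right]
    by_cases hk1 : τ ^ k = 1
    · rw [hαk, hk1]
      exact Subgroup.one_mem _
    · exfalso
      apply hc
      have hτp : τ ^ p = 1 := by
        ext m
        rw [conjAut_pow hτ p m, ← (mem_center_inf_iff.1 hwp).2 m (hQS m.2), mul_inv_cancel_right]
        rfl
      have hk1' : τ ^ (k : ℤ) ≠ 1 := by rwa [zpow_natCast]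
      obtain ⟨e', he'⟩ := exists_zpow_eq_of_prime hτp hk1'
      have h3 : δ * τ * δ⁻¹ = (δ * α * δ⁻¹) ^ e' := by
        rw [conj_zpow, hαk, ← zpow_natCast, he']
      rw [h3]
      exact Subgroup.zpow_mem _ hα' e'

end reflgen

end Cfsg.Agent.H89
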