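import Mathlib
import Cfsg.Agent.H14.SpDefs

/-!
# S2944, piece SP-CORE (for helper14 / helper52)

The pure involution, from the conclusion of S0617, given the four-group lemma `StFour`.
-/

set_option autoImplicit false

namespace Cfsg.Agent.H89.Sp

open Cfsg Cfsg.Agent.H14.Sp

universe u

theorem conj_eq_of_mem {Y : Type u} [Group Y] {S : Subgroup Y} {g w : Y}
    (hg : g ∈ Subgroup.centralizer (S : Set Y)) (hw : w ∈ S) : g * w * g⁻¹ = w := by
  have h := Subgroup.mem_centralizer_iff.mp hg w hw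
  rw [← h, mul_inv_cancel_right]

theorem mem_of_conj_eq {Y : Type u} [Group Y] {S : Subgroup Y} {g : Y}
    (h : ∀ w ∈ S, g * w * g⁻¹ = w) : g ∈ Subgroup.centralizer (S : Set Y) := by
  rw [Subgroup.mem_centralizer_iff]
  intro w hw
  have h' := h w hw
  calc w * g = (g * w * g⁻¹) * g := by rw [h']
    _ = g * w := by group

/-- **SP-CORE**. -/
theorem core (h : StFour.{u}) : StCore.{u} := by
  intro Y _ _ ι V H E hV hHV hfaith hHE hSL hc4 hind hsup hVind hVsup x hxH hxodd hx1 W hWc hW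
  have hEH : ∀ i, E i ≤ H := fun i => hsup ▸ le_iSup E i
  have hWV : ∀ i, ⁅V, E i⁆ ≤ V := fun i => by
    have h1 : ⁅V, E i⁆ ≤ ⨆ j, ⁅V, E j⁆ := le_iSup (fun j => ⁅V, E j⁆) i
    exact (h1.trans le_sup_right).trans hVsup.le
  have hcomV : ∀ a ∈ V, ∀ b ∈ V, a * b = b * a := by
    intro a ha b hb
    haveI : IsMulCommutative ↥V := hV.1
    exact congrArg Subtype.val (mul_comm' (⟨a, ha⟩ : ↥V) ⟨b, hb⟩)
  have hsqV : ∀ a ∈ V, a * a = 1 := fun a ha => by rw [← pow_two]; exact hV.2 a ha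
  -- (1) `H` normalizes each `W_i`
  have hnorm : ∀ i, ∀ g ∈ H, ∀ w ∈ ⁅V, E i⁆, g * w * g⁻¹ ∈ ⁅V, E i⁆ := by
    intro i g hg
    have hle : ⁅V, E i⁆ ≤ (⁅V, E i⁆).comap (MulAut.conj g).toMonoidHom := by
      rw [Subgroup.commutator_le]
      intro v hv e he
      show g * (v * e * v⁻¹ * e⁻¹) * g⁻¹ ∈ ⁅V, E i⁆
      have e1 : g * (v * e * v⁻¹ * e⁻¹) * g⁻¹ =
          (g * v * g⁻¹) * (g * e * g⁻¹) * (g * v * g⁻¹)⁻¹ * (g * e * g⁻¹)⁻¹ := by group
      rw [e1]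
      exact Subgroup.commutator_mem_commutator
        ((Subgroup.mem_normalizer_iff.mp (hHV hg) v).mp hv)
        ((Subgroup.mem_normalizer_iff.mp (hHE i hg) e).mp he)
    intro w hw
    exact hle hw
  -- `H` centralizes `V₀`
  have hV0 : ∀ g ∈ H, g ∈ Subgroup.centralizer
      ((V ⊓ Subgroup.centralizer (H : Set Y) : Subgroup Y) : Set Y) := by
    intro g hg
    rw [Subgroup.mem_centralizer_iff]
    intro v hv
    exact (Subgroup.mem_centralizer_iff.mp hv.2 g hg).symm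
  -- disjointness
  have hdis : ∀ i l, i ≠ l → ∀ w, w ∈ ⁅V, E i⁆ → w ∈ ⁅V, E l⁆ → w = 1 := by
    intro i l hil w h1 h2
    have hd : Disjoint ⁅V, E i⁆ ⁅V, E l⁆ :=
      hVind.pairwiseDisjoint
        (show (some i : Option ι) ≠ some l from fun hh => hil (Option.some.inj hh))
    exact Subgroup.disjoint_def.mp hd h1 h2
  -- (2) `E l` centralizes `W_i` for `l ≠ i`
  have hEcent : ∀ i l, i ≠ l → ∀ e ∈ E l,
      e ∈ Subgroup.centralizer ((⁅V, E i⁆ : Subgroup Y) : Set Y) := by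
    intro i l hil e he
    apply mem_of_conj_eq
    intro w hw
    have h1 : e * w * e⁻¹ * w⁻¹ ∈ ⁅V, E i⁆ :=
      Subgroup.mul_mem _ (hnorm i e (hEH l he) w hw) (inv_mem hw)
    have h2 : e * w * e⁻¹ * w⁻¹ ∈ ⁅V, E l⁆ := by
      have e1 : e * w * e⁻¹ * w⁻¹ = (w * e * w⁻¹ * e⁻¹)⁻¹ := by group
      rw [e1]
      exact inv_mem (Subgroup.commutator_mem_commutator (hWV i hw) he)
    exact mul_inv_eq_one.mp (hdis i l hil _ h1 h2)
  -- (3) faithful
  have hfaithful : ∀ g ∈ H,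
      (∀ i, g ∈ Subgroup.centralizer ((⁅V, E i⁆ : Subgroup Y) : Set Y)) → g = 1 := by
    intro g hg hall
    have hVle : V ≤ Subgroup.centralizer ({g} : Set Y) := by
      rw [← hVsup]
      refine sup_le ?_ (iSup_le fun i => ?_)
      · intro v hv
        rw [Subgroup.mem_centralizer_iff]
        intro g' hg'
        rw [Set.mem_singleton_iff.mp hg']
        exact Subgroup.mem_centralizer_iff.mp hv.2 g hg
      · intro w hw
        rw [Subgroup.mem_centralizer_iff]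
        intro g' hg'
        rw [Set.mem_singleton_iff.mp hg']
        exact (Subgroup.mem_centralizer_iff.mp (hall i) w hw).symm
    have hgC : g ∈ Subgroup.centralizer (V : Set Y) := by
      rw [Subgroup.mem_centralizer_iff]
      intro v hv
      exact (Subgroup.mem_centralizer_iff.mp (hVle hv) g (Set.mem_singleton g)).symm
    have hmem : g ∈ H ⊓ Subgroup.centralizer (V : Set Y) := ⟨hg, hgC⟩
    rw [hfaith] at hmem
    exact Subgroup.mem_bot.mp hmem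
  -- an involution in `E i`
  have hinvol : ∀ i, ∃ t ∈ E i, t * t = 1 ∧ t ≠ 1 := by
    intro i
    obtain ⟨φ⟩ := hSL i
    obtain ⟨s, hs1, hs2⟩ :
        ∃ s : Matrix.SpecialLinearGroup (Fin 2) (ZMod 2), s * s = 1 ∧ s ≠ 1 := by decide
    refine ⟨(φ.symm s : Y), (φ.symm s).2, ?_, ?_⟩
    · have h1 : φ.symm s * φ.symm s = 1 := by rw [← map_mul, hs1, map_one]
      exact congrArg Subtype.val h1
    · intro h1
      apply hs2
      have h2 : φ.symm s = 1 := Subtype.ext h1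
      have h3 := congrArg φ h2
      simpa using h3
  -- a nontrivial element of `H` centralizing all `W_l`, `l ≠ i`, moves `W_i`
  have hmove : ∀ i, ∀ g ∈ H, g ≠ 1 →
      (∀ l, l ≠ i → g ∈ Subgroup.centralizer ((⁅V, E l⁆ : Subgroup Y) : Set Y)) →
      ∃ w ∈ ⁅V, E i⁆, g * w * g⁻¹ ≠ w := by
    intro i g hg hg1 hl
    by_contra hcon
    push Not at hcon
    apply hg1
    apply hfaithful g hg
    intro l
    by_cases hli : l = i
    · rw [hli]; exact mem_of_conj_eq hcon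
    · exact hl l hli
  have hsqW : ∀ i, ∀ w ∈ ⁅V, E i⁆, w * w = 1 := fun i w hw => hsqV w (hWV i hw)
  -- if `x` moves `W_i` then `W_i = W`
  have hA : ∀ i, (∃ w ∈ ⁅V, E i⁆, x * w * x⁻¹ ≠ w) → ⁅V, E i⁆ = W := by
    intro i hxi
    obtain ⟨t, htE, htt, ht1⟩ := hinvol i
    have htH := hEH i htE
    have htm := hmove i t htH ht1 (fun l hl => hEcent l i hl t htE)
    obtain ⟨-, F2, -, -⟩ := h ⁅V, E i⁆ x t t (hc4 i) (hsqW i) (hnorm i x hxH) (hnorm i t htH)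
      (hnorm i t htH) hxodd htt htt hxi htm htm
    have hle : ⁅V, E i⁆ ≤ W := by
      intro w hw
      obtain ⟨u, hu, rfl⟩ := F2 w hw
      exact hW u (hWV i hu)
    exact Subgroup.eq_of_le_of_card_ge hle (by rw [hc4 i]; exact hWc)
  -- `x` moves some `W_i`
  obtain ⟨i, hxi⟩ : ∃ i, ∃ w ∈ ⁅V, E i⁆, x * w * x⁻¹ ≠ w := by
    by_contra hcon
    push Not at hcon
    exact hx1 (hfaithful x hxH (fun i => mem_of_conj_eq (hcon i)))
  have hWi := hA i hxi
  -- `x` centralizes the other `W_l`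
  have hxl : ∀ l, l ≠ i → x ∈ Subgroup.centralizer ((⁅V, E l⁆ : Subgroup Y) : Set Y) := by
    intro l hl
    by_contra hcon
    have hxl' : ∃ w ∈ ⁅V, E l⁆, x * w * x⁻¹ ≠ w := by
      by_contra hc2
      push Not at hc2
      exact hcon (mem_of_conj_eq hc2)
    have hWl := hA l hxl'
    have hbot : ∀ w ∈ ⁅V, E i⁆, w = 1 := fun w hw =>
      hdis i l (Ne.symm hl) w hw (by rw [hWl, ← hWi]; exact hw)
    have hb : ⁅V, E i⁆ = ⊥ := (Subgroup.eq_bot_iff_forall _).mpr hbot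
    have hc := hc4 i
    rw [hb] at hc
    simp at hc
  -- the involution
  obtain ⟨t, htE, htt, ht1⟩ := hinvol i
  have htH := hEH i htE
  have htl : ∀ l, l ≠ i → t ∈ Subgroup.centralizer ((⁅V, E l⁆ : Subgroup Y) : Set Y) :=
    fun l hl => hEcent l i hl t htE
  have htm := hmove i t htH ht1 htl
  obtain ⟨F1, -, F3, -⟩ := h ⁅V, E i⁆ x t t (hc4 i) (hsqW i) (hnorm i x hxH) (hnorm i t htH)
    (hnorm i t htH) hxodd htt htt hxi htm htm
  -- (6)
  have h6 : t * x * t⁻¹ * x = 1 := by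
    apply hfaithful _ (H.mul_mem (H.mul_mem (H.mul_mem htH hxH) (H.inv_mem htH)) hxH)
    intro l
    by_cases hli : l = i
    · rw [hli]; exact mem_of_conj_eq F3
    · exact Subgroup.mul_mem _ (Subgroup.mul_mem _ (Subgroup.mul_mem _ (htl l hli) (hxl l hli))
        (inv_mem (htl l hli))) (hxl l hli)
  -- the decomposition `V = C_V(⟨x, t⟩) W_i`
  obtain ⟨S, hS⟩ : ∃ S : Subgroup Y, ∀ v, v ∈ S ↔
      ∃ a w, a ∈ V ∧ x * a * x⁻¹ = a ∧ t * a * t⁻¹ = a ∧ w ∈ ⁅V, E i⁆ ∧ v = a * w := by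
    refine ⟨{ carrier := {v | ∃ a w, a ∈ V ∧ x * a * x⁻¹ = a ∧ t * a * t⁻¹ = a ∧
                w ∈ ⁅V, E i⁆ ∧ v = a * w}
              mul_mem' := ?_
              one_mem' := ?_
              inv_mem' := ?_ }, fun v => Iff.rfl⟩
    · rintro _ _ ⟨a₁, w₁, ha₁, hx₁, ht₁, hw₁, rfl⟩ ⟨a₂, w₂, ha₂, hx₂, ht₂, hw₂, rfl⟩
      refine ⟨a₁ * a₂, w₁ * w₂, V.mul_mem ha₁ ha₂, ?_, ?_, Subgroup.mul_mem _ hw₁ hw₂, ?_⟩
      · calc x * (a₁ * a₂) * x⁻¹ = (x * a₁ * x⁻¹) * (x * a₂ * x⁻¹) := by group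
          _ = a₁ * a₂ := by rw [hx₁, hx₂]
      · calc t * (a₁ * a₂) * t⁻¹ = (t * a₁ * t⁻¹) * (t * a₂ * t⁻¹) := by group
          _ = a₁ * a₂ := by rw [ht₁, ht₂]
      · have hc := hcomV w₁ (hWV i hw₁) a₂ ha₂
        calc a₁ * w₁ * (a₂ * w₂) = a₁ * (w₁ * a₂) * w₂ := by group
          _ = a₁ * (a₂ * w₁) * w₂ := by rw [hc]
          _ = a₁ * a₂ * (w₁ * w₂) := by group
    · exact ⟨1, 1, V.one_mem, by group, by group, Subgroup.one_mem _, (mul_one 1).symm⟩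
    · rintro _ ⟨a, w, ha, hxa, hta, hw, rfl⟩
      refine ⟨a⁻¹, w⁻¹, V.inv_mem ha, ?_, ?_, Subgroup.inv_mem _ hw, ?_⟩
      · calc x * a⁻¹ * x⁻¹ = (x * a * x⁻¹)⁻¹ := by group
          _ = a⁻¹ := by rw [hxa]
      · calc t * a⁻¹ * t⁻¹ = (t * a * t⁻¹)⁻¹ := by group
          _ = a⁻¹ := by rw [hta]
      · have hc := hcomV a ha w (hWV i hw)
        rw [hc, mul_inv_rev]
  have hVS : V ≤ S := by
    rw [← hVsup]
    refine sup_le ?_ (iSup_le fun l => ?_)
    · intro v hv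
      rw [hS]
      exact ⟨v, 1, hv.1, conj_eq_of_mem (hV0 x hxH) hv, conj_eq_of_mem (hV0 t htH) hv,
        Subgroup.one_mem _, (mul_one v).symm⟩
    · intro w hw
      rw [hS]
      by_cases hli : l = i
      · rw [hli] at hw
        exact ⟨1, w, V.one_mem, by group, by group, hw, (one_mul w).symm⟩
      · exact ⟨w, 1, hWV l hw, conj_eq_of_mem (hxl l hli) hw, conj_eq_of_mem (htl l hli) hw,
          Subgroup.one_mem _, (mul_one w).symm⟩
  -- `C_V(x) ≤ C_V(t)`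
  have hCX : ∀ v ∈ V, x * v * x⁻¹ = v → t * v * t⁻¹ = v := by
    intro v hv hxv
    obtain ⟨a, w, ha, hxa, hta, hw, rfl⟩ := (hS v).mp (hVS hv)
    have hxw : x * w * x⁻¹ = w := by
      have e : x * (a * w) * x⁻¹ = (x * a * x⁻¹) * (x * w * x⁻¹) := by group
      rw [e, hxa] at hxv
      exact mul_left_cancel hxv
    have hw1 := F1 w hw hxw
    rw [hw1, mul_one]
    exact hta
  refine ⟨t, htH, htt, mul_eq_one_iff_eq_inv.mp h6, ?_⟩
  intro y hyH hyV hyx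
  have ht'H : y * t * y⁻¹ ∈ H := (Subgroup.mem_normalizer_iff.mp hyH t).mp htH
  have ht't' : (y * t * y⁻¹) * (y * t * y⁻¹) = 1 := by
    calc (y * t * y⁻¹) * (y * t * y⁻¹) = y * (t * t) * y⁻¹ := by group
      _ = 1 := by rw [htt]; group
  have ht'1 : y * t * y⁻¹ ≠ 1 := by
    intro h1
    apply ht1
    calc t = y⁻¹ * (y * t * y⁻¹) * y := by group
      _ = 1 := by rw [h1]; group
  have hcx' : ∀ v ∈ V, x * v * x⁻¹ = v → (y * t * y⁻¹) * v * (y * t * y⁻¹)⁻¹ = v := by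
    intro v hv hxv
    have hu : y⁻¹ * v * y ∈ V := (Subgroup.mem_normalizer_iff''.mp hyV v).mp hv
    have hxu : x * (y⁻¹ * v * y) * x⁻¹ = y⁻¹ * v * y := by
      have hx' : (y * x * y⁻¹) * v * (y * x * y⁻¹)⁻¹ = v := by
        rcases hyx with hh | hh
        · rw [hh]; exact hxv
        · rw [hh, inv_inv]
          calc x⁻¹ * v * x = x⁻¹ * (x * v * x⁻¹) * x := by rw [hxv]
            _ = v := by group
      calc x * (y⁻¹ * v * y) * x⁻¹
          = y⁻¹ * ((y * x * y⁻¹) * v * (y * x * y⁻¹)⁻¹) * y := by group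
        _ = y⁻¹ * v * y := by rw [hx']
    have htu := hCX _ hu hxu
    calc (y * t * y⁻¹) * v * (y * t * y⁻¹)⁻¹
        = y * (t * (y⁻¹ * v * y) * t⁻¹) * y⁻¹ := by group
      _ = y * (y⁻¹ * v * y) * y⁻¹ := by rw [htu]
      _ = v := by group
  have ht'l : ∀ l, l ≠ i →
      y * t * y⁻¹ ∈ Subgroup.centralizer ((⁅V, E l⁆ : Subgroup Y) : Set Y) := by
    intro l hl
    apply mem_of_conj_eq
    intro w hw
    exact hcx' w (hWV l hw) (conj_eq_of_mem (hxl l hl) hw)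
  have ht'm := hmove i _ ht'H ht'1 ht'l
  obtain ⟨-, -, -, m, F4⟩ := h ⁅V, E i⁆ x t (y * t * y⁻¹) (hc4 i) (hsqW i) (hnorm i x hxH)
    (hnorm i t htH) (hnorm i _ ht'H) hxodd htt ht't' hxi htm ht'm
  refine ⟨m, ?_⟩
  have hpH : x ^ m ∈ H := H.pow_mem hxH m
  have hpl : ∀ l, l ≠ i → x ^ m ∈ Subgroup.centralizer ((⁅V, E l⁆ : Subgroup Y) : Set Y) :=
    fun l hl => Subgroup.pow_mem _ (hxl l hl) m
  generalize x ^ m = p at F4 hpH hpl ⊢
  have hg : p⁻¹ * (y * t * y⁻¹ * t⁻¹) = 1 := by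
    apply hfaithful _ (H.mul_mem (H.inv_mem hpH) (H.mul_mem ht'H (H.inv_mem htH)))
    intro l
    by_cases hli : l = i
    · rw [hli]
      apply mem_of_conj_eq
      intro w hw
      have h4 := F4 w hw
      calc p⁻¹ * (y * t * y⁻¹ * t⁻¹) * w * (p⁻¹ * (y * t * y⁻¹ * t⁻¹))⁻¹
          = p⁻¹ * ((y * t * y⁻¹ * t⁻¹) * w * (y * t * y⁻¹ * t⁻¹)⁻¹) * p := by group
        _ = p⁻¹ * (p * w * p⁻¹) * p := by rw [h4]
        _ = w := by group
    · exact Subgroup.mul_mem _ (inv_mem (hpl l hli))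
        (Subgroup.mul_mem _ (ht'l l hli) (inv_mem (htl l hli)))
  exact (inv_mul_eq_one.mp hg).symm

example (h : StFour.{u}) : StCore.{u} := core h

end Cfsg.Agent.H89.Sp
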