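import Cfsg.Agent.H89.Stab
import Cfsg.Agent.H86.FusEss
import Cfsg.Agent.H88.Ess

set_option autoImplicit false

/-!
Essential subgroups: automorphisms separating `Aut_S(E)` from a conjugate, and the resulting
"transvection lemma".
-/

namespace Cfsg.Agent.H89

open Cfsg Cfsg.FusionSystem Cfsg.Agent.H86
open scoped Pointwise

theorem le_sylow_of_normalizes {G : Type*} [Group G] {p : ℕ} [Fact p.Prime] (R : Sylow p G)
    {K : Subgroup G} (hK : IsPGroup p K) (hn : ∀ r ∈ R, ∀ k ∈ K, r * k * r⁻¹ ∈ K) :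
    K ≤ R := by
  have h1 : (R : Subgroup G) ≤ Subgroup.normalizer K := by
    intro r hr
    rw [Subgroup.mem_normalizer_iff]
    intro k
    constructor
    · exact hn r hr k
    · intro h
      have := hn r⁻¹ (inv_mem hr) _ h
      simpa [mul_assoc] using this
  have h2 : IsPGroup p (↥((R : Subgroup G) ⊔ K)) :=
    IsPGroup.to_sup_of_normal_right' R.isPGroup' hK h1
  have h3 := R.is_maximal' h2 le_sup_left
  have h4 : K ≤ (R : Subgroup G) ⊔ K := le_sup_right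
  rw [h3] at h4
  exact h4

variable {Ω : Type*} [Group Ω] {S : Subgroup Ω}

/-- `γ` separates `T = Aut_S(E)` from its conjugate: `T ∩ γ⁻¹ T γ ≤ Inn(E)`. -/
def Sep (S E : Subgroup Ω) (γ : MulAut E) : Prop :=
  ∀ α ∈ autInducedBy S E, γ * α * γ⁻¹ ∈ autInducedBy S E → α ∈ Inn E

theorem Sep.inv {E : Subgroup Ω} {γ : MulAut E} (h : Sep S E γ) : Sep S E γ⁻¹ := by
  intro α hα hα'
  have h1 : γ * (γ⁻¹ * α * γ⁻¹⁻¹) * γ⁻¹ = α := by group
  have h2 := h _ hα' (by rw [h1]; exact hα)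
  have h3 : γ * (γ⁻¹ * α * γ⁻¹⁻¹) * γ⁻¹ ∈ Inn E := (Cfsg.innNormal ↥E).conj_mem _ h2 γ
  rwa [h1] at h3

theorem exists_sep [Finite S] {p : ℕ} [Fact p.Prime] {F : FusionSystem S} {E : Subgroup Ω}
    (ha : F.IsFullyAutomized p E) (hess : F.IsEssential p E) :
    ∃ γ ∈ F.autGroup E, Sep S E γ := by
  obtain ⟨hcen, hfn, hn', Ē, hĒ⟩ := hess
  have hE : E ≤ S := hcen.1
  have : Finite E := finite_of_le hE
  have : Finite (MulAut E) := inferInstance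
  have : Finite (F.autGroup E) := inferInstance
  obtain ⟨S₁, S₂, h12⟩ := Cfsg.Agent.H40.exists_sylow_inf_eq_bot_of_stronglyPEmbedded Ē hĒ
  obtain ⟨R, hR⟩ := ha.2
  have hπ : Function.Surjective (QuotientGroup.mk' ((Inn E).subgroupOf (F.autGroup E))) :=
    QuotientGroup.mk'_surjective _
  have hT : ((R.mapSurjective hπ : Sylow p _) : Subgroup _) =
      (R : Subgroup (F.autGroup E)).map (QuotientGroup.mk' ((Inn E).subgroupOf (F.autGroup E))) :=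
    Sylow.coe_mapSurjective hπ R
  obtain ⟨x₁, hx₁⟩ := MulAction.exists_smul_eq (F.autGroup E ⧸ (Inn E).subgroupOf (F.autGroup E))
    (R.mapSurjective hπ) S₁
  obtain ⟨x₂, hx₂⟩ := MulAction.exists_smul_eq (F.autGroup E ⧸ (Inn E).subgroupOf (F.autGroup E))
    (R.mapSurjective hπ) S₂
  have hconj : ∀ (x₀ : F.autGroup E ⧸ (Inn E).subgroupOf (F.autGroup E))
      (T' : Sylow p (F.autGroup E ⧸ (Inn E).subgroupOf (F.autGroup E))),
      x₀ • R.mapSurjective hπ = T' →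
      ∀ t ∈ ((R.mapSurjective hπ : Sylow p _) : Subgroup _), x₀ * t * x₀⁻¹ ∈ (T' : Subgroup _) := by
    intro x₀ T' hx₀ t ht
    have h3 := Subgroup.smul_mem_pointwise_smul _ (MulAut.conj x₀) _ ht
    rw [← Sylow.coe_subgroup_smul, hx₀, MulAut.smul_def, MulAut.conj_apply] at h3
    exact h3
  obtain ⟨γ, hγ⟩ := hπ (x₂⁻¹ * x₁)
  refine ⟨γ.1, γ.2, ?_⟩
  intro α hα hα'
  have hαG : α ∈ F.autGroup E := autInducedBy_le_autGroup F hE hα
  have h1 : QuotientGroup.mk' ((Inn E).subgroupOf (F.autGroup E)) ⟨α, hαG⟩ ∈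
      ((R.mapSurjective hπ : Sylow p _) : Subgroup _) := by
    rw [hT]
    exact Subgroup.mem_map_of_mem _ (by rw [hR]; exact Subgroup.mem_subgroupOf.2 hα)
  have h2 : QuotientGroup.mk' ((Inn E).subgroupOf (F.autGroup E)) (γ * ⟨α, hαG⟩ * γ⁻¹) ∈
      ((R.mapSurjective hπ : Sylow p _) : Subgroup _) := by
    rw [hT]
    exact Subgroup.mem_map_of_mem _ (by rw [hR]; exact Subgroup.mem_subgroupOf.2 hα')
  have h3 := hconj x₁ S₁ hx₁ _ h1
  have h4 := hconj x₂ S₂ hx₂ _ h2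
  rw [map_mul, map_mul, map_inv, hγ] at h4
  have h5 : x₂ * (x₂⁻¹ * x₁ * QuotientGroup.mk' ((Inn E).subgroupOf (F.autGroup E)) ⟨α, hαG⟩ *
      (x₂⁻¹ * x₁)⁻¹) * x₂⁻¹ =
      x₁ * QuotientGroup.mk' ((Inn E).subgroupOf (F.autGroup E)) ⟨α, hαG⟩ * x₁⁻¹ := by group
  rw [h5] at h4
  have h6 : x₁ * QuotientGroup.mk' ((Inn E).subgroupOf (F.autGroup E)) ⟨α, hαG⟩ * x₁⁻¹ ∈
      ((S₁ : Subgroup _) ⊓ (S₂ : Subgroup _)) := ⟨h3, h4⟩
  rw [h12, Subgroup.mem_bot] at h6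
  have h7 : QuotientGroup.mk' ((Inn E).subgroupOf (F.autGroup E)) ⟨α, hαG⟩ = 1 := by
    have := congrArg (fun y => x₁⁻¹ * y * x₁) h6
    simpa [mul_assoc] using this
  rw [QuotientGroup.mk'_apply, QuotientGroup.eq_one_iff, Subgroup.mem_subgroupOf] at h7
  exact h7

/-- An automorphism in `Aut_F(E)` stabilizing a chain `1 ≤ D ≤ E` with `D` invariant under
`Aut_S(E)` lies in `Aut_S(E)` (`E` fully automized). -/
theorem mem_autInducedBy_of_stab [Finite S] {p : ℕ} [Fact p.Prime] (hS : IsPGroup p S)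
    {F : FusionSystem S} {E : Subgroup Ω} (ha : F.IsFullyAutomized p E) (D : Subgroup ↥E)
    (hD : ∀ t ∈ autInducedBy S E, ∀ u ∈ D, t u ∈ D)
    {κ : MulAut ↥E} (hκ : κ ∈ F.autGroup E) (hκ1 : ∀ u : ↥E, u⁻¹ * κ u ∈ D)
    (hκ2 : ∀ u ∈ D, κ u = u) : κ ∈ autInducedBy S E := by
  have hE : E ≤ S := ha.1
  have : Finite E := finite_of_le hE
  obtain ⟨R, hR⟩ := ha.2
  obtain ⟨Ach, hA0, hA1, hA2⟩ : ∃ Ach : ℕ → Subgroup ↥E, Ach 0 = ⊤ ∧ Ach 1 = D ∧ Ach 2 = ⊥ :=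
    ⟨fun i => if i = 0 then ⊤ else if i = 1 then D else ⊥, by simp, by simp, by simp⟩
  have hA1' : Ach (0 + 1) = D := hA1
  have hA2' : Ach (1 + 1) = ⊥ := hA2
  have hanti : ∀ i < 2, Ach (i + 1) ≤ Ach i := by
    intro i hi
    interval_cases i
    · rw [hA0]; exact le_top
    · rw [hA2']; exact bot_le
  have hCp : IsPGroup p (chainStab (F.autGroup E) Ach 2 hanti) :=
    chainStab_isPGroup (hS.to_le hE) (F.autGroup E) Ach 2 hanti hA0 hA2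
  have hκC : κ ∈ chainStab (F.autGroup E) Ach 2 hanti := by
    rw [mem_chainStab_iff]
    refine ⟨hκ, fun i hi u hu => ?_⟩
    interval_cases i
    · rw [hA1']; exact hκ1 u
    · rw [hA1] at hu
      rw [hA2', Subgroup.mem_bot, hκ2 u hu, inv_mul_cancel]
  have hnorm : ∀ t ∈ autInducedBy S E, ∀ c ∈ chainStab (F.autGroup E) Ach 2 hanti,
      t * c * t⁻¹ ∈ chainStab (F.autGroup E) Ach 2 hanti := by
    intro t ht c hc
    rw [mem_chainStab_iff] at hc ⊢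
    have htG := autInducedBy_le_autGroup F hE ht
    refine ⟨mul_mem (mul_mem htG hc.1) (inv_mem htG), fun i hi u hu => ?_⟩
    have e : u⁻¹ * (t * c * t⁻¹) u = t ((t⁻¹ u)⁻¹ * c (t⁻¹ u)) := by
      rw [map_mul, map_inv, MulAut.mul_apply, MulAut.mul_apply, MulAut.apply_inv_self]
    rw [e]
    interval_cases i
    · rw [hA1']
      have h1 := hc.2 0 (by norm_num) (t⁻¹ u) (by rw [hA0]; exact Subgroup.mem_top _)
      rw [hA1'] at h1
      exact hD t ht _ h1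
    · rw [hA1] at hu
      have h1 := hD t⁻¹ (inv_mem ht) u hu
      have h2 := hc.2 1 (by norm_num) (t⁻¹ u) (by rw [hA1]; exact h1)
      rw [hA2', Subgroup.mem_bot] at h2 ⊢
      rw [h2, map_one]
  have hK : IsPGroup p ((chainStab (F.autGroup E) Ach 2 hanti).subgroupOf (F.autGroup E)) :=
    hCp.comap_of_injective (F.autGroup E).subtype Subtype.coe_injective
  have hle := le_sylow_of_normalizes R hK (by
    intro r hr k hk
    have hr' : r ∈ (R : Subgroup (F.autGroup E)) := hr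
    rw [hR, Subgroup.mem_subgroupOf] at hr'
    rw [Subgroup.mem_subgroupOf] at hk ⊢
    exact hnorm _ hr' _ hk)
  have h1 : (⟨κ, hκ⟩ : F.autGroup E) ∈ (R : Subgroup _) := hle (Subgroup.mem_subgroupOf.2 hκC)
  rw [hR, Subgroup.mem_subgroupOf] at h1
  exact h1

/-- The transvection lemma: let `E` be essential, `γ` separating, `E₀ ⊴ E`, `B` with
`N_S(E) ⊆ B E` and `B` centralizing `E₀`. If `b ∈ B` normalizes `E` with
`[b, E] ≤ E₀ ∩ γ⁻¹(E₀)`, then `b ∈ E`. -/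
theorem tl_b [Finite S] {p : ℕ} [Fact p.Prime] (hS : IsPGroup p S) {F : FusionSystem S}
    (hF : F.IsSaturated p) {E : Subgroup Ω} (hE : F.IsEssential p E) {γ : MulAut E}
    (hγ : γ ∈ F.autGroup E) (hsep : Sep S E γ) (E₀ B : Subgroup Ω)
    (hE₀n : ∀ y ∈ E, ∀ e ∈ E₀, y * e * y⁻¹ ∈ E₀)
    (hdec : ∀ s ∈ normalizerIn S E, ∃ b ∈ B, ∃ e ∈ E, s = b * e)
    (hBc : ∀ b ∈ B, ∀ e ∈ E₀, b * e = e * b)
    {b : Ω} (hbB : b ∈ B) (hbN : b ∈ normalizerIn S E)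
    (hb0 : ∀ y ∈ E, b * y * b⁻¹ * y⁻¹ ∈ E₀)
    (hb1 : ∀ y ∈ E, autFun E γ (b * y * b⁻¹ * y⁻¹) ∈ E₀) : b ∈ E := by
  have hES : E ≤ S := hE.1.1
  have : Finite E := finite_of_le hES
  have hcen : centralizerIn S E ≤ E := hE.1.2 E (Cfsg.Agent.H86.isConj_refl F hES)
  have ha := (saturated_fullyNormalized hS hF hE.2.1).2
  obtain ⟨hbS, hbNn⟩ := mem_normalizerIn_iff.1 hbN
  obtain ⟨β, hβ⟩ := exists_conjAut hbNn
  have hβT : β ∈ autInducedBy S E := (mem_autInducedBy_iff S E β).2 ⟨b, hbS, hβ⟩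
  have hβG : β ∈ F.autGroup E := autInducedBy_le_autGroup F hES hβT
  have hκ : γ * β * γ⁻¹ ∈ F.autGroup E := mul_mem (mul_mem hγ hβG) (inv_mem hγ)
  obtain ⟨D, hDdef⟩ : ∃ D : Subgroup ↥E,
      D = (E₀.subgroupOf E) ⊓ (E₀.subgroupOf E).map γ.toMonoidHom := ⟨_, rfl⟩
  have hD : ∀ t ∈ autInducedBy S E, ∀ u ∈ D, t u ∈ D := by
    intro t ht u hu
    obtain ⟨s, hs, hts⟩ := (mem_autInducedBy_iff S E t).1 ht
    have hsN : s ∈ normalizerIn S E := mem_normalizerIn_iff.2 ⟨hs, mem_normalizer_of_induces hts⟩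
    obtain ⟨b', hb', e, he, rfl⟩ := hdec s hsN
    rw [hDdef] at hu ⊢
    obtain ⟨hu1, hu2⟩ := Subgroup.mem_inf.1 hu
    obtain ⟨v, hv, hvu⟩ := Subgroup.mem_map.1 hu2
    rw [Subgroup.mem_subgroupOf] at hu1
    have h1 : e * (u : Ω) * e⁻¹ ∈ E₀ := hE₀n e he _ hu1
    have htu : t u = ⟨e, he⟩ * u * ⟨e, he⟩⁻¹ := by
      apply Subtype.ext
      rw [hts]
      have h2 := hBc b' hb' _ h1
      show b' * e * (u : Ω) * (b' * e)⁻¹ = e * (u : Ω) * e⁻¹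
      calc b' * e * (u : Ω) * (b' * e)⁻¹ = b' * (e * (u : Ω) * e⁻¹) * b'⁻¹ := by group
        _ = (e * (u : Ω) * e⁻¹) * b' * b'⁻¹ := by rw [h2]
        _ = _ := by group
    rw [htu]
    refine Subgroup.mem_inf.2 ⟨?_, ?_⟩
    · rw [Subgroup.mem_subgroupOf]
      exact h1
    · refine Subgroup.mem_map.2 ⟨γ⁻¹ ⟨e, he⟩ * v * (γ⁻¹ ⟨e, he⟩)⁻¹, ?_, ?_⟩
      · rw [Subgroup.mem_subgroupOf] at hv ⊢
        exact hE₀n _ (γ⁻¹ ⟨e, he⟩).2 _ hv
      · show γ (γ⁻¹ ⟨e, he⟩ * v * (γ⁻¹ ⟨e, he⟩)⁻¹) = _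
        rw [map_mul, map_mul, map_inv, MulAut.apply_inv_self]
        have : γ v = u := hvu
        rw [this]
  have key : ∀ y : ↥E, ((β y * y⁻¹ : ↥E) : Ω) ∈ E₀ ∧ ((γ (β y * y⁻¹) : ↥E) : Ω) ∈ E₀ := by
    intro y
    have e1 : ((β y * y⁻¹ : ↥E) : Ω) = b * (y : Ω) * b⁻¹ * (y : Ω)⁻¹ := by
      push_cast
      rw [hβ]
    refine ⟨by rw [e1]; exact hb0 _ y.2, ?_⟩
    rw [← autFun_apply, e1]
    exact hb1 _ y.2
  have hκ1 : ∀ u : ↥E, u⁻¹ * (γ * β * γ⁻¹) u ∈ D := by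
    intro u
    have e1 : u⁻¹ * (γ * β * γ⁻¹) u = γ ((β (γ⁻¹ u)⁻¹ * ((γ⁻¹ u)⁻¹)⁻¹)⁻¹) := by
      rw [MulAut.mul_apply, MulAut.mul_apply, inv_inv, mul_inv_rev, map_mul, map_inv β, inv_inv,
        map_inv γ, MulAut.apply_inv_self]
    rw [e1, hDdef]
    obtain ⟨k1, k2⟩ := key (γ⁻¹ u)⁻¹
    refine Subgroup.mem_inf.2 ⟨?_, ?_⟩
    · rw [Subgroup.mem_subgroupOf, map_inv]
      exact E₀.inv_mem k2
    · refine Subgroup.mem_map.2 ⟨(β (γ⁻¹ u)⁻¹ * ((γ⁻¹ u)⁻¹)⁻¹)⁻¹, ?_, rfl⟩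
      rw [Subgroup.mem_subgroupOf]
      exact E₀.inv_mem k1
  have hκ2 : ∀ u ∈ D, (γ * β * γ⁻¹) u = u := by
    intro u hu
    rw [hDdef] at hu
    obtain ⟨v, hv, hvu⟩ := Subgroup.mem_map.1 (Subgroup.mem_inf.1 hu).2
    have hvu' : γ v = u := hvu
    rw [← hvu', MulAut.mul_apply, MulAut.mul_apply, MulAut.inv_apply_self]
    congr 1
    apply Subtype.ext
    rw [hβ]
    rw [Subgroup.mem_subgroupOf] at hv
    rw [hBc b hbB _ hv, mul_inv_cancel_right]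
  have hκT : γ * β * γ⁻¹ ∈ autInducedBy S E := mem_autInducedBy_of_stab hS ha D hD hκ hκ1 hκ2
  have hinn := hsep β hβT hκT
  exact mem_of_induces_inner hES hcen hbS hβ hinn

end Cfsg.Agent.H89
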